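import Cfsg.Agent.BZ.RT.Rows
import Cfsg.Agent.BZ.X.AllT

/-!
# BZ / RT (S4853) : the groups with an exceptional multiplier (helper75)
-/

set_option autoImplicit false

namespace Cfsg.Agent.BZ.RT

open Cfsg Cfsg.Lie Cfsg.Agent.BZ.X

/-- the exceptional rows from the triple cover of `Ω₇(3)` -/
theorem xr_of (o73 : ∀ (F : Type) [Field F] [Fintype F], Fintype.card F = 3 → Cov XT 3 2 (POmega F (quadFormOdd 3 F))) : XR :=
  ⟨fun F _ _ => rowT_s62 F, fun F _ _ => rowT_o82 F, fun F _ _ => rowT_g24 F, fun F _ _ => rowT_f42 F, fun F _ _ => rowT_e62 F,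
    fun F _ _ => rowT_g23 F, o73⟩

end Cfsg.Agent.BZ.RT
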