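import Cfsg.Agent.BZ.RT.Defs
import Cfsg.Agent.OM.Lie.Tp

/-!
# BZ / RT (S4853) : the atom in the situation (helper57)
-/

set_option autoImplicit false
set_option linter.unusedSectionVars false

namespace Cfsg.Agent.BZ.RT

open Cfsg Subgroup Cfsg.Agent.DL Cfsg.Agent.KZ.Lie Cfsg.Agent.HZ.Gen Cfsg.Agent.HZ.L Cfsg.Agent.OM

variable {p : ℕ} [Fact p.Prime] {k : Type} [Field k] [CharP k p] [IsAlgClosed k] {Y : Type} [Group Y] {N : Type}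
  [Fintype N] [DecidableEq N] {ρ : Y →* GL N k} {F : MulAut Y} {G : Subgroup Y} {D : Datum p ρ F G} [Fintype ↥(GF F G)]

/-- **[At1]** -/
theorem boxAt1_of (h : BoxAtom D) : BoxAt1 D := by
  intro j B l r m n n' M α 𝔅 P s _ β lam b S ψ hψ f u c h1 h2
  have C := S.cls f
  obtain ⟨h3, ξ₀, h4, h5, -⟩ := L.boxOs.all S.fr S.hM S.top ψ hψ
  obtain ⟨ξ, a1, ξ', a2, a, a', J, a3, a4, a5, a6, a7⟩ := h j B f r P s lam _ ψ u c S.cq.st S.cq.cz S.tp.hu S.tp.fo S.tp.rt S.on C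
    h3 ⟨ξ₀, S.top.sB ξ₀ h4, h5⟩ h1 h2
  have k1 : ∀ x : ℤ, x ^ 2 = 1 → ¬ (l : ℤ) ∣ x := fun x e e' =>
    S.cq.lp.one_lt.ne' (Nat.dvd_one.1 (Int.natCast_dvd_natCast.1 (e ▸ e'.pow two_ne_zero : (l : ℤ) ∣ 1)))
  have k2 : ∀ x : ℤ, x ^ 2 = 1 → (x : ℂ) ≠ 0 := fun x e => Int.cast_ne_zero.2 (by rintro rfl; exact absurd e (by norm_num))
  exact ⟨ξ, S.tp.all ξ (C.rat ξ a1) ψ hψ (a5 ▸ k2 a a3), ξ', S.tp.all ξ' (C.rat ξ' a2) ψ hψ (a6 ▸ k2 a' a4), a, a', J, k1 a a3,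
    k1 a' a4, a5, a6, a7⟩

end Cfsg.Agent.BZ.RT
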