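import Cfsg.Agent.OM.Cas.Eig
import Cfsg.Agent.HZ.L.Bas

/-!
# BZ / RT : the sum over the unipotent elements, twisted groups (helper42)

The proof is that of `OM.Cas.Eig.eig`.
-/

set_option autoImplicit false
set_option linter.unusedSectionVars false

namespace Cfsg.Agent.BZ.RT

open Cfsg Cfsg.Agent.DL Cfsg.Agent.DL.PP Cfsg.Agent.DL.Uni Cfsg.Agent.DL.Asm Cfsg.Agent.Nodes.Reps Matrix
  Cfsg.Agent.Characters.Core Cfsg.Agent.KZ.Lie Polynomial Cfsg.Agent.LV.One Cfsg.Agent.OM.Cas Cfsg.Agent.OM.Cas.Eig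

namespace Et

theorem form {R : Type} [Fintype R] [DecidableEq R] {A : Matrix R R ℤ} {n : ℕ} (hn : 0 < n) (h : A ^ n = 1) :
    (∃ S : Matrix R R ℤ, S.det ≠ 0 ∧ Aᵀ * S * A = S) ∧ A.det * A.det = 1 := by
  obtain ⟨n, rfl⟩ := Nat.exists_eq_succ_of_ne_zero hn.ne'
  let u : (Matrix R R ℤ)ˣ := ⟨A, A ^ n, (pow_succ' A n).symm.trans h, (pow_succ A n).symm.trans h⟩
  have h1 : IsOfFinOrder u := isOfFinOrder_iff_pow_eq_one.2 ⟨n + 1, hn, Units.ext (by rw [Units.val_pow_eq_pow_val]; exact h)⟩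
  have := h1.finite_zpowers.to_subtype
  have := Fintype.ofFinite (Subgroup.zpowers u)
  obtain ⟨S, h2, h3⟩ := exists_form ((Units.coeHom _).comp (Subgroup.zpowers u).subtype)
  refine ⟨⟨S, h2, h3 ⟨u, Subgroup.mem_zpowers u⟩⟩, ?_⟩
  rcases Int.isUnit_iff.1 ((isUnit_iff_isUnit_det A).1 u.isUnit) with e | e <;> simp [e]

variable {p : ℕ} [Fact p.Prime] {k : Type} [Field k] [CharP k p] {Y : Type} [Group Y] {N : Type} [Fintype N]
  [DecidableEq N] {ρ : Y →* GL N k} {F : MulAut Y} {G : Subgroup Y} [IsAlgClosed k] {D : Datum p ρ F G}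

theorem cp_lev {t : ℤ} {B : Matrix D.R D.R ℤ} (ht : 0 < t) (h : D.Mx = t • B) (hB : B.det * B.det = 1) (w : D.W) :
    (C B.det * cp (D.Wm w * B)).eval t = sgZ D w * ordT D w := by
  rw [← Pw_one, Pw_eval', h, det_smul, Int.sign_mul, Int.sign_eq_one_of_pos (pow_pos ht _), one_mul, one_smul, mul_smul_comm,
    eval_mul, eval_C, cp_eval]
  rcases Int.eq_one_or_neg_one_of_mul_eq_one hB with e | e <;> simp [e]

end Et

open Et

variable {p : ℕ} [Fact p.Prime] {k : Type} [Field k] [CharP k p] {Y : Type} [Group Y] {N : Type} [Fintype N]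
  [DecidableEq N] {ρ : Y →* GL N k} {F : MulAut Y} {G : Subgroup Y} [IsAlgClosed k] {D : Datum p ρ F G}

/-- **the sum over the unipotent elements** -/
theorem eigT [Fintype ↥(GF F G)] {e : ℕ} {B : Matrix D.R D.R ℤ} (h : HZ.L.St D e B) {χ : GF F G → ℂ}
    (hχ : IsIrrCharacter (GF F G) χ) : ∃ j : ℕ, usum (GF F G) {v | IsUni p v} χ ^ 2 = ((p ^ e : ℕ) : ℂ) ^ j * χ 1 ^ 2 := by
  have hp : p.Prime := Fact.out
  have := Fintype.ofFinite D.W
  obtain ⟨f⟩ := nonempty_fr D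
  have hq := h.qs
  have he := h.pos
  have hp' : (0 : ℤ) < p := Nat.cast_pos.2 hp.pos
  choose m hm using tot_int f (OddOrderCharacters.VChar.gen_of_irr hχ)
  obtain ⟨n, n0, hn⟩ := h.fin
  have hB := (form n0 hn).2
  have hσ : ∀ w, sgZ D w * sgZ D w = 1 := fun w => by rcases sgZ_sign D w with h | h <;> simp [h]
  obtain ⟨P, hP⟩ : ∃ P : D.W → ℤ[X], ∀ w, P w = C B.det * cp (D.Wm w * B) := ⟨_, fun _ => rfl⟩
  have h1 : ∀ w, (P w).eval ((p : ℤ) ^ e) = sgZ D w * ordT D w := fun w => hP w ▸ cp_lev (pow_pos hp' e) h.mx hB w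
  have h2 : ∀ (l : ℕ) (hl : 0 < l), l ≡ 1 [MOD n] → ∀ w : D.W, (P w).eval ((p : ℤ) ^ (e * l)) =
      sgZ (D.pow hl) w * ordT (D.pow hl) w := fun l hl h3 w => hP w ▸ cp_lev (D := D.pow hl) (pow_pos hp' _) (by
    show D.Mx ^ l = _
    rw [h.mx, _root_.smul_pow, ← pow_mul, pow_eq_pow_of_modEq h3 hn, pow_one]) hB w
  have key : ∀ m : D.W → ℤ, (Sm P m).eval ((p : ℤ) ^ e) ≠ 0 →
      (∀ K : ℕ, ∃ j ν : ℕ, K < j ∧ (Sm P m).eval ((p : ℤ) ^ j) ∣
        (p : ℤ) ^ ν * (Sm P fun w => sgZ D w * m w).eval ((p : ℤ) ^ j)) →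
      ∃ a b : ℕ, ∀ t : ℤ, (t ^ a * (Sm P fun w => sgZ D w * m w).eval t) ^ 2 = (t ^ b * (Sm P m).eval t) ^ 2 := fun m h3 => by
    have h4 := fun (x : ℚ) (hx : x ≠ 0) => sym_Sm P (sgZ D) hσ (r := Fintype.card D.R) (s := (-1) ^ Fintype.card D.R * B.det)
      (x := x) fun w => by
        obtain ⟨n', n1, n2⟩ := h.fin' w
        obtain ⟨⟨S, s1, s2⟩, s3⟩ := form n1 n2
        have s4 := cp_sym s2 s1 s3 hx
        rw [det_mul, show (D.Wm w).det = sgZ D w from rfl, Int.cast_mul] at s4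
        rw [hP, map_mul, map_mul, aeval_C, aeval_C, mul_left_comm, s4]
        ring
    refine mono hp (mul_ne_zero (pow_ne_zero _ (mul_ne_zero (pow_ne_zero _ (neg_ne_zero.2 one_ne_zero))
      (Int.cast_ne_zero.2 (left_ne_zero_of_mul_eq_one hB)))) (Int.cast_ne_zero.2
      (Finset.prod_ne_zero_iff.2 fun w _ => left_ne_zero_of_mul_eq_one (hσ w)))) (fun e => h3 (by rw [e, eval_zero]))
      (fun x hx => h4 x hx m) fun x hx => ?_
    simpa only [← mul_assoc, hσ, one_mul] using h4 x hx fun w => sgZ D w * m w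
  obtain ⟨ω, k1, k2, k3⟩ := lev_om hq f h1 (ε := 1) (m := m) (fun w => by rw [hm, one_mul]) hχ one_ne_zero
  obtain ⟨a, b, k4⟩ := key m k2 fun K => by
    obtain ⟨l, hl, _, f', χ', ε, h3, h8, h4, h5, h6⟩ := LV.Lift.exists_lift f hχ K n n0.ne'
    obtain ⟨ω', -, -, h7⟩ := lev_om (D := D.pow hl) (pow_QS hq hl) f' (h2 l hl h8) (ε := ε) (m := m)
      (fun w => by rw [finsum_congr (h6 w), ← mul_finsum, hm]) h4 (by rcases h5 with rfl | rfl <;> simp)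
    exact ⟨e * l, _, h3.trans_le (Nat.le_mul_of_pos_left _ he), Dvd.intro_left _ (h7.trans (congrArg (· * _) (Nat.cast_pow _ _)))⟩
  have k5 := (lev_ord hq f h1).2
  have e1 : (fun w => sgZ D w * (1 : D.W → ℤ) w) = sgZ D := funext fun w => mul_one _
  obtain ⟨a', b', k6⟩ := key 1 k5 fun K => ⟨e * (n * K + 1), 0, (Nat.lt_succ_of_le (Nat.le_mul_of_pos_left _ n0)).trans_le
    (Nat.le_mul_of_pos_left _ he), by
    rw [e1, pow_zero, one_mul]
    exact Dvd.intro_left _ (KM.Deg.lev_pc (D := D.pow (n * K).succ_pos) (pow_QS hq _) (nonempty_fr _).some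
      (h2 _ (n * K).succ_pos (Nat.mul_add_mod n K 1)))⟩
  have k7 := KM.Deg.lev_pc hq f h1
  have k8 := k4 ((p : ℤ) ^ e)
  have k9 := k6 ((p : ℤ) ^ e)
  rw [e1, ← k7] at k9
  generalize (Sm P 1).eval ((p : ℤ) ^ e) = B₁ at k5 k9
  generalize (Sm P m).eval ((p : ℤ) ^ e) = B₂ at k2 k3 k8
  generalize (Sm P fun w => sgZ D w * m w).eval ((p : ℤ) ^ e) = A at k3 k8
  obtain ⟨j, hj⟩ := exists_pow (Q := (p : ℤ) ^ e) (z := ω ^ 2) (i := 2 * a + 2 * a') (j := 2 * b + 2 * b')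
    (one_lt_pow₀ (Nat.one_lt_cast.2 hp.one_lt) he.ne') (by
      generalize (p : ℤ) ^ e = Q at k8 k9
      refine mul_left_cancel₀ (mul_ne_zero (pow_ne_zero 2 k2) (pow_ne_zero 2 k5)) ?_
      linear_combination (B₁ * Q ^ a * Q ^ a') ^ 2 * (ω * B₂ + pc p (GF F G) * A) * k3 +
        (B₁ * Q ^ a' * pc p (GF F G)) ^ 2 * k8 + (Q ^ b * B₂) ^ 2 * k9)
  refine ⟨j, ?_⟩
  rw [k1, mul_pow, ← Int.cast_pow, hj]
  push_cast
  rfl

end Cfsg.Agent.BZ.RT
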