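import Cfsg.Agent.BZ.RT.AtM
import Cfsg.Agent.BZ.RT.EigT

/-!
# BZ / RT (S4853) : the atom (helper42)

* `At.single` : a sum of squares which divides one;  `At.one` : the member for a sign character;  `At.deg` : its degree;
* `boxAtom`.
-/

set_option autoImplicit false
set_option linter.unusedSectionVars false
set_option maxHeartbeats 400000

namespace Cfsg.Agent.BZ.RT

open Cfsg Cfsg.Agent.DL Cfsg.Agent.DL.PP Matrix Cfsg.Agent.KZ.Lie Cfsg.Agent.HZ.Gen Cfsg.Agent.HZ.L Cfsg.Agent.OM.On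
  Cfsg.Agent.Characters.Core Subgroup Cfsg.Agent.DL.Uni Cfsg.Agent.OddOrderCharacters.VChar
open Cfsg.Agent.HZ.L.X (Zc Qv)
open Cfsg.Agent.OM.Cas (Rf cas)

namespace At

theorem single {ι : Type*} {S : Finset ι} {m : ι → ℤ} (h : ∀ i ∈ S, m i ≠ 0) {n : ℕ} (e : (∑ i ∈ S, m i ^ 2) * n = 1) :
    ∃ i, S = {i} ∧ m i ^ 2 = 1 := by
  have h1 : ∑ i ∈ S, m i ^ 2 = 1 := Int.eq_one_of_mul_eq_one_right (Finset.sum_nonneg fun _ _ => sq_nonneg _) e
  have h2 : (S.card : ℤ) ≤ 1 := by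
    rw [← h1, ← mul_one (S.card : ℤ), ← nsmul_eq_mul, ← Finset.sum_const]
    exact Finset.sum_le_sum fun i hi => sq_pos_of_ne_zero (h i hi)
  obtain ⟨i, rfl⟩ := Finset.card_eq_one.1 (le_antisymm (Nat.cast_le.1 h2) (Finset.card_pos.2
    (Finset.nonempty_of_sum_ne_zero (h1 ▸ one_ne_zero))))
  exact ⟨i, rfl, (Finset.sum_singleton (fun i => m i ^ 2) i).symm.trans h1⟩

theorem le_sq {Y : Type} [Group Y] {S : Subgroup Y} [Fintype S] {Un : Set Y} {ψ : S → ℂ} (hψ : IsIrrCharacter S ψ)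
    {Q j : ℕ} (h : OM.Cas.usum S Un ψ ^ 2 = (Q : ℂ) ^ j * ψ 1 ^ 2) : Q ^ j ≤ Nat.card S ^ 2 := by
  have h1 := H418.CC.charDegree_eq (isIrr_isCharacter hψ)
  have h2 : ‖OM.Cas.usum S Un ψ‖ ≤ Nat.card S * charDegree ψ := by
    rw [Nat.card_eq_fintype_card, ← nsmul_eq_mul, ← Finset.card_univ, ← Finset.sum_const]
    refine norm_sum_le_of_le _ fun v _ => ?_
    split_ifs
    · exact H418.CC.norm_le (isIrr_isCharacter hψ) v
    · simp
  have h3 := pow_le_pow_left₀ (norm_nonneg _) h2 2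
  have h4 : 0 < charDegree ψ := Nat.pos_of_ne_zero fun k => isIrr_apply_one_ne_zero hψ (by rw [h1, k, Nat.cast_zero])
  rw [← norm_pow, h, h1, norm_mul, norm_pow, norm_pow, Complex.norm_natCast, Complex.norm_natCast, mul_pow,
    mul_le_mul_iff_left₀ (by positivity)] at h3
  exact_mod_cast h3

variable {p : ℕ} [Fact p.Prime] {k : Type} [Field k] [CharP k p] [IsAlgClosed k] {Y : Type} [Group Y] {N : Type}
  [Fintype N] [DecidableEq N] {ρ : Y →* GL N k} {F : MulAut Y} {G : Subgroup Y} {D : Datum p ρ F G}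
  {j : ℕ} {B : Mat D.R} {c : Lbl D} {s : Sb D} {u : s.E.W} [Fintype D.W] [Fintype ↥(GF F G)] {f : Fr D} [Fintype ↥(GF F s.K)]
  [Fintype s.E.W] {r : ℕ} [Fact r.Prime] {P : Subgroup ↥(GF F G)} {ψ : IrrCharacter ↥(GF F s.K)}
  {Γ : Set (IrrCharacter ↥(GF F G))} [Fintype (Hs D (P1 s c))] [Fintype (Hs D (P2 s c))]
  (h : St D j B) (hz : Cz p (rts D)) (hz' : Cz p (rts s.E)) (hu : Hu1 D r) (hs : s.For r P) (h1 : On1 s.E) (hΓ : Cls f r Γ)
  (hT : Lab.Tight r s.ι P (ψ : GF F s.K → ℂ)) (h0 : ∃ ξ ∈ Γ, classInner (s.rs r P ξ.1) ψ ≠ 0) (hc : Has (s.fr f) ψ u c) (C : Cfg s c)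

include hz' hc in
theorem top_mem {u' : s.E.W} (e : Fx s.E u' c) : ∃ x ∈ Hs D (P1 s c), s.sw u' * s.w = x * (s.sw u * s.w) := by
  obtain ⟨d, i, L⟩ := exists_lvl s.E
  exact ⟨_, mem1 hz' hc.fo (s.rel_iff.1 (hc.fx.div e L)), by rw [map_mul, map_inv, mul_assoc, inv_mul_cancel_left]⟩

include h hz hz' hu hs h1 hΓ hT h0 hc C in
/-- **the member which belongs to a sign character** -/
theorem one (ε : D.W →* ℂ) {e : ℂ} (he : e * e = 1) (hε : ∀ t ∈ Rs D (P2 s c), ε t = e) (hF : ∀ x, ε (D.Fw x) = ε x)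
    (h2 : ∀ x, ε x * ε x = 1) : ∃ ξ ∈ Γ, ∃ a : ℤ, a ^ 2 = 1 ∧ classInner (s.rs r P ξ.1) ψ = a ∧
      (∀ w c', Has f ξ.1 w c' → Cj (rts D) c c') ∧ ∀ x ∈ Hs D (P1 s c), ∀ y ∈ Hs D (P2 s c),
        a * classInner ξ.1 (RW f (x * y * (s.sw u * s.w)) c) = ε y * yb f s ψ c (x * (s.sw u * s.w)) := by
  classical
  have := finite_irr (G := GF F G)
  have := Fintype.ofFinite (IrrCharacter ↥(GF F G))
  obtain ⟨ξ₀, k1, k2⟩ := h0
  have k3 := ord_c hu hs (hΓ.rat _ k1) k2 hc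
  obtain ⟨u₁, k4⟩ := has_top hu hs h1 hc hT (hΓ.rat _ k1) k2
  obtain ⟨T, k5, k6, k7⟩ := top hu hs f hT
  obtain ⟨n, k8, k9⟩ := del h1 hc k5 k6
  choose κ hκ using fun ξ : IrrCharacter ↥(GF F G) => cas1 f h.qs ξ.2
  obtain ⟨κ₀, k10⟩ := cas1 (s.fr f) hs.qs ψ.2
  set S := Finset.univ.filter fun ξ : IrrCharacter ↥(GF F G) => ξ ∈ Γ ∧ classInner (s.rs r P ξ.1) ψ ≠ 0 with hS
  let y : Lbl D → IrrCharacter ↥(GF F G) → D.W → ℂ := fun c' ξ w => classInner (s.rs r P ξ.1) ψ * classInner ξ.1 (RW f w c')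
  have k11 : ∀ c' ξ, cs (fs D (Zc (rts D) c')) (y c' ξ) = ((κ ξ : ℂ) / 2) • y c' ξ := fun c' ξ => funext fun w => by
    have k11 := hκ ξ c' w
    rw [cas_cs, cs_apply] at k11
    rw [cs_apply, ← Finset.mul_sum, k11, Pi.smul_apply, smul_eq_mul, mul_left_comm]
  have k12 : ∀ w, (∑ ξ ∈ S, y c ξ) w = ∑ b : Hs D (P2 s c), yb f s ψ c (b * w * (D.Fw b)⁻¹) := fun w => by
    rw [Finset.sum_apply, ← ind2 hu hs h1 hc h hz hz' C k3]
    exact sum_eq fun ξ => hΓ.cl ξ₀ k1 ξ _ _ _ k4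
  have k13 := ext (R₁ := fs D (P1 s c)) (R₂ := fs D (P2 s c))
    (fun a ha b hb => hs_comm e1 e2 C.ho a (subset_closure (mem_fs.1 ha)) b (subset_closure (mem_fs.1 hb))) ε he
    (fun t ht => hε t (mem_fs.1 ht)) hs_fs S (fun ξ => (κ ξ : ℂ) / 2) (y c) (fun ξ _ => (cs_add C _).symm.trans (k11 c ξ))
    (κ₀ := (κ₀ : ℂ) / 2) (funext fun w => by
      simp only [cs_apply, Pi.smul_apply, k12, smul_eq_mul]
      rw [Finset.sum_comm, Finset.mul_sum]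
      refine Finset.sum_congr rfl fun b _ => ?_
      rw [← cas_yb (k10 c)]
      refine Finset.sum_congr rfl fun t ht => ?_
      rw [← mul_assoc, ← hs_comm e1 e2 C.ho t (subset_closure (mem_fs.1 ht)) b b.2, mul_assoc, mul_assoc, mul_assoc])
  set k₀ := (κ₀ : ℂ) / 2 + e * (fs D (P2 s c)).card
  have k14 : ∀ x ∈ Hs D (P1 s c), ∀ z ∈ Hs D (P2 s c), (∑ ξ ∈ S with (κ ξ : ℂ) / 2 = k₀, y c ξ) (x * z * (s.sw u * s.w)) =
      ε z * yb f s ψ c (x * (s.sw u * s.w)) := fun x hx z hz => by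
    refine mul_left_cancel₀ (Nat.cast_ne_zero.2 (Nat.card_pos (α := Hs D (P2 s c))).ne') ((k13 _).trans ?_)
    rw [← avg (φ := fun v => s.sw u * s.w * D.Fw v * (s.sw u * s.w)⁻¹) (y := fun x => yb f s ψ c (x * (s.sw u * s.w)))
      (hs_comm e1 e2 C.ho) (hs_disj e1 e2 C.ho) (fun v hv => hs_tw h e2 (nm2 h hs.qs hc.fx) hv) ε (fun v => by
        rw [map_mul, map_mul, hF, mul_right_comm, ← map_mul, mul_inv_cancel, map_one, one_mul]) h2 (fun v hv => by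
        by_contra k14
        obtain ⟨u', k15, k16⟩ := yb_ne k14
        obtain ⟨x, hx, k17⟩ := top_mem hz' hc k16.fx
        exact hv (mul_right_cancel (k15.symm.trans k17) ▸ hx)) hx hz]
    refine Finset.sum_congr rfl fun b _ => ?_
    rw [k12]
    refine congrArg _ (Finset.sum_congr rfl fun v _ => congrArg _ ?_)
    group
  choose! m k15 k16 using k7
  have k17 : ∀ ξ ∈ S, RatR r ξ.1 ∧ classInner (s.rs r P ξ.1) ψ ≠ 0 := fun ξ hξ =>
    ⟨hΓ.rat ξ (Finset.mem_filter.1 hξ).2.1, (Finset.mem_filter.1 hξ).2.2⟩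
  obtain ⟨ξ, k18, k19⟩ := single (S := S.filter fun ξ => (κ ξ : ℂ) / 2 = k₀) (m := m) (n := n) (fun ξ hξ e => by
    have k18 := k17 ξ (Finset.mem_filter.1 hξ).1
    exact k18.2 (by rw [k15 ξ k18.1 k18.2, e, Int.cast_zero])) (by
    refine Int.cast_injective (α := ℂ) (mul_right_cancel₀ (mul_ne_zero (Nat.cast_ne_zero.2
      (Nat.card_pos (α := LV.Lab.St s.E c)).ne') (irr_one_ne ψ.2)) ?_)
    rw [Int.cast_mul, Int.cast_natCast, mul_assoc, ← k9, Int.cast_one, one_mul, val_red (s.fr f) fun w c' => h1 _ _ ψ.2 _ _ _ _ hc,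
      Finset.mul_sum]
    refine Finset.sum_congr rfl fun u' _ => ?_
    by_cases k18 : Fx s.E u' c
    swap
    · rw [RW_zero _ k18, Pi.zero_apply, mul_zero, mul_zero, mul_zero]
    obtain ⟨x, hx, k19⟩ := top_mem hz' hc k18
    have k20 := k14 x hx 1 (one_mem _)
    rw [mul_one, map_one, one_mul, ← k19, yb_sw, Finset.sum_apply] at k20
    rw [← k20, ← mul_assoc, Int.cast_sum, Finset.sum_mul]
    refine congrArg (· * _) (Finset.sum_congr rfl fun ξ hξ => ?_)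
    have k21 := k17 ξ (Finset.mem_filter.1 hξ).1
    show _ = classInner _ _ * classInner _ _
    rw [k15 ξ k21.1 k21.2, k16 ξ k21.1 k21.2, Int.cast_pow, sq, mul_assoc])
  have k20 := (Finset.mem_filter.1 (k18 ▸ Finset.mem_singleton_self ξ)).1
  have k21 := k17 ξ k20
  refine ⟨ξ, (Finset.mem_filter.1 k20).2.1, m ξ, k19, k15 ξ k21.1 k21.2, fun w c' k22 => by_contra fun k23 => ?_, fun x hx z hz => ?_⟩
  · have k24 := congrFun (indep _ S (fun ξ => (κ ξ : ℂ) / 2) (y c') (fun ξ _ => k11 c' ξ) (funext fun w' => by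
      rw [Finset.sum_apply, Pi.zero_apply, ← ind0 hu hs h1 hc (ord_c' hu k21.1 k22) k23 w']
      exact sum_eq fun ξ' => hΓ.cl ξ (Finset.mem_filter.1 k20).2.1 ξ' _ _ _ k22) k₀) w
    rw [k18, Finset.sum_singleton] at k24
    exact mul_ne_zero k21.2 k22 k24
  · rw [← k14 x hx z hz, k18, Finset.sum_singleton, ← k15 ξ k21.1 k21.2]

include h hz hs hc C in
/-- **the degree and the sum over the unipotent elements** -/
theorem deg : ∃ α β : ℂ, ∀ (ξ : GF F G → ℂ) (a : ℤ) (ε : D.W → ℂ), a ^ 2 = 1 → (∀ w c', Has f ξ w c' → Cj (rts D) c c') →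
    (∀ x ∈ Hs D (P1 s c), ∀ y ∈ Hs D (P2 s c),
      a * classInner ξ (RW f (x * y * (s.sw u * s.w)) c) = ε y * yb f s ψ c (x * (s.sw u * s.w))) →
    ξ 1 ^ 2 = α ^ 2 * (∑ y : Hs D (P2 s c), ε y * sg D y * (ordT D (y * (s.sw u * s.w)) : ℂ)⁻¹) ^ 2 ∧
      OM.Cas.usum (GF F G) {v | IsUni p v} ξ ^ 2 = β ^ 2 * (∑ y : Hs D (P2 s c), ε y * (ordT D (y * (s.sw u * s.w)) : ℂ)⁻¹) ^ 2 := by
  obtain ⟨d, i, L⟩ := exists_lvl D
  have k1 := s.fx_iff.1 hc.fx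
  have k2 := nm2 h hs.qs hc.fx
  have k0 := hc.fo
  generalize s.sw u * s.w = w at k1 k2 ⊢
  have k3 : ∀ g : D.W → ℂ, (∀ w', ¬ Fx D w' c → g w' = 0) →
      ∑ w', g w' = ∑ x : Hs D (P1 s c), ∑ y : Hs D (P2 s c), g (x * y * w) := fun g hg =>
    sum_prod (hs_disj e1 e2 C.ho) w fun w' e => by
      obtain ⟨x, hx, y, hy, e'⟩ := dec C hz k0 (k1.div (not_not.1 (mt (hg w') e)) L)
      exact ⟨x, hx, y, hy, by rw [← e', inv_mul_cancel_right]⟩
  have k4 : ∀ w, (ordT D w : ℂ) ≠ 0 := fun w => Nat.cast_ne_zero.2 (ordT_ne w)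
  have k5 : ∀ (x : Hs D (P1 s c)) (y : Hs D (P2 s c)), (ordT D (x * y * w) : ℂ)⁻¹ =
      ordT D w * (ordT D (x * w) : ℂ)⁻¹ * (ordT D (y * w) : ℂ)⁻¹ := fun x y => by
    have k5 : (ordT D (x * y * w) : ℂ) * ordT D w = ordT D (x * w) * ordT D (y * w) := by
      exact_mod_cast ord_fac h e1 e2 C.ho k2 x.2 y.2
    have := k4 (x * y * w)
    have := k4 (x * w)
    have := k4 (y * w)
    field_simp
    linear_combination -k5
  have k6 : (Nat.card (LV.Lab.St D c) : ℂ) ≠ 0 := Nat.cast_ne_zero.2 Nat.card_pos.ne'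
  refine ⟨(Nat.card (LV.Lab.St D c) : ℂ)⁻¹ * ∑ x : Hs D (P1 s c), yb f s ψ c (x * w) * (sg D x * sg D w * pc' p (GF F G)) *
      (ordT D w * (ordT D (x * w) : ℂ)⁻¹), (Nat.card (LV.Lab.St D c) : ℂ)⁻¹ * (Nat.card (GF F G) *
      ∑ x : Hs D (P1 s c), yb f s ψ c (x * w) * (ordT D w * (ordT D (x * w) : ℂ)⁻¹)), fun ξ a ε k7 k8 k9 => ?_⟩
  have k10 : (a : ℂ) ^ 2 = 1 := by exact_mod_cast k7
  have k11 : ∀ z z' : ℂ, a * z = z' → z ^ 2 = z' ^ 2 := fun z z' e => by rw [← e, mul_pow, k10, one_mul]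
  rw [← mul_pow, ← mul_pow]
  refine ⟨k11 _ _ ?_, k11 _ _ ?_⟩
  · rw [mul_assoc, eq_inv_mul_iff_mul_eq₀ k6, mul_left_comm, val_red f k8, k3 _ fun w' e => by rw [RW_zero f e, Pi.zero_apply, mul_zero],
      Finset.sum_mul_sum, Finset.mul_sum]
    refine Finset.sum_congr rfl fun x _ => ?_
    rw [Finset.mul_sum]
    refine Finset.sum_congr rfl fun y _ => ?_
    rw [← mul_assoc, k9 x x.2 y y.2, (eq_mul_inv_iff_mul_eq₀ (k4 _)).2
      (RW_deg f h.qs (k1.mul ((rel2 y.2).trans (rel1 x.2)))), k5, sg_mul, sg_mul]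
    ring
  · rw [mul_assoc, eq_inv_mul_iff_mul_eq₀ k6, mul_left_comm, gam_red f k8, k3 _ fun w' e => by
      rw [RW_zero f e, classInner_zero_right, mul_zero], mul_left_comm, mul_assoc, Finset.sum_mul_sum, Finset.mul_sum]
    refine congrArg _ (Finset.sum_congr rfl fun x _ => ?_)
    rw [Finset.mul_sum]
    refine Finset.sum_congr rfl fun y _ => ?_
    rw [mul_left_comm, k9 x x.2 y y.2, k5]
    ring

end At

open At in
theorem boxAtom {p : ℕ} [Fact p.Prime] {k : Type} [Field k] [CharP k p] [IsAlgClosed k] {Y : Type} [Group Y] {N : Type}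
    [Fintype N] [DecidableEq N] {ρ : Y →* GL N k} {F : MulAut Y} {G : Subgroup Y} (D : Datum p ρ F G) : BoxAtom D := by
  intro _ j B f r P s _ lam Γ ψ u c h hz hu hs hl h1 hΓ hT h0 hc C
  have : Fact r.Prime := ⟨hu.prime⟩
  have := Fintype.ofFinite D.W
  have := @Fintype.ofFinite s.E.W (Finite.of_injective _ s.sw_injective)
  have := Fintype.ofFinite (Hs D (P1 s c))
  have := Fintype.ofFinite (Hs D (P2 s c))
  have hz' : Cz p (rts s.E) := hl ▸ X.Adm.cz lam hz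
  obtain ⟨α, β, k1⟩ := deg h hz hs hc C
  obtain ⟨ξ, k2, a, k3, k4, k5, k6⟩ := At.one h hz hz' hu hs h1 hΓ hT h0 hc C 1 (one_mul 1) (fun _ _ => rfl) (fun _ => rfl) fun _ => one_mul 1
  obtain ⟨ξ', k2', a', k3', k4', k5', k6'⟩ := At.one h hz hz' hu hs h1 hΓ hT h0 hc C ((Int.castRingHom ℂ).toMonoidHom.comp (sgZ D))
    (e := -1) (by norm_num) (fun t ht => (congrArg (Int.cast : ℤ → ℂ) (sg_rs e2 ht)).trans (by simp)) (sg_Fw D) (sg_mul_self D)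
  obtain ⟨k7, k8⟩ := k1 ξ.1 a _ k3 k5 k6
  obtain ⟨k7', k8'⟩ := k1 ξ'.1 a' (sg D) k3' k5' k6'
  obtain ⟨i, k9⟩ := eigT h ξ.2
  obtain ⟨i', k9'⟩ := eigT h ξ'.2
  simp only [MonoidHom.one_apply, one_mul, sg_mul_self] at k7 k8 k7'
  obtain ⟨t, ht, ht'⟩ := C.ne
  obtain ⟨b, hb, rfl⟩ := ht.1
  have k10 : D.rf b ∈ Rs D (P2 s c) := ⟨_, ⟨ht, ht'⟩, (rfm_eq hb).symm⟩
  have k11 : ∀ w, (0 : ℝ) < (ordT D w : ℝ)⁻¹ := fun w => inv_pos.2 (Nat.cast_pos.2 (Nat.pos_of_ne_zero (ordT_ne w)))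
  have k12 : ∀ w, ((sgZ D w : ℤ) : ℝ) ≤ 1 ∧ -((sgZ D w : ℤ) : ℝ) ≤ 1 := fun w => by rcases sgZ_sign D w with e | e <;> simp [e]
  obtain ⟨J, k13, k14, k15⟩ := ratio (g := ∑ y : Hs D (P2 s c), (sgZ D y : ℤ) * (ordT D (y * (s.sw u * s.w)) : ℝ)⁻¹)
    (h := ∑ y : Hs D (P2 s c), (ordT D (y * (s.sw u * s.w)) : ℝ)⁻¹) (abs_lt.2 ⟨neg_lt.1 (by
      rw [← Finset.sum_neg_distrib]
      refine Finset.sum_lt_sum (fun y _ => ?_) ⟨1, Finset.mem_univ _, ?_⟩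
      · rw [← neg_mul]
        exact mul_le_of_le_one_left (k11 _).le (k12 _).2
      · rw [OneMemClass.coe_one, map_one, Int.cast_one, one_mul]
        exact neg_lt_self (k11 _)), Finset.sum_lt_sum (fun y _ => mul_le_of_le_one_left (k11 _).le (k12 _).1)
      ⟨⟨_, subset_closure k10⟩, Finset.mem_univ _, by
        rw [sg_rs e2 k10, Int.cast_neg, Int.cast_one, neg_one_mul]
        exact neg_lt_self (k11 _)⟩⟩) (Nat.one_lt_pow h.pos.ne' (Fact.out : p.Prime).one_lt) (a := α) (b := β)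
    (by rw [k7]; push_cast; rfl) (by rw [k7']; push_cast; rfl) (by rw [k8]; push_cast; rfl) (by rw [k8']; push_cast; rfl)
    k9 k9' (irr_one_ne ξ.2)
  exact ⟨ξ, k2, ξ', k2', a, a', J, k3, k3', k4, k4', k13,
    (Nat.pow_le_pow_right (pow_pos (Fact.out : p.Prime).pos j) k14).trans (le_sq ξ.2 k9), k15⟩

end Cfsg.Agent.BZ.RT
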