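import Cfsg.Agent.OM.Cu.Glue
import Cfsg.Agent.OM.Cu.Orb
import Cfsg.Agent.OM.Cu.Tr
import Cfsg.Agent.OM.Cu.SA
import Cfsg.Agent.OM.Cu.SB
import Cfsg.Agent.OM.Cu.A
import Cfsg.Agent.OM.Cu.B
import Cfsg.Agent.OM.Cu.Ch
import Cfsg.Agent.OM.Cu.Rs
import Cfsg.Agent.OM.Cu.Eig
import Cfsg.Agent.OM.Cu.Base
import Cfsg.Agent.OM.Cu.Sat
import Cfsg.Agent.OM.Cu.Lang

/-!
# BZ / RT : the cuspidal Weyl group lemma for the prime two (helper73)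

A function with the hypotheses `OM.Cu.Hy` for `l = 2` vanishes on the whole coset as soon as one component has a type other than
`D₄`, `E₆`, `E₈`, `F₄`, `G₂`.
-/

set_option autoImplicit false
set_option linter.unusedSectionVars false

namespace Cfsg.Agent.BZ.RT.Z2

open Cfsg Matrix Cfsg.Agent.DL Cfsg.Agent.DL.PP Cfsg.Agent.KZ.Lie Cfsg.Agent.HZ.L Cfsg.Agent.BZ.TA Cfsg.Agent.BZ.TA.Cl
  Cfsg.Agent.OM.Cu
open Cfsg.Agent.LV.Cl (SG sm tt sm_apply)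

section Comb

variable {R I : Type} [Fintype R] [DecidableEq R] [Fintype I] [DecidableEq I]

/-- the function vanishes on the whole coset -/
def Z (Ψ : RS R) (B : Mat R) : Prop :=
  ∀ (q : ℤ) (d e : ℕ) (f : Mat R → ℂ), Pq q 2 d e → Hy Ψ B q 2 d f → ∀ A, Co Ψ B A → f A = 0

/-- the types which survive -/
def Sv {J : Type} (C : Matrix J J ℤ) : Prop :=
  Ty C 4 (cT 1 4) ∨ Ty C 6 (cT 2 6) ∨ Ty C 8 (cT 2 8) ∨ Ty C 4 (cF (-1) (-2)) ∨ Ty C 2 (c2 (-1) (-3))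

variable {P : Matrix R I ℤ} {Ψ : RS R} {A B : Mat I} {A' B' : Mat R} {C : Mat I} {D : I → ℤ} {q : ℤ} {l d e : ℕ}

theorem hy_dn (T : Tr P (Rc C) Ψ) (H : Rs C D) (h : B' * P = P * B) (hB : Nm B' Ψ) {f : Mat I → ℂ} (Y : Hy (Rc C) B q l d f) :
    Hy Ψ B' q l d fun X => f (TrL.dn P X) := by
  refine ⟨fun u hu X hX => ?_, fun X hX hb => ?_, fun X hX hb τ hτ => ?_⟩
  all_goals obtain ⟨X₀, h3, h4⟩ := T.co_dn h hX
  · obtain ⟨u₀, h5, h6⟩ := T.ww_dn hu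
    rw [T.dn_eq (Tr.mul h6 h4), T.dn_eq (Tr.mul h4 h6), Y.cj u₀ h5 X₀ h3]
  · rw [T.dn_eq h4]
    exact Y.bad X₀ h3 (hb.imp fun _ hb => ⟨hb.1, (T.eig H h4 (T.nm_co hB hX)).2 hb.2⟩)
  · have h5 : τ ᵥ* P = τ ᵥ* P + (l : ℤ) • 0 := by rw [smul_zero, add_zero]
    rw [T.sum_eq H h5 (F := fun ρ => f (ρ * X₀)) fun ρ _ ρ' _ e => by rw [T.dn_eq (Tr.mul e h4)]]
    exact Y.rel X₀ h3 (hb.imp fun _ hb => ⟨hb.1, (T.eig H h4 (T.nm_co hB hX)).2 hb.2⟩) _ ((T.ft h4 h5).2 hτ)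

theorem hy_up (T : Tr P (Rc C) Ψ) (H : Rs C D) (h : B' * P = P * B) (hB : Nm B' Ψ) (hl : l.Prime) (hs : Sat l P) {f : Mat R → ℂ}
    (Y : Hy Ψ B' q l d f) : Hy (Rc C) B q l d fun X => f (TrL.up P Ψ B' X) := by
  refine ⟨fun u hu X hX => ?_, fun X hX hb => ?_, fun X hX hb τ hτ => ?_⟩
  all_goals obtain ⟨X', h3, h4⟩ := T.co_up h hX
  · obtain ⟨u', h5, h6⟩ := T.ww_up hu
    rw [T.up_eq H h hB (TrL.co_left h5 h3) (Tr.mul h6 h4), T.up_eq H h hB (TrL.co_right hB h5 h3) (Tr.mul h4 h6), Y.cj u' h5 X' h3]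
  · rw [T.up_eq H h hB h3 h4]
    exact Y.bad X' h3 (hb.imp fun _ hb => ⟨hb.1, T.eig_up h4 hb.2⟩)
  · obtain ⟨τ', σ, h5⟩ := TrL.exists_lift hl hs τ
    rw [← T.sum_eq H h5 (F' := fun ρ => f (ρ * X')) fun ρ _ ρ' h6 e => by
      rw [T.up_eq H h hB (TrL.co_left h6 h3) (Tr.mul e h4)]]
    exact Y.rel X' h3 (hb.imp fun _ hb => ⟨hb.1, T.eig_up h4 hb.2⟩) _ ((T.ft h4 h5).1 hτ)

theorem z_dn (T : Tr P (Rc C) Ψ) (H : Rs C D) (h : B' * P = P * B) (hB : Nm B' Ψ) (hz : Z Ψ B') : Z (Rc C) B :=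
  fun q d e f hq Y A hA => by
    obtain ⟨A', h1, h2⟩ := T.co_up h hA
    have := hz q d e _ hq (hy_dn T H h hB Y) A' h1
    rwa [T.dn_eq h2] at this

theorem z_co (h2 : ∀ a ∈ Ψ, a.1 ⬝ᵥ a.2 = 2) (h : Z Ψ B') (hA : Co Ψ B' A') : Z Ψ A' :=
  fun q d e f hq hf X hX => h q d e f hq (hf.mono (hA.symm h2)) X (hA.trans hX)

/-- from the standard index set to any index set -/
theorem z_re {n : ℕ} {c : ℕ → ℕ → ℤ} (hs : ∀ π : Equiv.Perm (Fin n), (∀ i j, c (π i) (π j) = c i j) → Z (Rc (cm n c)) (pm π))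
    (h : Car C D) (t : Ty C n c) (hB : Nm B (Rc C)) : Z (Rc C) B := by
  obtain ⟨e, he⟩ := t
  have h1 : C.submatrix e e = cm n c := Matrix.ext he
  have R := boxRs _ _ (Ch.car_sub e h)
  obtain ⟨w, hw, π, h2, h3⟩ := boxCh boxRs _ _ _ (Ch.car_sub e h) (Ch.nm_sub e hB)
  refine z_dn (B' := B.submatrix e e) (Ch.tr_sub e R) (boxRs _ _ h) ?_ (Ch.nm_sub e hB) ?_
  · rw [submatrix_mul_equiv, mul_one]
    exact ((submatrix_mul_equiv 1 B e (Equiv.refl I) (Equiv.refl I)).trans (by rw [one_mul])).symm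
  · refine z_co R.two ?_ ⟨w, R.ww ▸ hw, h3⟩
    rw [h1] at h2 ⊢
    exact hs π h2

/-- automorphisms have finite order -/
theorem fin_ord (H : Rs C D) (h : Nm A (Rc C)) : ∃ n, 0 < n ∧ A ^ n = 1 := by
  have := H.fin.to_subtype
  have h1 : ∀ (k : ℕ) (i : I), ∃ b : Rc C, A ^ k *ᵥ (sp C i).2 = b.1.2 := fun k i =>
    let ⟨b, hb, e, _⟩ := Nm.pow h k _ (H.mem i)
    ⟨⟨b, hb⟩, e⟩
  choose g hg using h1
  have key : ∀ k m, g k = g (k + m + 1) → A ^ (m + 1) = 1 := fun k m e => ext_of_mulVec_single fun i => by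
    refine Ch.inj H (Nm.pow h k) ?_
    have := hg (k + m + 1) i
    rw [← e, ← hg, add_assoc, pow_add, ← mulVec_mulVec] at this
    rw [one_mulVec]
    exact this
  obtain ⟨k, k', h2, h3⟩ := Finite.exists_ne_map_eq_of_infinite g
  rcases lt_or_gt_of_ne h2 with h4 | h4 <;> obtain ⟨m, rfl⟩ := Nat.exists_eq_add_of_lt h4
  exacts [⟨_, m.succ_pos, key _ _ h3⟩, ⟨_, m.succ_pos, key _ _ h3.symm⟩]

/-- a fixed vector modulo two -/
theorem not_an (H : Rs C D) (h : Nm A (Rc C)) {v u : Vec I} {i : I} (hv : Odd (v i)) (e : A *ᵥ v = v + (2 : ℤ) • u) :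
    ¬ An (Rc C) 2 1 A := fun k => by
  obtain ⟨n, h1, h2⟩ := fin_ord H h
  have h3 : ((2 : ℕ) : ℤ) ∣ ((1 : ℤ) • A - 1).det := by
    have h4 := congrArg (fun x => (adjugate (A - 1) *ᵥ x) i) (show (A - 1) *ᵥ v = (2 : ℤ) • u by
      rw [sub_mulVec, e, one_mulVec, add_sub_cancel_left])
    simp only [mulVec_mulVec, adjugate_mul, smul_mulVec, one_mulVec, mulVec_smul, Pi.smul_apply, smul_eq_mul] at h4
    rw [one_smul]
    exact (Int.prime_two.dvd_or_dvd (h4 ▸ dvd_mul_right _ _)).resolve_right fun k =>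
      Int.not_even_iff_odd.2 hv (even_iff_two_dvd.2 k)
  obtain ⟨μ, y, y1, y2, y3⟩ := eig_two A 1 2 1 1 n ⟨Nat.prime_two, by decide, by simp, by simp⟩ h1 h2 h3
  refine k μ y1 ⟨y, y3, ?_⟩
  by_contra k'
  exact y2 (H.topC y fun a ha => by_contra fun k'' => k' ⟨a, ha, k''⟩)

/-- the Weyl group fixes a vector with even roots modulo two -/
theorem fix_two {v : Vec I} (hv : ∀ i, (2 : ℤ) ∣ (sp C i).1 ⬝ᵥ v) (hA : A ∈ Wc C) : ∃ u, A *ᵥ v = v + (2 : ℤ) • u := by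
  induction hA using Submonoid.closure_induction with
  | mem x hx =>
    obtain ⟨_, ⟨i, rfl⟩, rfl⟩ := hx
    obtain ⟨m, hm⟩ := hv i
    exact ⟨-m • (sp C i).2, by rw [rfm_mulVec, hm]; module⟩
  | one => exact ⟨0, by rw [one_mulVec, smul_zero, add_zero]⟩
  | mul x y _ _ hx hy =>
    obtain ⟨u, hu⟩ := hx
    obtain ⟨u', hu'⟩ := hy
    exact ⟨u + x *ᵥ u', by rw [← mulVec_mulVec, hu', mulVec_add, hu, mulVec_smul, smul_add, add_assoc]⟩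

end Comb

/-! ### the standard types -/

theorem zSA {n : ℕ} (hn : 0 < n) (ε : ℤˣ) : Z (std .D fun _ : Fin (n + 1) => 1) ((ε : ℤ) • 1) := by
  rintro q d e f P H _ ⟨_, hw, rfl⟩
  obtain ⟨σ, rfl⟩ := SA.mem_WW.1 hw
  have hne : (⟨1, by omega⟩ : Fin (n + 1)) ≠ ⟨0, by omega⟩ := Fin.ne_of_val_ne one_ne_zero
  have hq : Odd q := Int.not_even_iff_odd.1 fun h => P.nd (even_iff_two_dvd.1 h)
  have hc : Odd (q * ε) := hq.mul (by rcases Int.units_eq_one_or ε with rfl | rfl <;> simp)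
  have h4 : IsPrimitiveRoot ((ε : ℤ) : ℂ) d ∨ IsPrimitiveRoot (-((ε : ℤ) : ℂ)) d := by
    have k1 : IsPrimitiveRoot (-1 : ℂ) 2 := IsPrimitiveRoot.neg_one 0 (by norm_num)
    rcases P.two.2 with ⟨rfl, -⟩ | ⟨rfl, -⟩ <;> rcases Int.units_eq_one_or ε with rfl | rfl <;> simp [k1]
  rcases h4 with h4 | h4
  · exact (SA.hp_of H h4).one hne σ
  · exact (SA.hp_of H h4).two hc hne σ

theorem zSB {n : ℕ} (κ : HZ.L.Kd) (g : SG n) (hn : 2 ≤ n) : Z (std κ (X.b0 n)) (sm g) := fun q d e f hq H A hA => by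
  rcases hq.two.2 with ⟨rfl, -⟩ | ⟨rfl, -⟩
  · exact SB.zero hn hq.nd (η := 1) (by simp) H hA
  · exact SB.zero hn hq.nd (η := -1) (by simpa using IsPrimitiveRoot.neg_one 0 (by decide)) H hA

open A78 in
theorem zA {n : ℕ} (hn : 0 < n) (π : Equiv.Perm (Fin n)) (h : ∀ i j, cA (π i) (π j) = cA i j) : Z (Rc (cm n cA)) (pm π) := by
  have H := boxRs _ _ (car (n := n))
  have h1 := fun ε : ℤˣ => z_dn (B := (ε : ℤ) • 1) (B' := (ε : ℤ) • 1) (tr H) H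
    (by rw [Matrix.smul_mul, Matrix.mul_smul, Matrix.one_mul, Matrix.mul_one]) (nm_eps ε) (zSA hn ε)
  rcases eq_or h with rfl | rfl
  · simpa only [A78.pm_one, Units.val_one, one_smul] using h1 1
  · obtain ⟨w, hw, e⟩ := exists_w (n := n) Fin.revPerm
    have h2 := congrArg ((of fun j r => if (r : ℕ) ≤ j then 1 else 0 : Matrix (Fin n) (Fin (n + 1)) ℤ) * ·) (rev_fr.symm.trans e)
    simp only [← Matrix.mul_assoc, left_inv, Matrix.one_mul] at h2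
    exact z_co H.two (h1 (-1)) ⟨w, H.ww.ge hw, by simp [← h2]⟩

open BD in
theorem zfin {κ : HZ.L.Kd} {n : ℕ} (hn : 2 ≤ n) {C : Mat (Fin n)} {L : Vec (Fin n) × Vec (Fin n)}
    (h : Fr (std κ (X.b0 n)) C (fr L)) (hL : 1 ⬝ᵥ L.2 ≠ 0) (h2 : ∀ i j, i ≠ j → C i j ≤ 0) (σ π : Equiv.Perm (Fin n))
    (hσ : ∀ i j, C (σ i) (σ j) = C i j) (g : SG n) (hg : ∀ i, sm g *ᵥ (fr L (σ i)).2 = (fr L (σ (π i))).2) : Z (Rc C) (pm π) :=
  have hC := h.car' std_two h2 (fr_inj hL)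
  z_dn ((h.comp σ hσ).tr (boxRs C _ hC) std_ext std_nm) (boxRs C _ hC) (fP_pm hg) (nm_sm g) (zSB κ g hn)

theorem cB_le {n i j : ℕ} (e : i ≠ j) : cB n i j ≤ 0 := by
  show (if _ then _ else if _ then _ else if _ then _ else _) ≤ _
  split_ifs <;> omega

open BD in
theorem zB {n : ℕ} (hn : 2 ≤ n) (π : Equiv.Perm (Fin n)) (h : ∀ i j, cB n (π i) (π j) = cB n i j) : Z (Rc (cm n (cB n))) (pm π) := by
  obtain rfl := autB hn h
  exact zfin hn (frB (l := ⟨n - 1, by omega⟩) (by simp only; omega)) (by simp [e1])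
    (fun i j e => cB_le (Fin.val_ne_of_ne e)) 1 1 (fun _ _ => rfl) 1 fun i => by rw [map_one, one_mulVec]; rfl

open BD in
theorem zC {n : ℕ} (hn : 2 ≤ n) (π : Equiv.Perm (Fin n)) (h : ∀ i j, cC n (π i) (π j) = cC n i j) : Z (Rc (cm n (cC n))) (pm π) := by
  obtain rfl := autB hn fun i j => h j i
  exact zfin hn (frC (l := ⟨n - 1, by omega⟩) (by simp only; omega)) (by simp [e1])
    (fun i j e => cB_le (Fin.val_ne_of_ne e).symm) 1 1 (fun _ _ => rfl) 1 fun i => by rw [map_one, one_mulVec]; rfl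

open BD in
theorem zD {n : ℕ} (hn : 5 ≤ n) (π : Equiv.Perm (Fin n)) (h : ∀ i j, cT (n - 3) n (π i) (π j) = cT (n - 3) n i j) :
    Z (Rc (cm n (cT (n - 3) n))) (pm π) := by
  obtain ⟨m, rfl⟩ := Nat.exists_eq_add_of_le' hn
  have h2 := zfin (by omega) (frD (k := ⟨m + 3, by omega⟩) (l := ⟨m + 4, by omega⟩) (show 4 ≤ m + 5 by omega) rfl rfl) (by simp [ee])
    (fun i j e => by
      have := Fin.val_ne_of_ne e
      show (if _ then _ else if _ then _ else _) ≤ _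
      split_ifs <;> omega) 1 π fun _ _ => rfl
  obtain rfl | rfl := autD h
  · exact h2 1 fun i => by rw [map_one, one_mulVec]; rfl
  · exact h2 (tt ⟨m + 4, by omega⟩) fun i => tt_fr rfl rfl i

set_option synthInstance.maxSize 2000 in
set_option synthInstance.maxHeartbeats 200000 in
theorem autE7 (π : Equiv.Perm (Fin 7)) (h : ∀ i j, cT 2 7 (π i) (π j) = cT 2 7 i j) : π = 1 := by
  have key : ∀ x2 x1 : Fin 7, cT 2 7 x2 x1 = -1 → ∀ x3 : Fin 7, cT 2 7 x2 x3 = -1 → cT 2 7 x1 x3 = 0 → ∀ x6 : Fin 7, cT 2 7 x2 x6 = -1 →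
      cT 2 7 x1 x6 = 0 → cT 2 7 x3 x6 = 0 → ∀ x0 : Fin 7, cT 2 7 x1 x0 = -1 → cT 2 7 x2 x0 = 0 → ∀ x4 : Fin 7, cT 2 7 x3 x4 = -1 →
      cT 2 7 x2 x4 = 0 → ∀ x5 : Fin 7, cT 2 7 x4 x5 = -1 → cT 2 7 x3 x5 = 0 →
      x0 = 0 ∧ x1 = 1 ∧ x2 = 2 ∧ x3 = 3 ∧ x4 = 4 ∧ x5 = 5 ∧ x6 = 6 := by decide +kernel
  obtain ⟨a0, a1, a2, a3, a4, a5, a6⟩ := key _ _ (h 2 1) _ (h 2 3) (h 1 3) _ (h 2 6) (h 1 6) (h 3 6) _ (h 1 0) (h 2 0) _ (h 3 4) (h 2 4) _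
    (h 4 5) (h 3 5)
  refine Equiv.ext fun i => ?_
  fin_cases i
  exacts [a0, a1, a2, a3, a4, a5, a6]

theorem zE7 (hA : CuAll) {D : Fin 7 → ℤ} (hC : Car (cm 7 (cT 2 7)) D) (π : Equiv.Perm (Fin 7))
    (h : ∀ i j, cT 2 7 (π i) (π j) = cT 2 7 i j) : Z (Rc (cm 7 (cT 2 7))) (pm π) := fun q d e f hq H A hA' => by
  obtain rfl := autE7 π h
  have R := boxRs _ _ hC
  rw [OM.Cu.pm_one] at H hA'
  by_contra h0
  have h1 := hA _ D 1 2 hC (Nm.one _) q d e f hq H A hA' h0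
  obtain ⟨w, hw, rfl⟩ := hA'
  rw [mul_one, hq.two.1] at h1
  obtain ⟨u, hu⟩ := fix_two (C := cm 7 (cT 2 7)) (v := ![0, 0, 0, 1, 0, 1, 1]) (by decide +kernel) (R.ww ▸ hw)
  exact not_an R (R.nm w (R.ww ▸ hw)) (i := 3) (by decide) hu h1

section Main

variable {R I : Type} [Fintype R] [DecidableEq R] [Fintype I] [DecidableEq I]

/-- one component -/
theorem z_conn (hA : CuAll) [Nonempty I] {C : Mat I} {D : I → ℤ} {B : Mat I} (h : Car C D) (hc : ∀ i j, Cp C i j) (hB : Nm B (Rc C)) :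
    Sv C ∨ Z (Rc C) B := by
  rcases boxCl2 C D h hc with ⟨n, t⟩ | ⟨n, k, t⟩ | ⟨n, k, t⟩ | ⟨n, k, t⟩ | t | t | t | t | t
  · refine .inr (z_re (zA ?_) h t hB)
    obtain ⟨e, -⟩ := t
    exact (e.symm (Classical.arbitrary I)).pos
  · exact .inr (z_re (zB k) h t hB)
  · exact .inr (z_re (zC k) h t hB)
  · obtain rfl | k := k.eq_or_lt
    exacts [.inl (.inl t), .inr (z_re (zD k) h t hB)]
  · exact .inl (.inr (.inl t))
  · obtain ⟨e, he⟩ := id t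
    exact .inr (z_re (zE7 hA ((show C.submatrix e e = cm 7 (cT 2 7) from Matrix.ext he) ▸ Ch.car_sub e h)) h t hB)
  · exact .inl (.inr (.inr (.inl t)))
  · exact .inl (.inr (.inr (.inr (.inl t))))
  · exact .inl (.inr (.inr (.inr (.inr t))))

open Orb in
/-- **all components survive** -/
theorem sv_of (hA : CuAll) {C : Mat I} {D : I → ℤ} {B A : Mat I} {q : ℤ} {d e : ℕ} {f : Mat I → ℂ} (hC : Car C D) (hB : Nm B (Rc C))
    (hq : Pq q 2 d e) (hf : Hy (Rc C) B q 2 d f) (hA' : Co (Rc C) B A) (h0 : f A ≠ 0) (i : I) :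
    Sv (C.submatrix (Subtype.val : Cm C i → I) Subtype.val) := by
  classical
  have R := boxRs C D hC
  have hn : Nm A (Rc C) := hA'.nm (fun b hb => R.nm _ (R.ww ▸ rfm_mem hb)) hB
  obtain ⟨w, hw, π, hπ, e⟩ := boxCh boxRs C D A hC hn
  obtain ⟨w', -, -, e'⟩ := R.inv w hw
  obtain ⟨a, Y⟩ := cy_Ci (i := i) (π := π) hC (e ▸ (IsUnit.of_mul_eq_one w' e').mul
    (IsUnit.of_mul_eq_one (pm π⁻¹) (by rw [← OM.Cu.pm_mul, mul_inv_cancel, OM.Cu.pm_one]))) fun k => by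
      rw [e, mul_assoc, ed_pm hπ, ← mul_assoc, ed_w hC hw, mul_assoc]
  have hC' := car_Ci (i := i) hC
  have F := fm_Ci hC R (boxRs _ _ hC')
  obtain ⟨X', hX⟩ := (Y.unit qp).exists_right_inv
  have : Nonempty (Cm C i) := ⟨⟨i, .refl⟩⟩
  refine (z_conn hA hC' (conn_Ci hC) (Y.nm F hn)).resolve_right fun k => h0 ?_
  have h1 := k _ _ _ _ (pq_pow hq a) (Y.hy F hn hq (hf.mono hA') hX) _ (Co.refl _ _)
  rwa [hX, io_one, one_mul] at h1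

/-- the conclusion for a set of pairs -/
def Good (Ψ : RS R) : Prop := ∃ (m : ℕ) (C : Mat (Fin m)) (D : Fin m → ℤ) (P : Matrix R (Fin m) ℤ), Car C D ∧ Tr P (Rc C) Ψ ∧
  ∀ i, Sv (C.submatrix (Subtype.val : Orb.Cm C i → Fin m) Subtype.val)

theorem good_of (hA : CuAll) {m : ℕ} {C : Mat (Fin m)} {D : Fin m → ℤ} {P : Matrix R (Fin m) ℤ} {Ψ : RS R} {B A : Mat R} {q : ℤ}
    {d e : ℕ} {f : Mat R → ℂ} (hC : Car C D) (T : Tr P (Rc C) Ψ) (hs : Sc 2 Ψ) (hB : Nm B Ψ) (hq : Pq q 2 d e)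
    (hf : Hy Ψ B q 2 d f) (hA' : Co Ψ B A) (h0 : f A ≠ 0) : An Ψ 2 1 A ∧ Good Ψ := by
  have H := boxRs C D hC
  obtain ⟨B0, hB0⟩ := Gl.exists_B H T hB
  have h1 := Gl.sat H T hs
  have h2 := T.nm_dn hB0 hB
  refine ⟨hq.two.1 ▸ T.cu_up H hB0 hB h1 (hA C D B0 2 hC h2) q d e f hq hf A hA' h0, m, C, D, P, hC, T, ?_⟩
  obtain ⟨A0, h3, h4⟩ := T.co_dn hB0 hA'
  exact sv_of hA hC h2 hq (hy_up T H hB0 hB Nat.prime_two h1 hf) h3 (by rwa [T.up_eq H hB0 hB hA' h4])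

end Main

variable {p : ℕ} [Fact p.Prime] {k : Type} [Field k] [CharP k p] [IsAlgClosed k] {Y : Type} [Group Y] {N : Type}
  [Fintype N] [DecidableEq N] {ρ : Y →* GL N k} {F : MulAut Y} {G : Subgroup Y} {D : Datum p ρ F G}

open Gl in
/-- the hypotheses of `OM.Cu.BoxCusp` give the hypotheses on the Weyl group of the label -/
theorem hy_of [Fintype D.W] {j : ℕ} {B : Mat D.R} (h : HZ.L.St D j B) {l d e : ℕ} (hq : Pq ((p : ℤ) ^ j) l d e) {c : Lbl D} (hc : Fo l c)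
    (s1 : Sc l (X.Zc (rts D) c)) (y : D.W → ℂ) (h1 : ∀ v w w', Fx D w c → Tc D v w w' → Rel D v c c → y w = y w')
    (h2 : ∀ w, Fx D w c → OM.Cu.Bad (rts D) d (D.Wm w * B) → y w = 0)
    (h3 : ∀ w t, Fx D w c → OM.Cu.Bad (rts D) d (D.Wm w * B) → (∃ i : ℕ, t ^ l ^ i = 1) → Fx D w t → OM.Cas.cas D (c * t) y w = 0)
    {w : D.W} (hw : Fx D w c) :
    Hy (X.Zc (rts D) c) (D.Wm w * B) ((p : ℤ) ^ j) l d (Function.extend (fun w => D.Wm w * B) y 0) := by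
  classical
  obtain ⟨n, hn, hc⟩ := hc
  have hf : ∀ u, Function.extend (fun w => D.Wm w * B) y 0 (D.Wm u * B) = y u := (inj_WB h).extend_apply y 0
  refine ⟨fun u hu A hA => ?_, fun A hA hb => ?_, fun A hA hb σ hσ => ?_⟩
  · obtain ⟨v, hv, rfl⟩ := ww_Zc hu
    obtain ⟨x, hx, e1⟩ := co_Zc hw (hA.mul_right (nm_Zc h hw) hu)
    obtain ⟨z, -, rfl⟩ := co_Zc hw hA
    rw [e1, ← mul_assoc, ← D.Wm_mul, hf, hf]
    exact (h1 v x (v * z) hx (h.tc_iff.2 (by rw [← e1, D.Wm_mul, mul_assoc, mul_assoc, mul_assoc])) hv).symm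
  · obtain ⟨x, hx, rfl⟩ := co_Zc hw hA
    rw [hf]
    exact h2 x hx (hb.imp fun _ h => ⟨h.1, Eig.mono h.2 fun _ h => h.1⟩)
  · obtain ⟨x, hx, rfl⟩ := co_Zc hw hA
    obtain ⟨n1, n2, n3⟩ := h.fin' x
    obtain ⟨t, ⟨i, t3⟩, t4, t5⟩ := boxLang _ _ _ l n1 σ hq.lp
      (one_lt_pow₀ (Nat.one_lt_cast.2 (Fact.out : p.Prime).one_lt) h.pos.ne') n2 n3 (nm_Zc h hx) s1 hσ
    have := h3 x t hx (hb.imp fun _ h => ⟨h.1, Eig.mono h.2 fun _ h => h.1⟩) ⟨i, t3⟩ (by rw [fx_iff, h.WM]; exact t4)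
    have e1 : rfm '' Zt (X.Zc (rts D) c) l σ = D.Wm '' OM.Cas.Rf D (c * t) := by
      ext r
      constructor
      · rintro ⟨_, ⟨⟨⟨b, hb, rfl⟩, b1⟩, b2⟩, rfl⟩
        exact ⟨_, ⟨b, hb, rfl, (chr_mul_iff hq.lp hn hc t3 _).2 ⟨b1, (t5 _ ⟨rt_mem hb, b1⟩).2 b2⟩⟩, (rfm_eq hb).symm⟩
      · rintro ⟨_, ⟨b, hb, rfl, b1⟩, rfl⟩
        obtain ⟨b2, b3⟩ := (chr_mul_iff hq.lp hn hc t3 _).1 b1
        exact ⟨_, ⟨⟨rt_mem hb, b2⟩, (t5 _ ⟨rt_mem hb, b2⟩).1 b3⟩, rfm_eq hb⟩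
    rw [e1, finsum_mem_image D.Wm_injective.injOn, ← this, OM.Cas.cas, finsum_mem_def, finsum_eq_sum_of_fintype]
    refine Finset.sum_congr rfl fun u _ => ?_
    rw [Set.indicator_apply, ← mul_assoc, ← D.Wm_mul, hf]

open Gl in
/-- a base of the roots of a label -/
theorem base_of {l : ℕ} (hl : l.Prime) (hsc : Sc l (rts D)) {c : Lbl D} (hc : Fo l c) [Fintype ↥(GF F G)] :
    Sc l (X.Zc (rts D) c) ∧ ∃ (m : ℕ) (C : Mat (Fin m)) (d : Fin m → ℤ) (P : Matrix D.R (Fin m) ℤ), Car C d ∧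
      Tr P (Rc C) (X.Zc (rts D) c) := by
  obtain ⟨n, hn, hc⟩ := hc
  obtain ⟨m, C, d0, P, hC, hP⟩ := boxDt p D
  obtain ⟨τ, hτ⟩ := exists_tau (fun e : n = 0 => hn (e ▸ dvd_zero l)) hc P
  obtain ⟨m', C', d', P', hC', hP'⟩ := boxBase boxRs C d0 n τ hC
  have t1 := tr_sub hP hτ
  exact ⟨sc_sub hP t1 (fun _ h => h.1) hsc (boxSat boxRs C d0 n l τ hC hl hn), m', C', d', _, hC', comp t1 hP'⟩

/-- **the cuspidal lemma for the prime two** -/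
theorem cusp2 (hA : CuAll) [Fintype ↥(GF F G)] [Fintype D.W] {j : ℕ} {B : Mat D.R} (h : HZ.L.St D j B) {d e : ℕ}
    (hq : Pq ((p : ℤ) ^ j) 2 d e) (hsc : Sc 2 (rts D)) {c : Lbl D} (hc : Fo 2 c) (y : D.W → ℂ)
    (h1 : ∀ v w w', Fx D w c → Tc D v w w' → Rel D v c c → y w = y w')
    (h2 : ∀ w, Fx D w c → OM.Cu.Bad (rts D) d (D.Wm w * B) → y w = 0)
    (h3 : ∀ w t, Fx D w c → OM.Cu.Bad (rts D) d (D.Wm w * B) → (∃ i : ℕ, t ^ 2 ^ i = 1) → Fx D w t → OM.Cas.cas D (c * t) y w = 0)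
    {w : D.W} (hw : Fx D w c) (h0 : y w ≠ 0) : An (X.Zc (rts D) c) 2 1 (D.Wm w * B) ∧ Good (X.Zc (rts D) c) := by
  obtain ⟨s1, m, C, d', P, hC, T⟩ := base_of Nat.prime_two hsc hc
  exact good_of hA hC T s1 (Gl.nm_Zc h hw) hq (hy_of h hq hc s1 y h1 h2 h3 hw) (Co.refl _ _)
    (by rwa [(Gl.inj_WB h).extend_apply y 0])

end Cfsg.Agent.BZ.RT.Z2
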