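import Cfsg.Agent.BZ.RT.Defs
import Cfsg.Agent.BZ.RT.Z2
import Cfsg.Agent.OM.Lie.F
import Cfsg.Agent.OM.Lie.El
import Cfsg.Agent.OM.Lie.LdRt
import Cfsg.Agent.OM.Lie.Cq
import Cfsg.Agent.OM.Lie.KbA

/-!
# BZ / RT : the combinatorial data of a fixed member of the top block (helper10)

`boxCb_of`.
-/

set_option autoImplicit false
set_option linter.unusedSectionVars false

namespace Cfsg.Agent.BZ.RT

open Cfsg Subgroup Matrix Cfsg.Agent.DL Cfsg.Agent.DL.PP Cfsg.Agent.KZ.Lie Cfsg.Agent.HZ.L Cfsg.Agent.OM Cfsg.Agent.OM.Lie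
  Cfsg.Agent.OM.Lie.TF Cfsg.Agent.OM.Cu.Gl Cfsg.Agent.Characters.Core
open Cfsg.Agent.HZ.L.X (Zc)
open Cfsg.Agent.LV.Blk (reg)

variable {p : ℕ} [Fact p.Prime] {k : Type} [Field k] [CharP k p] [IsAlgClosed k] {Y : Type} [Group Y] {N : Type}
  [Fintype N] [DecidableEq N] {ρ : Y →* GL N k} {F : MulAut Y} {G : Subgroup Y} {D : Datum p ρ F G}

namespace CbA

variable {j l d : ℕ} {B : Mat D.R} {w : D.W} {c : Lbl D}

theorem ell_iff {R : Type} [Fintype R] [DecidableEq R] {Ψ : RS R} {A : Mat R} : Ell Ψ A (Sd d) ↔ ¬ Cu.Bad Ψ d A :=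
  ⟨fun h ⟨μ, h1, h2⟩ => h μ h1 h2, fun h μ h1 h2 => h ⟨μ, h1, h2⟩⟩

theorem exists_rel (v : D.W) (c : Lbl D) : ∃ c', Rel D v c c' :=
  ⟨mon (D.Wm v⁻¹)ᵀ c, fun x => by rw [chr_tr, mulVec_mulVec, ← D.Wm_mul, inv_mul_cancel, D.Wm_one, one_mulVec]⟩

variable [Fintype ↥(GF F G)] [Fintype D.W] (f : Fr D) {χ : ↥(GF F G) → ℂ}

/-- the multiplicities of a character with elliptic labels -/
theorem hy0 (h : St D j B) (hχ : IsIrrCharacter _ χ) (he : ∀ w, Has f χ w c → ¬ Cu.Bad (rts D) d (D.Wm w * B)) (hw : Has f χ w c) :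
    ∃ g, Hy0 (Zc (rts D) c) (D.Wm w * B) d g ∧ g (D.Wm w * B) ≠ 0 := by
  classical
  have hf : ∀ u, Function.extend (fun w => D.Wm w * B) (fun w => classInner χ (RW f w c)) 0 (D.Wm u * B) = classInner χ (RW f u c) :=
    (inj_WB h).extend_apply _ 0
  have h2 : ∀ x, Cu.Bad (Zc (rts D) c) d (D.Wm x * B) → classInner χ (RW f x c) = 0 := fun x hb =>
    not_not.1 fun e => he x e (hb.imp fun _ h => ⟨h.1, Cu.Eig.mono h.2 fun _ h => h.1⟩)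
  refine ⟨_, ⟨fun u hu A hA => ?_, fun A hA hb => ?_, fun A hA hb => ?_⟩, (hf w).trans_ne hw⟩
  · obtain ⟨v, hv, rfl⟩ := ww_Zc hu
    obtain ⟨x, hx, e1⟩ := co_Zc hw.fx (hA.mul_right (nm_Zc h hw.fx) hu)
    obtain ⟨z, -, rfl⟩ := co_Zc hw.fx hA
    rw [e1, ← mul_assoc, ← D.Wm_mul, hf, hf,
      RW_conj f (h.tc_iff.2 (by rw [← e1, D.Wm_mul, mul_assoc, mul_assoc, mul_assoc]) : Tc D v x (v * z)) hv]
  · obtain ⟨x, -, rfl⟩ := co_Zc hw.fx hA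
    rw [hf, h2 x hb]
  · obtain ⟨x, -, rfl⟩ := co_Zc hw.fx hA
    obtain ⟨κ, hκ⟩ := Cas.casU f h.qs χ hχ
    have e1 : rfm '' Zc (rts D) c = D.Wm '' Cas.Rf D c := by
      ext r
      constructor
      · rintro ⟨_, ⟨⟨b, hb, rfl⟩, b1⟩, rfl⟩
        exact ⟨_, ⟨b, hb, rfl, b1⟩, (rfm_eq hb).symm⟩
      · rintro ⟨_, ⟨b, hb, rfl, b1⟩, rfl⟩
        exact ⟨_, ⟨rt_mem hb, b1⟩, rfm_eq hb⟩
    rw [e1, finsum_mem_image D.Wm_injective.injOn, ← mul_zero κ, ← h2 x hb, ← hκ, Cas.cas, finsum_mem_def, finsum_eq_sum_of_fintype]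
    refine Finset.sum_congr rfl fun u _ => ?_
    rw [Set.indicator_apply, ← mul_assoc, ← D.Wm_mul, hf]

/-- the function of a truncated member -/
theorem cf {S : Set ℂ} {M : Ideal AlgInt} {𝔅 : Set (IrrCharacter ↥(GF F G))} (hq : D.QS) (hp : l ≠ p) (hM : IsPModular l M)
    (hB : IsPBlock M 𝔅) (hE : ElB f B S 𝔅) {χ : IrrCharacter ↥(GF F G)} (hχ : χ ∈ 𝔅) (h2 : ¬ l ∣ orderOf c) :
    Cf D B l S c fun u => classInner (reg l * (χ : GF F G → ℂ)) (RW f u c) := by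
  classical
  have hl := hM.1
  refine ⟨fun u hu => ?_, fun v u u' h4 h5 => by rw [RW_conj f h4 h5], fun u t i ht h4 h5 h6 => ?_⟩
  · obtain ⟨ξ, h4, h5⟩ := exists_mem hM hB hχ hu
    exact ⟨Has.fx h5, hE ξ h4 u c h5⟩
  · have := finite_irr (G := GF F G)
    have := Fintype.ofFinite (IrrCharacter (GF F G))
    have h7 : Cas.cas D (c * t) (fun u => classInner (reg l * (χ : GF F G → ℂ)) (RW f u c)) u =
        ∑ ξ : IrrCharacter (GF F G), classInner (reg l * (χ : GF F G → ℂ)) ξ *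
          Cas.cas D (c * t) (fun u => classInner (ξ : GF F G → ℂ) (RW f u (c * t))) u := by
      simp only [Cas.cas, Finset.mul_sum]
      rw [Finset.sum_comm]
      refine Finset.sum_congr rfl fun s _ => ?_
      split_ifs with hs
      · obtain ⟨h8, h9⟩ := rf_parts hl h2 ht hs
        rw [← ip_mul hl hp (h4.mul h8) ⟨h5.mul h9, i, ht⟩, ip_sum]
      · simp only [mul_zero, Finset.sum_const_zero]
    rw [h7]
    refine Finset.sum_eq_zero fun ξ _ => ?_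
    obtain ⟨κ, hκ⟩ := Cas.casU f hq ξ ξ.2
    by_contra h8
    rw [hκ] at h8
    exact h6 (hE ξ (mem_of_ip hM hB hχ (left_ne_zero_of_mul h8)) u _ (right_ne_zero_of_mul (right_ne_zero_of_mul h8)))

/-- a label which is seen by the character and by its truncation -/
theorem exists_lab (hl : l.Prime) (hp : l ≠ p) (h : χ 1 ≠ 0) : ∃ w c t, ¬ l ∣ orderOf c ∧ t ∈ LV.Blk.LS D l w ∧ Fx D w c ∧
    Has f χ w (c * t) ∧ classInner (reg l * χ) (RW f w c) ≠ 0 := by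
  obtain ⟨w, c₀, h0⟩ : ∃ w c₀, classInner (reg l * χ) (RW f w c₀) ≠ 0 := by
    by_contra e
    push Not at e
    have h1 := val_one f (reg l * χ)
    simp only [e, zero_mul, finsum_zero, mul_zero] at h1
    rw [Pi.mul_apply, LV.Blk.reg_of (by rw [orderOf_one]; exact hl.not_dvd_one), one_mul] at h1
    exact h h1
  obtain ⟨c, t₀, rfl, h1, h2, h3⟩ := exists_parts hl (Has.fx h0)
  rw [ip_mul hl hp h1 h3] at h0
  have : Finite (LV.Blk.LS D l w) := Nat.finite_of_card_ne_zero (LV.Blk.card_LS hl w ▸ pow_ne_zero _ hl.ne_zero)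
  have := Fintype.ofFinite (LV.Blk.LS D l w)
  have h4 := (LV.Blk.mL_sum f h1 χ).symm.trans (LV.Blk.mL_reg f hl hp h1 χ)
  obtain ⟨t, -, h5⟩ := Finset.exists_ne_zero_of_sum_ne_zero
    (h4 ▸ mul_ne_zero (pow_ne_zero _ (Nat.cast_ne_zero.2 hl.ne_zero)) (ip_reg χ _ ▸ h0))
  exact ⟨w, c, t, h2, t.2, h1, h5, h0⟩

end CbA

open CbA in
/-- **the combinatorial data** -/
theorem boxCb_of (D : Datum p ρ F G) [Fintype ↥(GF F G)] (hD : BoxDict D) : BoxCb D := by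
  intro j B l r m n n' M α 𝔅 P s _ β lam b H S hS ψ hψ hF f
  have := Fintype.ofFinite D.W
  have := @Fintype.ofFinite s.E.W (Finite.of_injective _ s.sw_injective)
  have hs := H.cq.st
  have hE := hs.sub H.tp.fo.qs
  have hl := H.cq.lp
  obtain ⟨d1, d2, d3, d4, d5⟩ := hD hs.qs r P s H.tp.fo
  have eA : ∀ u, D.Wm (s.sw u * s.w) * B = s.E.Wm u * (D.Wm s.w * B) := fun u => by rw [D.Wm_mul, s.Wm_eq, mul_assoc]
  have el := (boxEl D).tp j B l _ M 𝔅 r P s lam b H.tp f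
  obtain ⟨u, c, t, h1, h2, h3, h4, h5⟩ := exists_lab (s.fr f) hl H.cq.ne (isIrr_apply_one_ne_zero ψ.2)
  have pq : Cu.Pq ((p : ℤ) ^ j) l (dl l (p ^ j)) (orderOf (((p : ℤ) ^ j : ℤ) : ZMod l)) :=
    ⟨hl, fun e => H.cq.ne ((Nat.prime_dvd_prime_iff_eq hl Fact.out).1 (hl.dvd_of_dvd_pow (by exact_mod_cast e))),
      by rw [dl, ← Nat.cast_pow, Int.cast_natCast], rfl⟩
  have dv : ∀ g ∈ S, ∀ v, Dv s g v → ∀ i : ℕ, Dv s (g ^ i) (v ^ i) := fun g hg v hv i => by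
    induction i with
    | zero => simpa using d4 1
    | succ i ih => exact pow_succ' g i ▸ pow_succ' v i ▸ d3 g (hS.sn hg) _ _ _ hv ih
  have fo : Fo l c := ⟨_, h1, pow_orderOf_eq_one c⟩
  have C := cf (s.fr f) H.tp.fo.qs H.cq.ne H.hM H.tp.hb el hψ h1
  refine ⟨u, c * t, c, h4, ⟨_, pq⟩, one_lt_pow₀ (Nat.one_lt_cast.2 (Fact.out : p.Prime).one_lt) hs.pos.ne', hs.fin' _, hs.nm _,
    eA u ▸ hE.nm u, ⟨lam, H.tp.rt⟩, eA u ▸ ell_iff.1 (el ψ hψ u _ h4), fun μ hμ a ha hn => ?_, Submonoid.closure_le.2 ?_,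
    fun A hA => ?_, fun A hA => ?_, fun A hA => ?_, ?_, fun A hA => ?_, hs.WM _ ▸ s.fx_iff.1 h4.fx, hs.WM _ ▸ s.fx_iff.1 h3, fo,
    ⟨t, h2.2.choose, h2.2.choose_spec, rfl⟩, fun t' i ht A hA e => ?_,
    eA u ▸ hy0 (s.fr f) hE ψ.2 (fun w e => ell_iff.1 (el ψ hψ w _ e)) h4, ?_⟩
  · obtain ⟨y, k1, k2, k3⟩ := ld_rt D j B _ r P s lam H.tp.rd H.tp.fo H.tp.rt μ hμ a ha hn
    refine ⟨y, ?_, k2, k3⟩
    rw [D.Wm_mul, mul_assoc]
    exact (Kb.isE_iff (s.mem_WW.2 ⟨u, rfl⟩) (V' := D.Wm (s.sw u)⁻¹) (by rw [← D.Wm_mul, inv_mul_cancel, D.Wm_one]) k2).2 k1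
  · rintro _ ⟨g, -, v, -, rfl⟩
    exact Wm_mem v
  · obtain ⟨v, rfl⟩ := s.mem_WW.1 hA
    exact Submonoid.subset_closure ⟨1, one_mem S, _, d4 v, rfl⟩
  · obtain ⟨g, hg, v, hv, rfl⟩ := d5 S hS.sn A hA
    have k1 := (d2 g (hS.sn hg) v hv).1 f
    obtain ⟨u', k2⟩ := k1.ty u
    exact ⟨k1.nm, _, s.mem_WW.2 ⟨u' * u⁻¹, rfl⟩, by
      rw [← hs.tc_iff.1 k2, ← mul_assoc, ← D.Wm_mul, ← mul_assoc, ← map_mul, inv_mul_cancel_right]⟩
  · obtain ⟨g, hg, v, hv, rfl⟩ := d5 S hS.sn A hA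
    obtain ⟨i, hi⟩ := hS.pg g hg
    obtain ⟨x, hx⟩ := (d2 _ (hS.sn (pow_mem hg _)) _ (dv g hg v hv _)).2.1 hi
    exact ⟨i, s.mem_WW.2 ⟨x, hx ▸ map_pow D.WmHom v _⟩⟩
  · obtain ⟨g, hg, k1⟩ := SetLike.not_le_iff_exists.1 hS.ne
    obtain ⟨v, hv⟩ := d1 g (hS.sn hg)
    refine ⟨_, Submonoid.subset_closure ⟨g, hg, v, hv, rfl⟩, fun e => k1 ((d2 g (hS.sn hg) v hv).2.2 ?_)⟩
    exact (s.mem_WW.1 e).imp fun _ e => D.Wm_injective e
  · obtain ⟨g, hg, v, hv, rfl⟩ := d5 S hS.sn A hA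
    have k1 := (d2 g (hS.sn hg) v hv).1 f
    obtain ⟨u', k2⟩ := k1.ty u
    obtain ⟨c', k3⟩ := exists_rel v (c * t)
    obtain ⟨σ, hσ⟩ := Lab.exists_aut s.ι_injective H.tp.fo.range (hS.sn hg)
    have k4 : Has (s.fr f) (ψ : GF F s.K → ℂ) u' c' := by
      rw [Has, ← Characters.Clifford.classInner_comp_mulEquiv σ, show (ψ : GF F s.K → ℂ) ∘ σ = ψ from funext fun y => hF g hg y _ (hσ y),
        show RW (s.fr f) u' c' ∘ σ = _ from funext fun y => k1.rw u u' _ c' k2 k3 y _ (hσ y)]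
      exact h4
    obtain ⟨x, k5, k6⟩ := H.on (s.fr f) _ ψ.2 u' c' u _ k4 h4
    exact ⟨x, k5, Tl.trans k3 k6⟩
  · obtain ⟨v, rfl⟩ := mem_WW.1 hA
    obtain ⟨a, k1, k2⟩ := fo_of_fx h3
    exact (X.stab_WW H.cq.cz ⟨a * l ^ i, (Fact.out : p.Prime).not_dvd_mul k1 fun k => H.cq.ne ((Nat.prime_dvd_prime_iff_eq Fact.out hl).1
      ((Fact.out : p.Prime).dvd_of_dvd_pow k)).symm, by rw [mul_pow, pow_mul, k2, pow_mul', ht, one_pow, one_pow, mul_one]⟩).1 e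
  · refine eA u ▸ ⟨_, Z2.hy_of hE pq fo (Z2.base_of hl (H.tp.rt ▸ CqA.sc_lev H.cq.cz hl.ne_zero H.cq.sc lam) fo).1 _
      (fun v w w' _ => C.inv v w w') (fun w _ e => not_not.1 fun k => ell_iff.1 (C.supp w k).2 e)
      (fun w t k1 k2 ⟨i, k3⟩ k4 => C.cas w t i k3 k1 k4 fun k => ell_iff.1 k k2) h3, ?_⟩
    rwa [(inj_WB hE).extend_apply _ 0]

end Cfsg.Agent.BZ.RT
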