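import Cfsg.Agent.HZ.L.Iso.Main
import Cfsg.Agent.HZ.L.Chf.Adj
import Cfsg.Agent.BZ.Lab.Defs

/-!
# BZ / RT (S4853) : the normaliser of `P` acts on the labels through the Weyl group (helper33)

* `Ac s g v` : the element `g` of `G ^ F` acts on the Levi subgroup `s.K` like the element `v` of the Weyl group;
* `exists_ac`, `exists_ac'` (from `g` to `v`); `Ac.rw`, `Ac.inner`, `Ac.has`, `Ac.nm`, `Ac.mem`.
-/

set_option autoImplicit false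
set_option linter.unusedSectionVars false

namespace Cfsg.Agent.BZ.RT

open Cfsg Subgroup Cfsg.Agent.DL Cfsg.Agent.DL.PP Cfsg.Agent.DL.Uni Cfsg.Agent.DL.Asm Cfsg.Agent.Nodes.Reps Matrix
  Cfsg.Agent.KZ.Lie Cfsg.Agent.HZ.Gen Cfsg.Agent.HZ.L Cfsg.Agent.RL Cfsg.Agent.DL.Mk Cfsg.Agent.Characters

variable {p : ℕ} [Fact p.Prime] {k : Type} [Field k] [CharP k p] [IsAlgClosed k] {Y : Type} [Group Y] {N : Type}
  [Fintype N] [DecidableEq N] {ρ : Y →* GL N k} {F : MulAut Y} {G : Subgroup Y} {D : Datum p ρ F G}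

/-- `g` acts on the subgroup like `v` -/
structure Ac (s : Sb D) (g : ↥(GF F G)) (v : D.W) : Prop where
  nk : cj (g : Y) s.K = s.K
  ex : ∃ z ∈ s.K, D.Rp v ((z * s.y)⁻¹ * g * s.y)

namespace Ac

variable {s : Sb D} {g : ↥(GF F G)} {v : D.W} {u u' : s.E.W} {c c' : Lbl D}

/-- the frames -/
theorem frame (h : Ac s g v) {y : Y} (hy : y ∈ s.K) (hu : s.E.Rp u (y⁻¹ * F y)) : ∃ y' ∈ s.K, ∃ u', s.E.Rp u' (y'⁻¹ * F y') ∧
    D.Rp v ((y' * s.y)⁻¹ * g * (y * s.y)) ∧ cj (g : Y) (cj y s.E.T) = cj y' s.E.T ∧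
      Tc D v (s.sw u * s.w) (s.sw u' * s.w) := by
  obtain ⟨z, hz, h1⟩ := h.ex
  have h2 : (g : Y) * y * (g : Y)⁻¹ * z ∈ s.K := mul_mem (h.nk ▸ conj_mem_cj.2 hy) hz
  have h3 : D.Rp v (((g : Y) * y * (g : Y)⁻¹ * z * s.y)⁻¹ * g * (y * s.y)) := by
    convert h1 using 1
    group
  have h4 : cj (g : Y) (cj y s.E.T) = cj ((g : Y) * y * (g : Y)⁻¹ * z) s.E.T := by
    rw [Cf.cj_sub, Cf.cj_sub, ← cj_mul, show (g : Y) * (y * s.y) = (g : Y) * y * (g : Y)⁻¹ * z * s.y *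
      (((g : Y) * y * (g : Y)⁻¹ * z * s.y)⁻¹ * g * (y * s.y)) by group, cj_mul]
    exact congrArg _ (D.cj_T ⟨v, h3⟩)
  have h5 : cj y s.E.T ∈ tori D := ((Cf.ov_E s).tori_eq.le (mem_tori hy hu)).1
  have h6 := (sys' D).conjA g g.2 _ h5
  obtain ⟨x, hx, w, hw, e⟩ := exists_y h6
  have h7 : (cj ((g : Y) * y * (g : Y)⁻¹ * z) s.E.T).map F.toMonoidHom = cj ((g : Y) * y * (g : Y)⁻¹ * z) s.E.T := by
    rw [← h4, e]
    exact (D.stable_iff hx).2 ⟨w, hw⟩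
  obtain ⟨u', h8⟩ := (s.E.stable_iff h2).1 h7
  refine ⟨_, h2, u', h8, h3, h4, tc_of_fix (Cf.rp_sub s hu) (Cf.rp_sub s h8) h3 ?_⟩
  rw [show ∀ a b : Y, a * (a⁻¹ * g * b) * b⁻¹ = g from fun a b => by group]
  exact g.2.2

theorem tc (h : Ac s g v) (u : s.E.W) : ∃ u', Tc D v (s.sw u * s.w) (s.sw u' * s.w) :=
  let ⟨_, _, u', _, _, _, e⟩ := h.frame (yw_mem s.E u) (yw_rp s.E u)
  ⟨u', e⟩

theorem tc_uniq (h : Tc D v (s.sw u * s.w) (s.sw u' * s.w)) {u'' : s.E.W} (h' : Tc D v (s.sw u * s.w) (s.sw u'' * s.w)) :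
    u' = u'' := s.sw_injective (mul_right_cancel (mul_right_cancel (Eq.trans h (Eq.symm h'))))

theorem inv (h : Ac s g v) : Ac s g⁻¹ v⁻¹ := by
  obtain ⟨z, hz, h1⟩ := h.ex
  have h2 : cj ((g⁻¹ : ↥(GF F G)) : Y) s.K = s.K := by
    conv_lhs => rw [← h.nk]
    exact cj_inv_cj _ _
  refine ⟨h2, (g : Y)⁻¹ * z⁻¹ * g, mem_cj.1 (h.nk.symm ▸ inv_mem hz), ?_⟩
  convert h1.inv using 1
  rw [coe_inv]
  group

theorem mul {g' : ↥(GF F G)} {v' : D.W} (h : Ac s g v) (h' : Ac s g' v') : Ac s (g * g') (v * v') := by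
  obtain ⟨z, hz, h1⟩ := h.ex
  obtain ⟨z', hz', h2⟩ := h'.ex
  refine ⟨by rw [coe_mul, cj_mul, h'.nk, h.nk], (g : Y) * z' * (g : Y)⁻¹ * z, mul_mem (h.nk ▸ conj_mem_cj.2 hz') hz, ?_⟩
  convert h1.mul h2 using 1
  rw [coe_mul]
  group

theorem of_mem (hg : (g : Y) ∈ s.K) : Ac s g 1 :=
  ⟨cj_eq_of_mem hg, g, hg, by simpa using rp_of_mem (one_mem D.T)⟩

/-- the element `v` may be changed by the Weyl group of the subgroup -/
theorem left (h : Ac s g v) (u : s.E.W) : Ac s g (s.sw u * v) := by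
  obtain ⟨z, hz, h1⟩ := h.ex
  obtain ⟨m, h2, -⟩ := s.E.exists_rp u
  have h3 : D.Rp (s.sw u) (s.y⁻¹ * m * s.y) := (D.conj_rp_iff s.hy s.hF).1 (by
    rw [show s.y * (s.y⁻¹ * m * s.y) * s.y⁻¹ = m by group]
    exact (D.conj s.hy s.hF).rp_of_sub s.hZ s.hg rfl h2)
  refine ⟨h.nk, z * m⁻¹, mul_mem hz (inv_mem h2.mem_G), ?_⟩
  convert h3.mul h1 using 1
  group

theorem mem (h : Ac s g v) : (∃ u, s.sw u = v) ↔ (g : Y) ∈ s.K := by
  obtain ⟨z, hz, h1⟩ := h.ex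
  constructor
  · rintro ⟨u, rfl⟩
    have h2 := mul_mem hz (Iso.mem_K h1 (s.mem_WW.2 ⟨u, rfl⟩))
    simpa [mul_assoc] using h2
  · intro hg
    have h2 : z⁻¹ * g ∈ s.E.NN := RL.mem_NN_of_cj (mul_mem (inv_mem hz) hg) (by
      rw [show s.E.T = cj s.y D.T from rfl, ← cj_mul, show z⁻¹ * g * s.y = s.y * ((z * s.y)⁻¹ * g * s.y) by group, cj_mul]
      exact (congrArg _ (D.cj_T ⟨v, h1⟩)).le)
    obtain ⟨u, hu⟩ := h2
    refine ⟨u, D.rp_unique ((D.conj_rp_iff s.hy s.hF).1 ?_) h1⟩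
    rw [show s.y * ((z * s.y)⁻¹ * g * s.y) * s.y⁻¹ = z⁻¹ * g by group]
    exact (D.conj s.hy s.hF).rp_of_sub s.hZ s.hg rfl hu

/-- `v` is unique up to the Weyl group of the subgroup -/
theorem uniq {v' : D.W} (h : Ac s g v) (h' : Ac s g v') : ∃ u, v' = s.sw u * v := by
  obtain ⟨u, e⟩ := (h'.mul h.inv).mem.2 (by rw [mul_inv_cancel]; exact one_mem _)
  exact ⟨u, by rw [e, inv_mul_cancel_right]⟩

theorem conj_sw (h : Ac s g v) (u : s.E.W) : ∃ u', s.sw u' = v * s.sw u * v⁻¹ := by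
  obtain ⟨a, h1⟩ := h.tc u
  obtain ⟨b, h2⟩ := h.tc 1
  refine ⟨a * b⁻¹, ?_⟩
  rw [Tc] at h1 h2
  rw [map_one, one_mul] at h2
  rw [map_mul, map_inv, eq_mul_inv_iff_mul_eq, ← mul_right_inj (s.sw b * (s.sw a)⁻¹), ← mul_left_inj s.w]
  calc _ = s.sw b * (s.sw b)⁻¹ * (v * s.w) := by group
    _ = s.sw b * (s.sw a)⁻¹ * (s.sw a * s.w * D.Fw v) * ((s.sw b * s.w * D.Fw v)⁻¹ * (v * s.w)) := by group
    _ = _ := by rw [h1, h2]; group

theorem sz_iff {b : D.I → ℤ} : b ∈ (D.conj s.hy s.hF).Sz s.Z ↔ D.Rt b ∧ cj s.y (D.X b) ≤ s.K :=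
  ⟨fun h => ⟨h.1, (Nodes.BNOf.RGD.le_Sup h).trans ((D.conj s.hy s.hF).S_le_cen _)⟩, fun h => ⟨h.1, fun z hz => by
    have h1 := (D.conj s.hy s.hF).tor' h.1 (s.hZ hz) 1
    rw [(D.conj s.hy s.hF).cen_le_centralizer s.hZ (h.2 ((D.conj s.hy s.hF).x_mem h.1 1)) z hz, mul_inv_cancel_right, mul_one] at h1
    exact ((D.conj s.hy s.hF).x_inj _ h.1 h1).symm⟩⟩

/-- `v` normalises the roots of the subgroup -/
theorem nm (h : Ac s g v) : Nm (D.Wm v) (rts s.E) := fun a ha => by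
  obtain ⟨b, hb, rfl⟩ := s.mem_rts.1 ha
  obtain ⟨h1, h2⟩ := sz_iff.1 hb
  obtain ⟨z, hz, h3⟩ := h.ex
  refine ⟨(D.wt (D.act v b), D.cor (D.act v b)), s.mem_rts.2 ⟨_, sz_iff.2 ⟨h1.act v, ?_⟩, rfl⟩, (D.cor_act v h1).symm, D.wt_act v b⟩
  rw [← D.conj_rp h3 h1, ← cj_mul, show s.y * ((z * s.y)⁻¹ * g * s.y) = z⁻¹ * (g * s.y) by group, cj_mul, cj_mul]
  exact (cj_mono _ ((cj_mono _ h2).trans h.nk.le)).trans (cj_eq_of_mem (inv_mem hz)).le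

theorem rel_uniq {c'' : Lbl D} (h : Rel D v c c') (h' : Rel D v c c'') : c' = c'' := funext fun i => by
  rw [← chr_single i c', ← chr_single i c'', ← h.symm, ← h'.symm]

variable (f : Fr D)

/-- **the characters of the tori** -/
theorem rw (h : Ac s g v) (ht : Tc D v (s.sw u * s.w) (s.sw u' * s.w)) (hr : Rel D v c c') {x x' : ↥(GF F s.K)}
    (hx : (x' : Y) = g * x * (g : Y)⁻¹) : RW (s.fr f) u' c' x' = RW (s.fr f) u c x := by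
  by_cases hc : Fx s.E u c
  swap
  · rw [RW_zero _ hc, RW_zero _ fun e => hc (s.fx_iff.2 (fx_of_tc ht.symm hr.symm (s.fx_iff.1 e)))]
    rfl
  obtain ⟨h1, h2⟩ := th_spec (s.fr f) hc
  obtain ⟨z', hz, u'', hu, h0, e, h7⟩ := h.frame (yw_mem s.E u) (yw_rp s.E u)
  obtain rfl := tc_uniq ht h7
  have H := Cf.ov_E s
  have h3 := pair_Vof (Tw_mem (D := s.E) u)
  have h4 := (h.nk ▸ (LP.of_pair H h3).cj g.2).pair H ((sys' D).conjA g g.2 _ (H.tori_eq.le (Tw_mem u)).1)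
  have h5 : (fun t => th (s.fr f) u c ((g : Y)⁻¹ * (g * t * (g : Y)⁻¹) * g)) = th (s.fr f) u c := funext fun t => by
    simp [mul_assoc]
  obtain ⟨c'', h6⟩ := exists_lab (s.fr f).L (s.fr f).hζ hz hu (θ := fun t => th (s.fr f) u c ((g : Y)⁻¹ * t * g))
    ⟨by simpa using h1.one, fun a ha b hb => by
      rw [← h1.mul _ ⟨mem_cj.1 (e.ge ha.1), ((Iso.cjE g.2.2 h.nk).symm ⟨a, ha.2⟩).2⟩ _
        ⟨mem_cj.1 (e.ge hb.1), ((Iso.cjE g.2.2 h.nk).symm ⟨b, hb.2⟩).2⟩]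
      simp [mul_assoc]⟩
  obtain rfl := rel_uniq hr (Iso.rel_of_lab (θ := fun t => th (s.fr f) u c ((g : Y)⁻¹ * t * g))
    (Cf.lab_sub s (h5.symm ▸ h2)) (Cf.lab_sub s h6) g.2.2 h0)
  rw [← R_eq_RW (s.fr f) hz hu h6, ← e, hx]
  refine (R_eq' h4 _ _ (Iso.cjE g.2.2 h.nk x).2).trans ?_
  exact (Iso.RV_map' (α := MulAut.conj (g : Y)) (fun y => (conj_fixed g.2.2 y).symm) (fun _ => (by rw [h.nk]; rfl : _ ∈ s.K ↔ _ ∈ cj (g : Y) s.K).trans conj_mem_cj)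
    (fun _ => conj_mem_cj) (fun _ => conj_mem_cj) _ x).symm.trans (congrArg (RV F s.K _ _ · x) h5)

variable [Fintype ↥(GF F s.K)] {ψ ψ' : ↥(GF F s.K) → ℂ}

/-- **the multiplicities of a conjugate character** -/
theorem inner (h : Ac s g v) (hc : Lab.Cj s.ι g ψ ψ') (ht : Tc D v (s.sw u * s.w) (s.sw u' * s.w)) (hr : Rel D v c c') :
    classInner ψ' (RW (s.fr f) u' c') = classInner ψ (RW (s.fr f) u c) := by
  rw [← Clifford.classInner_comp_mulEquiv (Iso.cjE g.2.2 h.nk)]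
  congr 1
  · exact funext fun x => hc x _ (Subtype.ext rfl)
  · exact funext fun x => h.rw f ht hr rfl

theorem has (h : Ac s g v) (hc : Lab.Cj s.ι g ψ ψ') (hh : Has (s.fr f) ψ u c) (hr : Rel D v c c') :
    ∃ u', Tc D v (s.sw u * s.w) (s.sw u' * s.w) ∧ Has (s.fr f) ψ' u' c' :=
  let ⟨u', e⟩ := h.tc u
  ⟨u', e, by rwa [Has, h.inner f hc e hr]⟩

end Ac

/-- an element which normalises the subgroup -/
theorem exists_ac' (s : Sb D) {g : ↥(GF F G)} (h : cj (g : Y) s.K = s.K) : ∃ v, Ac s g v := by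
  have H := Cf.ov_E s
  have h1 : s.E.T ∈ tori s.E := by simpa using mem_tori (D := s.E) (one_mem _) (w := 1) (by simpa using rp_of_mem (one_mem _))
  have h2 : cj (g : Y) s.E.T ∈ tori s.E := H.tori_eq.ge ⟨(sys' D).conjA g g.2 _ (H.tori_eq.le h1).1, (cj_mono _ s.E.T_le_G).trans h.le⟩
  obtain ⟨z, hz, -, -, e⟩ := exists_y h2
  obtain ⟨v, hv⟩ : (z * s.y)⁻¹ * g * s.y ∈ D.NN := by
    refine RL.mem_NN_of_cj (mul_mem (mul_mem (inv_mem (mul_mem (s.K_le hz) s.hy)) g.2.1) s.hy) (le_of_eq ?_)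
    rw [cj_mul, cj_mul]
    refine (congrArg _ e).trans ?_
    rw [Cf.cj_sub, cj_inv_cj]
  exact ⟨v, h, z, hz, hv⟩

theorem cj_K {s : Sb D} {r : ℕ} {P : Subgroup ↥(GF F G)} (hs : s.For r P) {g : ↥(GF F G)}
    (hg : g ∈ normalizer (P : Set ↥(GF F G))) : cj (g : Y) s.K = s.K := by
  rw [hs.cen, cj_inf', cj_eq_of_mem g.2.1]
  refine congrArg _ (Subgroup.ext fun z => mem_cj.trans ⟨fun e => ?_, fun e => ?_⟩)
  · rintro _ ⟨a, h4, rfl⟩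
    have h5 := e _ ⟨g⁻¹ * a * g, (mem_normalizer_iff.1 hg _).2 (by simpa [mul_assoc] using h4), rfl⟩
    simpa [mul_assoc] using congrArg (MulAut.conj (g : Y)) h5
  · rintro _ ⟨a, h4, rfl⟩
    simpa [mul_assoc] using congrArg (MulAut.conj (g : Y)⁻¹) (e _ ⟨_, (mem_normalizer_iff.1 hg _).1 h4, rfl⟩)

/-- **an element of the normaliser of `P`** -/
theorem exists_ac {s : Sb D} {r : ℕ} {P : Subgroup ↥(GF F G)} (hs : s.For r P) {g : ↥(GF F G)}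
    (hg : g ∈ normalizer (P : Set ↥(GF F G))) : ∃ v, Ac s g v := exists_ac' s (cj_K hs hg)

theorem Ac.mem_cen [Fintype ↥(GF F G)] {s : Sb D} {r : ℕ} {P : Subgroup ↥(GF F G)} (hs : s.For r P) {g : ↥(GF F G)} {v : D.W}
    (h : Ac s g v) : (∃ u, s.sw u = v) ↔ g ∈ centralizer (P : Set ↥(GF F G)) := h.mem.trans (mem_C hs.cen)

end Cfsg.Agent.BZ.RT
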