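import Cfsg.Agent.BZ.RT.Defs
import Cfsg.Agent.BZ.RT.Act

/-!
# BZ / RT (S4853) : `boxDict` (helper33)
-/

set_option autoImplicit false
set_option linter.unusedSectionVars false

namespace Cfsg.Agent.BZ.RT

open Cfsg Subgroup Cfsg.Agent.DL Cfsg.Agent.DL.PP Cfsg.Agent.Nodes.Reps Matrix Cfsg.Agent.KZ.Lie Cfsg.Agent.HZ.Gen Cfsg.Agent.HZ.L

variable {p : ℕ} [Fact p.Prime] {k : Type} [Field k] [CharP k p] [IsAlgClosed k] {Y : Type} [Group Y] {N : Type}
  [Fintype N] [DecidableEq N] {ρ : Y →* GL N k} {F : MulAut Y} {G : Subgroup Y} {D : Datum p ρ F G}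
  {s : Sb D} {g : ↥(GF F G)} {v : D.W}

theorem Ac.dv (h : Ac s g v) : Dv s g v := by
  obtain ⟨z, hz, h1⟩ := h.ex
  exact ⟨z⁻¹, inv_mem hz, by convert h1 using 1; group⟩

theorem Dv.ac (h : Dv s g v) (nk : cj (g : Y) s.K = s.K) : Ac s g v := by
  obtain ⟨x, hx, h1⟩ := h
  exact ⟨nk, x⁻¹, inv_mem hx, by convert h1 using 1; group⟩

theorem Ac.one (s : Sb D) (u : s.E.W) : Ac s 1 (s.sw u) := by
  simpa using (Ac.of_mem (s := s) (g := 1) (one_mem _)).left u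

/-- **[Dict]** -/
theorem boxDict [Fintype ↥(GF F G)] (D : Datum p ρ F G) : BoxDict D := fun _ r P s hs => by
  refine ⟨fun g hg => (exists_ac hs hg).imp fun _ => Ac.dv, fun g hg v h => ?_, fun g hg g' v v' h h' => ?_,
    fun u => (Ac.one s u).dv, fun S hS A hA => ?_⟩
  · have h1 := h.ac (cj_K hs hg)
    exact ⟨fun f => ⟨h1.nm, h1.tc, fun u u' c c' ht hr y y' e => h1.rw f ht hr (congrArg Subtype.val e)⟩, (h1.mem_cen hs).symm⟩
  · obtain ⟨x, hx, h1⟩ := h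
    obtain ⟨x', hx', h2⟩ := h'
    refine ⟨x * ((g : Y) * x' * (g : Y)⁻¹), mul_mem hx ((cj_K hs hg).le (conj_mem_cj.2 hx')), ?_⟩
    convert h1.mul h2 using 1
    rw [coe_mul]
    group
  · induction hA using Submonoid.closure_induction with
    | mem A h => exact h
    | one => exact ⟨1, one_mem _, 1, (Ac.of_mem (one_mem _)).dv, D.Wm_one.symm⟩
    | mul A B _ _ h h' =>
      obtain ⟨g, hg, v, h1, rfl⟩ := h
      obtain ⟨g', hg', v', h2, rfl⟩ := h'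
      exact ⟨g * g', mul_mem hg hg', v * v', ((h1.ac (cj_K hs (hS hg))).mul (h2.ac (cj_K hs (hS hg')))).dv, (D.Wm_mul _ _).symm⟩

end Cfsg.Agent.BZ.RT
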