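import Cfsg.Agent.BZ.RT.Defs
import Cfsg.Agent.BZ.RT.CritE
import Cfsg.Agent.BH.Min.Main

/-!
# BZ / RT (S4853) : a fixed member of height zero (helper49)
-/

set_option autoImplicit false
set_option linter.unusedSectionVars false

namespace Cfsg.Agent.BZ.RT

open Cfsg Subgroup Cfsg.Agent.HZ.Gen Cfsg.Agent.KM Cfsg.Agent.BZ.Lab Cfsg.Agent.BZ.L Cfsg.Agent.Characters.Core Cfsg.Agent.Blocks
  Cfsg.Agent.H649
open Cfsg.Agent.H644.CentralQuot (defl infl infl_apply)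
open Cfsg.Agent.OddOrderCharacters.PF9.CliffGen (inertia mem_inertia' le_inertia)
open scoped Pointwise

namespace Hz0

variable {l r m n N : ℕ} {M : Ideal AlgInt} {K L : Type} [Group K] [Fintype K] [Group L] [Fintype L] {ι : L →* K}
  {B : Set (IrrCharacter K)} {b : Set (IrrCharacter L)} {P Z : Subgroup K} {α : MulAut K} {β : MulAut L}

/-- a member of height zero which is trivial on `Z` -/
theorem ex_ov (hM : IsPModular l M) (hB : IsPBlock M B) (hZ : Z ≤ center K) (hp : IsPGroup l Z) :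
    ∃ χ ∈ B, Ov Z (χ : K → ℂ) ∧ blockHeight l B (χ : K → ℂ) = 0 := by
  have : Fact l.Prime := ⟨hM.1⟩
  have := BH.TB.normal_of_le hZ
  have := Fintype.ofFinite (K ⧸ Z)
  obtain ⟨θ, e⟩ := H644.CentralQuot.isPBlock_defl hM hZ hp hB
  obtain ⟨θ₀, h1, h2⟩ := Ce.exists_zero hM θ
  have h3 : θ₀ ∈ defl Z B := e ▸ h1
  refine ⟨infl Z θ₀, h3, fun z hz => ?_, (Bz.ht_infl hM hZ hp hB h3).trans (e ▸ h2)⟩
  rw [infl_apply, infl_apply, (QuotientGroup.eq_one_iff z).2 hz]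
  rfl

/-- **a stable block of a normal subgroup whose index is a power of `l`** -/
theorem fixed (hM : IsPModular l M) (hι : Function.Injective ι) (hn : ι.range.Normal) (hi : ∃ k, ι.range.index = l ^ k)
    (hb : IsPBlock M b) (hs : ∀ g, ∀ ψ ∈ b, ∃ ψ' ∈ b, Cj ι g (ψ : L → ℂ) (ψ' : L → ℂ)) (hZ : Z ≤ center K) (hp : IsPGroup l Z) :
    ∃ ψ ∈ b, (∀ g, Cj ι g (ψ : L → ℂ) (ψ : L → ℂ)) ∧ blockHeight l b (ψ : L → ℂ) = 0 ∧ Ov (Z.comap ι) (ψ : L → ℂ) := by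
  have : Fact l.Prime := ⟨hM.1⟩
  have := hM.2.1.isPrime
  have := Fintype.ofFinite ι.range
  let e := MonoidHom.ofInjective hι
  have hb' := isPBlock_blkMap (e := e) hb
  obtain ⟨D, hD⟩ := H644.exists_isDefectGroup hM hb'
  obtain ⟨B, P, hB, hP, -, h6⟩ := KM.up_norm hM ι.range hb' hD
  obtain ⟨θ₀, h7⟩ := Basic.isPBlock_nonempty hb'
  obtain ⟨χ₀, h8, h9⟩ := h6 θ₀ h7
  obtain ⟨χ, k1, k2, k3⟩ := ex_ov hM hB hZ hp
  obtain ⟨_, ⟨ψ, a1, rfl⟩, a2⟩ := under hM hB hb' h8 h7 h9 k1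
  have a3 := (TID.Red.ov_subtype_iff _ _ _).1 a2
  have a5 := Reg.mur hM hB k1 k3 hb' ⟨ψ, a1, rfl⟩ a2
  rw [blockHeight_blkMap] at a5
  obtain ⟨E, hE, a6, -⟩ := BH.Mn.ext1 hM hB hP k1 a2 (Reg.df_ht hM hB hP k1 k3)
  have a7 := (H646.PIndex.sup_eq_top_and_defect ι.range hM hi hb' (fun g => ⟨(normalizer_eq_top _).ge (mem_top g), by
    rintro _ ⟨φ, hφ, rfl⟩
    obtain ⟨φ', h1, h2⟩ := hs g φ hφ
    refine ⟨_, ⟨φ', h1, rfl⟩, fun y y' h => ?_⟩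
    obtain ⟨y, rfl⟩ := e.surjective y
    obtain ⟨y', rfl⟩ := e.surjective y'
    rw [irrMap_apply', irrMap_apply']
    exact h2 y y' h⟩) hB ⟨χ, k1, _, ⟨ψ, a1, rfl⟩, a3⟩ hE).1
  have a8 := a7.ge.trans (sup_le (le_inertia (isIrr_isClassFunction (irrMap e ψ).2)) a6)
  refine ⟨ψ, a1, fun g y y' h => ?_, a5, fun z hz => ?_⟩
  · rw [← irrMap_apply' e ψ y, ← mem_inertia'.1 (a8 (mem_top g)) (e y), ← irrMap_apply' e ψ y']
    exact congrArg _ (Subtype.ext h)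
  · have b3 := H625.PHZ.central_eq ι.range χ.2 (irrMap e ψ).2 a3 (hZ hz) ⟨z, rfl⟩
    rw [k2 _ hz, mul_right_inj' (isIrr_apply_one_ne_zero χ.2), irrMap_one] at b3
    exact (irrMap_apply' e ψ z).symm.trans b3.symm

/-- the action on the characters -/
@[reducible] noncomputable def act (φ : K →* MulAut L) : MulAction K (IrrCharacter L) where
  smul g ψ := irrMap (φ g) ψ
  one_smul ψ := by
    show irrMap (φ 1) ψ = ψ
    rw [map_one]
    exact irrMap_refl ψ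
  mul_smul a b ψ := by
    show irrMap (φ (a * b)) ψ = irrMap (φ a) (irrMap (φ b) ψ)
    rw [map_mul, irrMap_irrMap]
    rfl

/-- a Sylow subgroup of the stabiliser -/
theorem syl (hM : IsPModular l M) (φ : K →* MulAut L) (C : Subgroup K) [C.Normal] (hC : ∀ g ∈ C, ∀ ψ, irrMap (φ g) ψ = ψ)
    (hb : IsPBlock M b) : ∃ S : Subgroup K, C ≤ S ∧ (∀ g ∈ S, blkMap (φ g) b = b) ∧ (∀ g ∈ S, ∃ i : ℕ, g ^ l ^ i ∈ C) ∧
      (S ≤ C → ∀ g, blkMap (φ g) b = b → g ^ l ∈ C → g ∈ C) ∧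
      ∀ ψ ∈ b, (∀ g ∈ S, irrMap (φ g) ψ = ψ) → ¬ l ∣ ({ψ' | ∃ g, ψ' = irrMap (φ g) ψ} ∩ b).ncard := by
  have : Fact l.Prime := ⟨hM.1⟩
  have := hM.2.1.isPrime
  let := act φ
  let T := MulAction.stabilizer K b
  have hT : ∀ g, g ∈ T ↔ blkMap (φ g) b = b := fun _ => Iff.rfl
  obtain ⟨R⟩ : Nonempty (Sylow l (T ⧸ C.subgroupOf T)) := inferInstance
  let S := (R : Subgroup (T ⧸ C.subgroupOf T)).comap (QuotientGroup.mk' _)
  refine ⟨S.map T.subtype, fun c hc => ?_, fun g hg => map_subtype_le S hg, ?_, fun h g h1 h2 => ?_,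
    fun ψ hψ h h1 => ?_⟩
  · have h1 : c ∈ T := (hT c).2 ((Set.image_congr fun ψ _ => hC c hc ψ).trans (Set.image_id' b))
    refine ⟨⟨c, h1⟩, mem_comap.2 ?_, rfl⟩
    rw [QuotientGroup.mk'_apply, (QuotientGroup.eq_one_iff (N := C.subgroupOf T) ⟨c, h1⟩).2 hc]
    exact one_mem _
  · rintro _ ⟨g, hg, rfl⟩
    exact (R.isPGroup' ⟨_, hg⟩).imp fun i h => (QuotientGroup.eq_one_iff (N := C.subgroupOf T) (g ^ l ^ i)).1 (congrArg Subtype.val h)
  · have h3 : (R : Subgroup (T ⧸ C.subgroupOf T)) = ⊥ := eq_bot_iff.2 fun x hx => by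
      obtain ⟨x, rfl⟩ := QuotientGroup.mk_surjective x
      exact (QuotientGroup.eq_one_iff x).2 (h ⟨x, hx, rfl⟩)
    have h4 := R.not_dvd_index
    rw [h3, index_bot] at h4
    let x : T := ⟨g, h1⟩
    have h5 : (x : T ⧸ C.subgroupOf T) ^ l = 1 := (QuotientGroup.eq_one_iff (x ^ l)).2 h2
    rcases (Nat.dvd_prime hM.1).1 (orderOf_dvd_of_pow_eq_one h5) with e | e
    · exact (QuotientGroup.eq_one_iff x).1 (orderOf_eq_one_iff.1 e)
    · exact absurd (e ▸ orderOf_dvd_natCard _) h4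
  · have h2 : {ψ' | ∃ g, ψ' = irrMap (φ g) ψ} ∩ b = MulAction.orbit T ψ := Set.ext fun ψ' => by
      constructor
      · rintro ⟨⟨g, rfl⟩, h2⟩
        exact ⟨⟨g, (hT g).2 (Basic.isPBlock_eq_of_mem (isPBlock_blkMap hb) hb ⟨ψ, hψ, rfl⟩ h2)⟩, rfl⟩
      · rintro ⟨g, rfl⟩
        exact ⟨⟨g, rfl⟩, ((hT g).1 g.2).le ⟨ψ, hψ, rfl⟩⟩
    rw [h2, ← MulAction.index_stabilizer] at h1
    refine R.not_dvd_index (h1.trans ?_)
    rw [← index_comap_of_surjective _ (QuotientGroup.mk'_surjective _)]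
    exact index_dvd_of_le fun g hg => h g ⟨g, hg, rfl⟩

theorem exists_act (hι : Function.Injective ι) (hL : ι.range = centralizer (P : Set K)) :
    ∃ φ : normalizer (P : Set K) →* MulAut L, ∀ (g : normalizer (P : Set K)) (ψ ψ' : IrrCharacter L),
      Cj ι g (ψ : L → ℂ) (ψ' : L → ℂ) ↔ ψ' = irrMap (φ g) ψ := by
  choose σ hσ using fun g : normalizer (P : Set K) => exists_aut hι hL g.2
  refine ⟨MonoidHom.mk' σ fun a b => MulEquiv.ext fun y => hι (by rw [MulAut.mul_apply, hσ, hσ, hσ, coe_mul]; group),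
    fun g ψ ψ' => ⟨fun h => Subtype.ext (funext fun y => ?_), fun h y y' e => ?_⟩⟩
  · obtain ⟨y, rfl⟩ := (σ g).surjective y
    exact (h _ _ (hσ g y)).trans (irrMap_apply' _ ψ y).symm
  · rw [h, hι (e.trans (hσ g y).symm)]
    exact irrMap_apply' _ ψ y

/-- `nab'` for an arbitrary embedding -/
theorem nab_e (h : Fr l r m n N K α) (hM : IsPModular l M) (T : Top r M α B P ι β b) {Q : Subgroup L} (hD : IsDefectGroup l M b Q)
    (hQ : Fx l β Q) (hN : normalizer (P : Set K) ⊓ centralizer (Q.map ι : Set K) ≤ centralizer (P : Set K))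
    (hE : ∀ E, IsDefectGroup l M B E → ¬ BK.Ab E) :
    ∃ g ∈ normalizer (P : Set K), Stab ι b g ∧ g ∉ centralizer (P : Set K) ∧ g ^ l ∈ centralizer (P : Set K) := by
  have := Fintype.ofFinite (centralizer (P : Set K))
  obtain ⟨e, he⟩ := Ob.exists_e T.emb.inj T.rg
  have hQ' : Fx l α (Q.map ι) := ⟨hQ.pg.map ι, by
    rintro _ ⟨x, hx, rfl⟩ _ ⟨y, hy, rfl⟩
    rw [← map_mul, hQ.ab hx y hy, map_mul], by
    rintro _ ⟨x, hx, rfl⟩
    rw [← T.emb.cm, hQ.fix x hx]⟩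
  obtain ⟨ξ, h1, ψ, h2, h3⟩ := T.lnk
  have T' : Top r M α B P (centralizer (P : Set K)).subtype (e.symm.trans (β.trans e)) (blkMap e b) := by
    refine ⟨T.rp, T.st, ⟨subtype_injective _, fun y => ?_⟩, range_subtype _, T.hB, T.sB, isPBlock_blkMap T.hb, ?_,
      T.mx, ξ, h1, _, ⟨ψ, h2, rfl⟩, (Ob.inner_e e he _ ψ).trans_ne h3⟩
    · obtain ⟨y, rfl⟩ := e.surjective y
      rw [MulEquiv.trans_apply, MulEquiv.trans_apply, e.symm_apply_apply, subtype_apply, subtype_apply, he, he, T.emb.cm]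
    · rintro _ ⟨ψ, hψ, rfl⟩ g
      rw [MulEquiv.trans_apply, MulEquiv.trans_apply, irrMap_apply', irrMap_apply]
      exact T.sb ψ hψ _
  refine ((nab' h hM T' (T.rg ▸ map_le_range ι Q) ?_ hQ' hN).resolve_left fun h4 =>
    hE _ h4 fun x hx y hy => hQ'.ab hy x hx).imp fun g ⟨h4, _, h5, h6⟩ => ⟨h4, fun φ hφ φ' h7 => ?_, h6⟩
  · convert isDefectGroup_blkMap (e := e) hD using 1
    ext x
    obtain ⟨x, rfl⟩ := e.surjective x
    rw [mem_subgroupOf, he, mem_map_iff_mem T.emb.inj]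
    exact (mem_map_iff_mem (f := e.toMonoidHom) e.injective).symm
  · refine irrMap_mem_blkMap.1 (h5 _ ⟨φ, hφ, rfl⟩ _ fun y y' h8 => ?_)
    obtain ⟨y, rfl⟩ := e.surjective y
    obtain ⟨y', rfl⟩ := e.surjective y'
    rw [irrMap_apply', irrMap_apply']
    exact h7 y y' (by rwa [← he, ← he])

end Hz0

open Hz0

/-- **[Hz0]** -/
theorem boxHz0 : BoxHz0 := by
  intro l r m n N K L _ _ _ _ α β ι M B P b Q Z h hM T hD hQ hN hE hZ hp
  have : Fact l.Prime := ⟨hM.1⟩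
  have := hM.2.1.isPrime
  have := Fintype.ofFinite (normalizer (P : Set K))
  have hCN : centralizer (P : Set K) ≤ normalizer (P : Set K) := centralizer_le_normalizer _
  have := normal_subgroupOf_of_le_normalizer (Cor.norm_le P)
  obtain ⟨φ, hφ⟩ := exists_act T.emb.inj T.rg
  obtain ⟨S, h1, h2, h3, h4, h5⟩ := syl hM φ ((centralizer (P : Set K)).subgroupOf _) (fun g hg ψ => by
    obtain ⟨x, hx⟩ := T.rg.ge hg
    refine ((hφ g ψ ψ).1 fun y y' e => ?_).symm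
    rw [show (g : K) = ι x from hx.symm, ← map_inv, ← map_mul, ← map_mul] at e
    rw [T.emb.inj e, isIrr_isClassFunction ψ.2]) T.hb
  have hcs : centralizer (P : Set K) ≤ S.map (normalizer (P : Set K)).subtype := fun c hc => ⟨⟨c, hCN hc⟩, h1 hc, rfl⟩
  have hpg : ∀ g ∈ S.map (normalizer (P : Set K)).subtype, ∃ i : ℕ, g ^ l ^ i ∈ centralizer (P : Set K) := by
    rintro _ ⟨g, hg, rfl⟩
    exact h3 g hg
  refine ⟨_, ⟨hcs, map_subtype_le S, hpg, fun h6 => ?_, fun ψ hψ h6 => ?_⟩, ?_⟩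
  · obtain ⟨g, k1, k2, k3, k4⟩ := nab_e h hM T hD hQ hN hE
    obtain ⟨ψ, hψ⟩ := Basic.isPBlock_nonempty T.hb
    exact k3 (h4 (fun x hx => h6 ⟨x, hx, rfl⟩) ⟨g, k1⟩ (Basic.isPBlock_eq_of_mem (isPBlock_blkMap T.hb) T.hb ⟨ψ, hψ, rfl⟩
      (k2 ψ hψ _ ((hφ ⟨g, k1⟩ _ _).2 rfl))) k4)
  · convert h5 ψ hψ fun g hg => ((hφ g ψ ψ).1 (h6 g ⟨g, hg, rfl⟩)).symm using 4
    exact Set.ext fun ψ' => ⟨fun ⟨g, hg, e⟩ => ⟨⟨g, hg⟩, (hφ ⟨g, hg⟩ _ _).1 e⟩, fun ⟨g, e⟩ => ⟨g, g.2, (hφ g _ _).2 e⟩⟩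
  set S' := S.map (normalizer (P : Set K)).subtype
  have := Fintype.ofFinite S'
  let j : L →* S' := ι.codRestrict S' fun y => hcs (T.rg.le ⟨y, rfl⟩)
  have hj : j.range = (centralizer (P : Set K)).subgroupOf S' := by
    ext x
    rw [mem_subgroupOf, ← T.rg]
    exact exists_congr fun y => Subtype.ext_iff
  have hn : j.range.Normal := hj ▸ normal_subgroupOf_of_le_normalizer ((map_subtype_le S).trans (Cor.norm_le P))
  obtain ⟨ψ, k1, k2, k3, k4⟩ := fixed (ι := j) hM (fun a b e => T.emb.inj (congrArg Subtype.val e)) hn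
    (IsPGroup.iff_card.1 fun x => by
      obtain ⟨x, rfl⟩ := QuotientGroup.mk_surjective x
      exact (hpg x x.2).imp fun i e => (QuotientGroup.eq_one_iff (x ^ l ^ i)).2 (hj.ge e)) T.hb
    (fun ⟨_, g, hg, rfl⟩ ψ hψ => ⟨_, (h2 g hg).le ⟨ψ, hψ, rfl⟩, fun y y' e => (hφ g _ _).2 rfl y y' (congrArg Subtype.val e)⟩)
    (Z := Z.subgroupOf S') (fun z hz => mem_center_iff.2 fun y => Subtype.ext (mem_center_iff.1 (hZ hz) y)) hp.comap_subtype
  exact ⟨ψ, k1, fun g hg y y' e => k2 ⟨g, hg⟩ y y' (Subtype.ext e), k3, k4⟩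

end Cfsg.Agent.BZ.RT
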