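import Cfsg.Agent.BZ.RT.Defs
import Cfsg.Agent.KZ.Mts.Main

/-!
# BZ / RT : central labels come from linear characters (helper11)

`LinT.exists_lin` (all central labels), `boxLin`.
-/

set_option autoImplicit false
set_option linter.unusedSectionVars false
set_option maxHeartbeats 400000

namespace Cfsg.Agent.BZ.RT

open Cfsg Cfsg.Agent.DL Cfsg.Agent.DL.PP Cfsg.Agent.DL.Uni Cfsg.Agent.DL.Asm Cfsg.Agent.DL.Mk Cfsg.Agent.KZ.Lie Cfsg.Agent.HZ.L
  Cfsg.Agent.KZ.Lie.ApiE Cfsg.Agent.Tits.Roots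

variable {p : ℕ} [Fact p.Prime] {k : Type} [Field k] [CharP k p] [IsAlgClosed k] {Y : Type} [Group Y] {N : Type}
  [Fintype N] [DecidableEq N] {ρ : Y →* GL N k} {F : MulAut Y} {G : Subgroup Y} {D : Datum p ρ F G} [Fintype ↥(GF F G)]

/-- the linear character of a central label -/
theorem LinT.exists_lin (hq : D.QS) (f : Fr D) {t : Lbl D} {w₀ : D.W} (hc : X.Cen (rts D) t) (hx : Fx D w₀ t) :
    ∃ χ : ↥(GF F G) →* ℂˣ, Pt p χ ∧ (∀ u, Rel D u t t) ∧ (∀ w, Fx D w t) ∧ (∀ n : ℕ, t ^ n = 1 → χ ^ n = 1) ∧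
      (∀ g, (χ g : ℂ) = avg f ⊤ (fun _ => 1) 1 t g) ∧ ∀ w c g, RW f w (c * t) g = χ g * RW f w c g := by
  have h1 : CenL D t := fun i => by
    rw [← D.cor_sr]
    exact hc _ ⟨_, isRoot_sr _ _ i, rfl⟩
  have h3 : ∀ w, Fx D w t := fun w => by
    have := hx.mul (rel_of_cen h1 (w * w₀⁻¹))
    rwa [inv_mul_cancel_right] at this
  obtain ⟨μ, hl, h2⟩ := KZ.Mts.boxExLin D f.d f.e f.ζ f.L f.hζ t h1 (h3 1)
  have h0 := pl_lin hl
  have h6 : ∀ w c g, RW f w (c * t) g = μ g * RW f w c g := fun w c g => by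
    by_cases hc : Fx D w c
    · rw [← R_eq_RW f (yw_mem D w) (yw_rp D w) (θ := lin μ * th f w c) fun x => by
        rw [Pi.mul_apply, h2 _ (yw_mem D w) w (yw_rp D w), (th_spec f hc).2, map_mul, Units.val_mul, mul_comm],
        ← lin_coe]
      exact (sys' D).pconst _ (Tw_mem w) _ _ (KZ.Levi.pconst_of_lin h0.lin h0.uni) g g.2
    · rw [RW_zero f hc, RW_zero f fun h' => hc fun x => ?_, Pi.zero_apply, mul_zero]
      have h4 := h' x
      rwa [map_mul, map_mul, h3, mul_left_inj] at h4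
  refine ⟨μ, hl, rel_of_cen h1, h3, fun n e => ?_, fun g => ?_, h6⟩
  · have h4 : Lab D f.d f.ζ 1 (lin (μ ^ n)) (t ^ n) := fun x => by
      have h5 := (nrm_mem f.L f.hζ (one_mem G) rp11 x).2
      rw [map_pow, Units.val_pow_eq_pow_val, ← h2 1 (one_mem G) 1 rp11 x, lin_apply _ h5, lin_apply _ h5]
      rfl
    have h5 := PL.ext hq (pl_lin (μ := μ ^ n) fun u hu => by rw [MonoidHom.pow_apply, hl u hu, one_pow])
      ⟨isLin_one, fun _ _ _ => rfl⟩ fun s hs =>
        h4.ext f.L f.hζ (one_mem G) rp11 (e ▸ lab_one f 1) s (by rwa [Nodes.Reps.cj_one])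
    exact MonoidHom.ext fun g => Units.ext ((lin_coe _ g).symm.trans (h5 g g.2))
  · have := Fintype.ofFinite D.W
    have h4 := congrFun (KZ.Mts.boxApi f hq).one g
    rw [avg_top, finsum_eq_sum_of_fintype] at h4 ⊢
    simp only [one_mul] at h4 ⊢
    refine ((mul_one _).symm.trans (congrArg ((μ g : ℂ) * ·) h4.symm)).trans ?_
    rw [mul_left_comm, Finset.mul_sum]
    refine congrArg _ (Finset.sum_congr rfl fun w _ => ?_)
    rw [← h6, one_mul]

variable (D) in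
/-- **central labels come from linear characters** -/
theorem boxLin : BoxLin D := fun hq _ _ _ f _ _ _ ht hc hx =>
  let ⟨χ, _, _, _, h1, h2, h3⟩ := LinT.exists_lin hq f hc hx
  ⟨χ, h1 _ ht, h2, h3⟩

end Cfsg.Agent.BZ.RT
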