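import Cfsg.Agent.BZ.RT.AtD
import Cfsg.Agent.BZ.Lab.St
import Cfsg.Agent.LV.Lift.Main
import Cfsg.Agent.HZ.L.Chf.Adj

/-!
# BZ / RT (S4853) : the stable characters at a large level are closed under sharing a label (helper51)
-/

set_option autoImplicit false
set_option linter.unusedSectionVars false

namespace Cfsg.Agent.BZ.RT

open Cfsg Cfsg.Agent.DL Cfsg.Agent.DL.PP Matrix Cfsg.Agent.KZ.Lie Cfsg.Agent.HZ.Gen Cfsg.Agent.HZ.L Cfsg.Agent.LV.Lift
  Cfsg.Agent.Characters.Core

variable {p : ℕ} [Fact p.Prime] {k : Type} [Field k] [CharP k p] [IsAlgClosed k] {Y : Type} [Group Y] {N : Type}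
  [Fintype N] [DecidableEq N] {ρ : Y →* GL N k} {F : MulAut Y} {G : Subgroup Y} {D : Datum p ρ F G}

namespace AtS

variable {f : Fr D} {l : ℕ} {w w' : D.W} {c : Lbl D}

/-- a label which is rational at the first level is fixed there by the same elements -/
theorem fx_other (hl : Lp f l) (h : Fx D w c) (h' : Fx (D.pow hl.pos) w' c) : Fx D w' c := fun v => by
  obtain ⟨j, hj⟩ := hl.exists_eq
  have h1 : ∀ m v, chr ((D.Wm w * D.Mx) ^ m *ᵥ v) c = chr v c := fun m => by
    induction m with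
    | zero => intro v; rw [pow_zero, one_mulVec]
    | succ m ih => intro v; rw [pow_succ', ← mulVec_mulVec, h, ih]
  have h2 : ∀ w, (D.Wm w * D.Mx) ^ (f.d * j) = (D.Wm 1 * D.Mx) ^ (f.d * j) := fun w => by
    rw [pow_mul, pow_mul, f.L.pow, f.L.pow]
  have h3 : chr ((D.Wm w' * D.Mx) ^ l *ᵥ v) c = chr v c := by
    rw [pow_eq f.L hj]
    exact h' v
  rwa [hj, pow_succ, h2, ← h2 w, ← mulVec_mulVec, h1] at h3

/-- the labels of a stable character are rational at the first level -/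
theorem fx_one (hl : Lp f l) [Fintype ↥(GF (F ^ l) G)] {f' : Fr (D.pow hl.pos)} {φ : MulAut ↥(GF (F ^ l) G)}
    (hφ : ∀ g, (φ g : Y) = F g) {χ' : GF (F ^ l) G → ℂ} (h3 : IsIrrCharacter _ χ') (h4 : Lab.St φ χ')
    (h0 : Has f' χ' w c) : Fx D w c := by
  classical
  have : Fact l.Prime := ⟨hl.prime⟩
  obtain ⟨j, hj⟩ := hl.exists_eq
  obtain ⟨a, ha, -⟩ := exists_int h3 (RW_gen f' w c)
  have hW := hl.big
  by_contra hc
  have hc' : Fx (D.pow hl.pos) w c := by
    by_contra hc'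
    exact h0 (by simp [RW_zero f' hc', classInner])
  set σ : Lbl D → Lbl D := fun c => mon (D.Wm w * D.Mx)ᵀ c with hσ
  have k1 : ∀ i v, chr v (σ^[i] c) = chr ((D.Wm w * D.Mx) ^ i *ᵥ v) c := fun i => by
    induction i with
    | zero => intro v; rw [pow_zero, one_mulVec, Function.iterate_zero_apply]
    | succ i ih => intro v; rw [Function.iterate_succ_apply', hσ, chr_tr, ih, pow_succ, mulVec_mulVec]
  have k2 : ∀ v, chr ((D.Wm w * D.Mx) ^ l *ᵥ v) c = chr v c := fun v => by rw [pow_eq f.L hj]; exact hc' v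
  have k3 : Function.minimalPeriod σ c = l := Function.minimalPeriod_eq_prime_iff.2
    ⟨eq_of_chr D fun v => by rw [k1, k2], fun h => hc fun v => by rw [← chr_tr]; exact congrArg _ h⟩
  have k4 : ∀ i, classInner χ' (RW f' w (σ^[i] c)) = a := fun i => by
    induction i with
    | zero => exact ha
    | succ i ih =>
      have k5 : Fx (D.pow hl.pos) w (σ^[i] c) := fun v => by
        refine (congrArg (fun B => chr (B *ᵥ v) (σ^[i] c)) (pow_eq f.L hj w)).symm.trans ?_
        rw [k1, k1, mulVec_mulVec, pow_mul_comm, ← mulVec_mulVec, k2]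
      rw [← ih, Function.iterate_succ_apply', classInner, classInner, ← Equiv.sum_comp φ.toEquiv (fun g => χ' g *
        (starRingEnd ℂ) (RW f' w (σ^[i] c) g))]
      exact congrArg _ (Finset.sum_congr rfl fun g _ => by
        rw [MulEquiv.toEquiv_eq_coe, MulEquiv.coe_toEquiv, h4, RW_F hl f' k5 g _ (hφ g)])
  have k6 := bessel_fin f' h3 w ((Finset.range l).image fun i => σ^[i] c)
  have k9 := Function.iterate_injOn_Iio_minimalPeriod (f := σ) (x := c)
  rw [k3, ← Finset.coe_range] at k9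
  rw [Finset.sum_image k9] at k6
  simp only [k4, Finset.sum_const, Finset.card_range, nsmul_eq_mul, Complex.norm_intCast, sq_abs] at k6
  have k7 : (l : ℤ) * a ^ 2 ≤ Nat.card D.W := by exact_mod_cast k6
  have k8 : 0 < a ^ 2 := sq_pos_of_ne_zero fun h : a = 0 => h0 (by rw [ha, h, Int.cast_zero])
  nlinarith

/-- the characters with a label which is rational at the first level are stable -/
theorem st_RW (hl : Lp f l) [Fintype ↥(GF (F ^ l) G)] (f' : Fr (D.pow hl.pos)) {φ : MulAut ↥(GF (F ^ l) G)}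
    (hφ : ∀ g, (φ g : Y) = F g) (hc : Fx D w c) : Lab.St φ (RW f' w c) := fun g => by
  obtain ⟨j, hj⟩ := hl.exists_eq
  have h7 : mon (D.Wm w * D.Mx)ᵀ c = c := eq_of_chr D fun v => by rw [chr_tr, hc]
  rw [RW_F hl f' (LV.Lift.fx_pow f.L hl.pos hj hc) g _ (hφ g), h7]

end AtS

/-- **the stable characters** -/
theorem boxCls : BoxCls D := by
  intro _ f l r m n N' hm _ f' α hα h
  refine ⟨fun ξ hξ => (Lab.boxSt.rat h ξ hξ).rat, fun ξ hξ ξ' w w' c h1 h2 => ?_⟩
  have h3 : Fx (D.pow hm.pos) w' c := by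
    by_contra h3
    exact h2 (by simp [RW_zero f' h3, classInner])
  obtain ⟨a, ha, ha'⟩ := exists_int ξ'.2 (RW_gen f' w' c)
  refine Lab.boxSt.con h.toGl _ (RW_gen f' w' c) (AtS.st_RW hm f' hα (AtS.fx_other hm (AtS.fx_one hm hα ξ.2 hξ h1) h3))
    ((Cf.nrm_RW f' w' c).trans_lt ?_) ξ' (ha'.trans_ne (ha.symm.trans_ne h2))
  have h4 : Nat.card D.W < m := by have := hm.big; omega
  exact Nat.cast_lt.2 h4

end Cfsg.Agent.BZ.RT
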