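import Cfsg.Agent.BZ.RT.Defs
import Cfsg.Agent.BZ.RT.AtS
import Cfsg.Agent.BZ.RT.CritE
import Cfsg.Agent.OM.Lie.Main
import Cfsg.Agent.OM.Lie.Tp
import Cfsg.Agent.OM.Lie.Rd
import Cfsg.Agent.OM.Lie.Wk
import Cfsg.Agent.OM.Lie.Cq
import Cfsg.Agent.OM.Lie.DicPr
import Cfsg.Agent.OM.Lie.DicBk
import Cfsg.Agent.HZ.L.T3.Lev

/-!
# BZ / RT (S4853) : the situation exists (helper87)
-/

set_option autoImplicit false
set_option linter.unusedSectionVars false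
set_option maxHeartbeats 400000

namespace Cfsg.Agent.BZ.RT

open Cfsg Subgroup Cfsg.Agent.DL Cfsg.Agent.KZ.Lie Cfsg.Agent.HZ.Gen Cfsg.Agent.HZ.L Cfsg.Agent.OM Cfsg.Agent.H662
  Cfsg.Agent.Characters Cfsg.Agent.Characters.Core Cfsg.Agent.OddOrderCharacters.VChar
open Cfsg.Agent.BZ.Lab (boxSt)
open Cfsg.Agent.BZ.L (Top Un boxOs Pre)
open Cfsg.Agent.OM.Lie (TpA.stab TpA.few)

namespace SitA

variable {l r : ℕ} {K L : Type} [Group K] [Fintype K] [Group L] [Fintype L] {M : Ideal AlgInt} {α : MulAut K}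
  {ι : L →* K} {P Q : Subgroup K}

/-- transport of a top pair with its defect group -/
theorem top_tr {B : Set (IrrCharacter K)} [Fintype (centralizer (P : Set K))] {γ : MulAut (centralizer (P : Set K))}
    {b : Set (IrrCharacter (centralizer (P : Set K)))} (H : Pre l r M α B P Q γ b) (hι : Function.Injective ι)
    (hL : ι.range = centralizer (P : Set K)) : ∃ β b', Top r M α B P ι β b' ∧ ∃ Q', IsDefectGroup l M b' Q' ∧ BZ.L.Fx l β Q' ∧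
      normalizer (P : Set K) ⊓ centralizer (Q'.map ι : Set K) ≤ centralizer (P : Set K) := by
  have T := H.top
  obtain ⟨f, hf⟩ := Lab.Ob.exists_e hι hL
  obtain ⟨ξ, h1, ψ, h2, h3⟩ := T.lnk
  have e : Lab.Emb ι (f.trans (γ.trans f.symm)) α := ⟨hι, fun y => by
    rw [← hf, ← hf, MulEquiv.trans_apply, MulEquiv.trans_apply, f.apply_symm_apply]
    exact T.emb.cm _⟩
  have h4 : ∀ y, y ∈ (Q.subgroupOf (centralizer (P : Set K))).map f.symm.toMonoidHom ↔ ι y ∈ Q := fun y => by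
    rw [mem_map_equiv, f.symm_symm, mem_subgroupOf, hf]
  refine ⟨_, H649.blkMap f.symm b, ⟨T.rp, T.st, e, hL, T.hB, T.sB, H649.isPBlock_blkMap T.hb, ?_,
    T.mx, ξ, h1, tr f.symm ψ, ⟨ψ, h2, rfl⟩, ?_⟩, _, H649.isDefectGroup_blkMap H.dfb, ⟨fun y => ?_, fun x hx y hy => hι ?_,
      fun x hx => hι ((e.cm x).trans (H.fx.fix _ ((h4 x).1 hx)))⟩, (inf_le_inf_left _ (centralizer_le fun q hq => ?_)).trans H.w1⟩
  · rintro _ ⟨ψ, hψ, rfl⟩ g
    rw [H649.irrMap_apply, H649.irrMap_apply, MulEquiv.trans_apply, MulEquiv.trans_apply, f.symm_symm, f.apply_symm_apply]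
    exact T.sb ψ hψ _
  · rw [Un, Lab.Ob.inner_tr, show (rs r P ξ ∘ ι) ∘ f.symm = rs r P ξ ∘ (centralizer (P : Set K)).subtype from funext fun y => by
      rw [Function.comp_apply, Function.comp_apply, ← hf, f.apply_symm_apply]
      rfl]
    exact h3
  · exact (H.fx.pg ⟨_, (h4 y).1 y.2⟩).imp fun k hk => Subtype.ext (hι (by
      rw [coe_pow, map_pow, coe_one, map_one]
      exact congrArg Subtype.val hk))
  · rw [map_mul, map_mul]
    exact H.fx.ab ((h4 x).1 hx) _ ((h4 y).1 hy)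
  · obtain ⟨t, rfl⟩ : q ∈ ι.range := hL ▸ H.qp hq
    exact ⟨t, (h4 t).2 hq, rfl⟩

end SitA

variable {p : ℕ} [Fact p.Prime] {k : Type} [Field k] [CharP k p] [IsAlgClosed k] {Y : Type} [Group Y] {N : Type}
  [Fintype N] [DecidableEq N] {ρ : Y →* GL N k} {F : MulAut Y} {G : Subgroup Y} {D : Datum p ρ F G}

theorem SitA.lg_lp (f : Fr D) : Lg (LV.Lift.Lp f) := by
  have := Asm.finite_GF D
  have h1 := Nat.one_lt_pow f.L.e_pos.ne' (Fact.out : p.Prime).one_lt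
  have h2 : 0 < Nat.card (GF F G) := Nat.card_pos
  exact ⟨p + Nat.card (GF F G) + 2 * Nat.card D.W, _, mul_ne_zero f.L.d_pos.ne' (by omega), fun m a b c =>
    ⟨a, c, by omega, fun h => by have := Nat.le_of_dvd h2 h; omega, by omega⟩⟩

/-- **[Sit]** -/
theorem boxSit_of (H : On.Bx p) (D : Datum p ρ F G) : BoxSit D := by
  intro j B l M h hM
  have := Asm.finite_GF D
  have := Fintype.ofFinite ↥(GF F G)
  obtain ⟨f₀⟩ := nonempty_fr D
  obtain ⟨n₀, c, hX⟩ := Lie.WkA.cs h.st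
  refine (((((L.boxLie0 p _ _ l n₀ c (Lie.WkA.nq h.st.pos h.lp h.ne)).and
    (Lie.boxRd_of ⟨Lie.dic_pr, Lie.dic_back, Lie.dic_ph⟩ D j B h.st _ (Lie.dl_pos (j := j) h.lp h.ne))).and
    (Lie.boxWk D j B l h.st h.lp h.ne M hM)).and ((Lie.boxCq_of H D).pow j B l h)).and (SitA.lg_lp f₀)).mono ?_
  rintro m ⟨⟨⟨⟨a1, a2⟩, a3⟩, a4⟩, a5⟩ r hr hm _ n n' α 𝔅 fm hB sB hn
  obtain ⟨y, hy, hN, h₀, _, b₀, T₀⟩ := a1 r hr D hX n n' α M fm hM 𝔅 hB sB
  generalize L.Pt F G m l _ = Q₀ at T₀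
  have rd := (a2 hm).2 r hr
  obtain ⟨cq, e⟩ := a4 hm
  have fr := fm.fr r hr.rp hr.mr
  obtain ⟨Q, q1, q2, q3, q4⟩ := a3 r hr α n n' 𝔅 fm _ _ b₀ T₀.top
  obtain ⟨s, lam, hs, hl⟩ := (boxSb (D.pow hm) rd.st.qs).grp r rd.hu.prime rd.hu.ne rd.hu.not_dvd _ T₀.top.rp
  have := Finite.of_injective _ s.ι_injective
  have := Fintype.ofFinite ↥(GF (F ^ m) s.K)
  obtain ⟨β, b, T, dq⟩ := SitA.top_tr T₀ s.ι_injective hs.range
  have hne : lev (rts D) lam ≠ rts D := fun k => by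
    rcases nab' fr hM T₀.top T₀.qp T₀.dfb T₀.fx T₀.w1 with k1 | ⟨g, -, -, -, k1, -⟩
    · exact hn _ k1 fun x hx y hy => T₀.fx.ab hy x hx
    · exact k1 (hs.range ▸ ⟨⟨g, (T3.Lev.K_top s).2 (hl.trans k) g.2.1, g.2.2⟩, rfl⟩)
  refine ⟨_, s, inferInstance, β, lam, b, cq, ⟨⟨rd.hu, fr.ne.symm, hs, hl, hB, T.hb, fun χ hχ => (boxSt.rat fr χ (sB χ hχ)).rat, T.lnk⟩,
    e ▸ rd, fun ψ hψ => (boxOs.all fr hM T ψ hψ).1, fun ψ hψ => (boxSt.rat (fr.sub T.emb) ψ (T.sb ψ hψ)).rat, fun χ hχ ψ hψ h1 => ?_⟩,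
    fr, hM, T, dq, hn, hne, ((Lie.boxCq_of H _).ons _ _ _ cq s lam hs.qs hl hne).1, fun f => boxCls f₀ l r m n n' a5 f α fm.cm fr⟩
  exact bct_of fr hM T q1 q2 q3 q4 (TpA.stab fr T.rp T.st T.emb T.rg (T.sb ψ hψ)
    ((TpA.few fr rd.st.qs rd.hu hs (boxOs.all fr hM T ψ hψ).1).trans_lt
      (show Nat.card D.W < m by have := a5.big; omega)) (sm_irr χ.2 hχ) h1) hψ h1

end Cfsg.Agent.BZ.RT
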