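import Cfsg.Agent.BZ.RT.Defs
import Cfsg.Agent.OM.Lie.Cq
import Cfsg.Agent.CharactersDeep.AbelianQuotient
import Cfsg.Agent.Blocks.PRegular

/-!
# BZ / RT (S4853) : the twisted character (helper74)

`boxTwi_of (hL : AllD p BoxLin) (hD : BoxDict D) : BoxTwi D`.
-/

set_option autoImplicit false
set_option linter.unusedSectionVars false
set_option maxHeartbeats 400000

namespace Cfsg.Agent.BZ.RT

open Cfsg Subgroup Matrix Cfsg.Agent.DL Cfsg.Agent.DL.PP Cfsg.Agent.KZ.Lie Cfsg.Agent.HZ.Gen Cfsg.Agent.HZ.L Cfsg.Agent.OM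
open Cfsg.Agent.CharactersDeep.AbelianQuotient (isIrr_linear_mul classInner_linear_mul)

namespace TwiA

section Grp

variable {L : Type} [Group L] [Fintype L] {l : ℕ} {M : Ideal AlgInt}

/-- the twist by a linear character -/
noncomputable def tw (χ : L →* ℂˣ) (ψ : IrrCharacter L) : IrrCharacter L := ⟨_, isIrr_linear_mul χ ψ.2⟩

theorem tw_apply (χ : L →* ℂˣ) (ψ : IrrCharacter L) (g : L) : (tw χ ψ : L → ℂ) g = χ g * (ψ : L → ℂ) g := rfl

theorem tw_one (χ : L →* ℂˣ) (ψ : IrrCharacter L) : (tw χ ψ : L → ℂ) 1 = (ψ : L → ℂ) 1 := by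
  rw [tw_apply, map_one, Units.val_one, one_mul]

theorem tw_deg (χ : L →* ℂˣ) (ψ : IrrCharacter L) : charDegree (tw χ ψ : L → ℂ) = charDegree (ψ : L → ℂ) := by
  rw [charDegree, tw_one, charDegree]

theorem reg_one (hl : l.Prime) {χ : L →* ℂˣ} {i : ℕ} (h : χ ^ l ^ i = 1) {g : L} (hg : ¬ l ∣ orderOf g) : χ g = 1 := by
  have h1 : orderOf (χ g) ∣ l ^ i := orderOf_dvd_of_pow_eq_one (DFunLike.congr_fun h g)
  exact orderOf_eq_one_iff.1 (Nat.eq_one_of_dvd_coprimes (((hl.coprime_iff_not_dvd).2 hg).pow_left i) h1 (orderOf_map_dvd χ g))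

/-- a twist of `l`-power order stays in the block -/
theorem tw_mem (hM : IsPModular l M) {b : Set (IrrCharacter L)} (hb : IsPBlock M b) {ψ : IrrCharacter L} (hψ : ψ ∈ b)
    {χ : L →* ℂˣ} {i : ℕ} (h : χ ^ l ^ i = 1) : tw χ ψ ∈ b := by
  have : Fact l.Prime := ⟨hM.1⟩
  have := Blocks.Local.isPrime_of_isPModular hM
  obtain ⟨φ, rfl⟩ := hb
  refine Blocks.Basic.sameBlock_trans hψ (Blocks.PRegular.sameBlock_of_isPRegular hM ψ.2 (tw χ ψ).2 fun g hg => ?_)
  rw [centralChar, centralChar, tw_one, tw_apply, reg_one hM.1 h hg, Units.val_one, one_mul, sub_self]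
  exact Blocks.Local.memLocalIdeal_zero

end Grp

variable {p : ℕ} [Fact p.Prime] {k : Type} [Field k] [CharP k p] [IsAlgClosed k] {Y : Type} [Group Y] {N : Type}
  [Fintype N] [DecidableEq N] {ρ : Y →* GL N k} {F : MulAut Y} {G : Subgroup Y} {D : Datum p ρ F G}

/-- the average over all types is invariant -/
theorem avg_eq {f : Fr D} {s : Sb D} {g : ↥(GF F G)} {v : D.W} (h : Dc f s g v) {t : Lbl D} (ht : Rel D v t t)
    {y y' : ↥(GF F s.K)} (e : s.ι y' = g * s.ι y * g⁻¹) :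
    avg (s.fr f) ⊤ (fun _ => 1) 1 t y' = avg (s.fr f) ⊤ (fun _ => 1) 1 t y := by
  choose σ hσ using h.ty
  have h0 : Function.Injective s.sw := s.sw_injective
  have : Finite s.E.W := Finite.of_injective _ h0
  have h1 : Function.Injective σ := fun a b k => by
    have h2 : (s.sw (σ a) * s.w) * D.Fw v = _ := hσ a
    have h3 : (s.sw (σ b) * s.w) * D.Fw v = _ := hσ b
    rw [k, h3] at h2
    exact (h0 (mul_right_cancel (mul_left_cancel h2))).symm
  have h2 : Function.Bijective fun u : (⊤ : Subgroup s.E.W) => (⟨σ u, mem_top _⟩ : (⊤ : Subgroup s.E.W)) :=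
    Finite.injective_iff_bijective.1 fun a b k => Subtype.ext (h1 (congrArg Subtype.val k))
  simp only [avg, one_mul, mul_one]
  congr 1
  exact (finsum_eq_of_bijective _ h2 fun u => (h.rw u (σ u) t t (hσ u) ht y y' e).symm).symm

end TwiA

variable {p : ℕ} [Fact p.Prime] {k : Type} [Field k] [CharP k p] [IsAlgClosed k] {Y : Type} [Group Y] {N : Type}
  [Fintype N] [DecidableEq N] {ρ : Y →* GL N k} {F : MulAut Y} {G : Subgroup Y} {D : Datum p ρ F G} [Fintype ↥(GF F G)]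

open TwiA in
/-- **[Twi]** -/
theorem boxTwi_of (hL : AllD p fun D => BoxLin D) (hD : BoxDict D) : BoxTwi D := by
  intro j B l r m n n' M α 𝔅 P s _ β lam b H S hS ψ hψ hF f u c t hc hT
  by_cases h1 : t = 1
  · subst h1
    exact ⟨ψ, hψ, hF, rfl, fun _ => rfl, by rwa [mul_one]⟩
  obtain ⟨i, hi⟩ := hT.pw
  obtain ⟨χ, k1, k2, k3⟩ := hL s.E H.tp.fo.qs l H.cq.lp
    (H.tp.rt ▸ Lie.CqA.sc_lev H.cq.cz H.cq.lp.ne_zero H.cq.sc lam) (s.fr f) t i u hi hT.cen
    (fx_iff.2 (by rw [s.WM_eq, H.cq.st.WM]; exact hT.fx))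
  obtain ⟨d1, d2, -⟩ := hD H.cq.st.qs r P s H.tp.fo
  refine ⟨tw χ ψ, tw_mem H.hM H.tp.hb hψ k1, fun g hg y y' e => ?_, tw_deg χ ψ, fun e => absurd e h1, ?_⟩
  · obtain ⟨v, hv⟩ := d1 g (hS hg)
    rw [tw_apply, tw_apply, hF g hg y y' e, k2, k2, avg_eq ((d2 g (hS hg) v hv).1 f)
      (hT.vt _ (Submonoid.subset_closure ⟨g, hg, v, hv, rfl⟩)) e]
  · have e : RW (s.fr f) u (c * t) = (fun g => (χ g : ℂ)) * RW (s.fr f) u c := funext fun g => k3 u c g
    rw [Has, e]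
    exact (classInner_linear_mul χ _ _).trans_ne hc

end Cfsg.Agent.BZ.RT
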