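import Cfsg.Agent.BZ.RT.RegD
import Cfsg.Agent.BZ.L.K3.RhoP
import Cfsg.Agent.DL.Dat.Card

/-!
# BZ / RT (S4853) : descent along the regular embedding, the sharp form (helper17)

* `EqK`, `EqKM` : the degrees in height zero are `k δ` with `k ∣ n` (up to a sign, modulo `m`); `BTk`, `BTsK`;
* `bt_downK`, `btK_fix`, `downK`, `idx_z`, `regK`; `EqKM.eqM`, `EqKM.not_sq`, `Rat.btsK`; `BoxK`, `BoxK.bt`, `bt_of_k`;
* `Rat4`, `card_gf`, `lg_four`, `BoxRat4`, `BoxRat4.boxK`.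
-/

set_option autoImplicit false
set_option linter.unusedSectionVars false
set_option maxHeartbeats 400000

namespace Cfsg.Agent.BZ.RT

open Cfsg Subgroup Cfsg.Agent.HZ.Gen Cfsg.Agent.KM Cfsg.Agent.BZ.Lab Cfsg.Agent.BZ.L Cfsg.Agent.BZ.L.Bz Cfsg.Agent.Characters.Core
  Cfsg.Agent.Blocks Cfsg.Agent.DL Cfsg.Agent.KM.Ht Cfsg.Agent.KM.Tor Cfsg.Agent.HZ.L.Reg Cfsg.Lie Cfsg.Agent.KZ.DatX
  Cfsg.Agent.Nodes.RGDChev

/-- the degrees of the members of height zero which are trivial on `Z` are `k δ` with `k ∣ n` -/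
def EqK (l n : ℕ) {K : Type} [Group K] (Z : Subgroup K) (B : Set (IrrCharacter K)) : Prop :=
  ∃ δ, ∀ χ ∈ B, Ov Z (χ : K → ℂ) → blockHeight l B (χ : K → ℂ) = 0 → ∃ k, k ∣ n ∧ charDegree (χ : K → ℂ) = k * δ

/-- the same up to a sign, modulo `m` -/
def EqKM (l n m : ℕ) {K : Type} [Group K] (Z : Subgroup K) (B : Set (IrrCharacter K)) : Prop :=
  ∃ δ, ∀ χ ∈ B, Ov Z (χ : K → ℂ) → blockHeight l B (χ : K → ℂ) = 0 → ∃ k, k ∣ n ∧ charDegree (χ : K → ℂ) ^ 2 ≡ (k * δ) ^ 2 [MOD m]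

/-- such blocks have abelian defect groups -/
def BTk (l n : ℕ) (M : Ideal AlgInt) (H : Type) [Group H] (Z : Subgroup H) : Prop :=
  ∀ (B : Set (IrrCharacter H)) (D : Subgroup H), IsPBlock M B → IsDefectGroup l M B D → EqK l n Z B → BK.Ab D

/-- the same for the stable blocks in the frame -/
def BTsK (l n m : ℕ) (M : Ideal AlgInt) {K : Type} [Group K] (α : MulAut K) (Z : Subgroup K) : Prop :=
  ∀ B : Set (IrrCharacter K), IsPBlock M B → StB α B → EqKM l n m Z B → ∃ D, IsDefectGroup l M B D ∧ BK.Ab D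

/-- **the output of the engine**, fourth powers -/
def Rat4 (l Q : ℕ) (M : Ideal AlgInt) {K : Type} [Group K] (α : MulAut K) (Z : Subgroup K) : Prop :=
  ∀ B : Set (IrrCharacter K), IsPBlock M B → StB α B → (∃ D, IsDefectGroup l M B D ∧ BK.Ab D) ∨
    ∃ χ ∈ B, ∃ ψ ∈ B, Ov Z (χ : K → ℂ) ∧ Ov Z (ψ : K → ℂ) ∧ blockHeight l B (χ : K → ℂ) = 0 ∧ blockHeight l B (ψ : K → ℂ) = 0 ∧
      ∃ J, 0 < J ∧ charDegree (ψ : K → ℂ) ^ 4 = Q ^ J * charDegree (χ : K → ℂ) ^ 4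

section grp

variable {l m n N Q c : ℕ} {M : Ideal AlgInt} {K H : Type} [Group K] [Group H] {α : MulAut K} {Z Z' : Subgroup K}
  {B : Set (IrrCharacter K)}

theorem EqKM.mono (h : EqKM l n m Z B) (hZ : Z ≤ Z') {n' : ℕ} (hn : n ∣ n') : EqKM l n' m Z' B :=
  h.imp fun _ h χ h1 h2 h3 => (h χ h1 (fun z hz => h2 z (hZ hz)) h3).imp fun _ e => ⟨e.1.trans hn, e.2⟩

theorem BTsK.mono {n' : ℕ} (h : BTsK l n' m M α Z') (hZ : Z ≤ Z') (hn : n ∣ n') : BTsK l n m M α Z :=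
  fun B h1 h2 h3 => h B h1 h2 (h3.mono hZ hn)

theorem EqKM.eqM (h : EqKM l 1 m Z B) : EqM l m Z B := fun χ h1 ψ h2 o1 o2 e1 e2 => by
  obtain ⟨δ, h⟩ := h
  obtain ⟨k, a1, a2⟩ := h χ h1 o1 e1
  obtain ⟨k', b1, b2⟩ := h ψ h2 o2 e2
  rw [Nat.dvd_one.1 a1] at a2
  rw [Nat.dvd_one.1 b1] at b2
  exact a2.trans b2.symm

theorem BTs.btsK (h : BTs l m M α Z) : BTsK l 1 m M α Z := fun B h1 h2 h3 => h B h1 h2 h3.eqM

/-- a ratio whose square is a power of `q ^ m` -/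
theorem EqKM.not_sq [Finite K] (h : EqKM l n m Z B) {p q j : ℕ} (hp : p.Prime) (hq : p ∣ q) (hq0 : 0 < q) (hn : ¬ p ∣ n)
    (hm : m.Prime) (hK : ¬ m ∣ Nat.card K) (hj : 0 < j) (hb : n ^ 2 * q ^ j < m) {χ ψ : IrrCharacter K} (h1 : χ ∈ B) (h2 : ψ ∈ B)
    (o1 : Ov Z (χ : K → ℂ)) (o2 : Ov Z (ψ : K → ℂ)) (e1 : blockHeight l B (χ : K → ℂ) = 0) (e2 : blockHeight l B (ψ : K → ℂ) = 0) :
    charDegree (ψ : K → ℂ) ^ 2 ≠ (q ^ m) ^ j * charDegree (χ : K → ℂ) ^ 2 := fun e => by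
  have := Fact.mk hm
  obtain ⟨δ, h⟩ := h
  obtain ⟨k, a1, a2⟩ := h χ h1 o1 e1
  obtain ⟨k', b1, b2⟩ := h ψ h2 o2 e2
  have h0 : 0 < n := Nat.pos_of_ne_zero fun e => hn (e ▸ dvd_zero p)
  have h3 : (δ : ZMod m) ≠ 0 := fun h3 => hK ((hm.dvd_of_dvd_pow ((a2.dvd_iff dvd_rfl).2
    (dvd_pow (((ZMod.natCast_eq_zero_iff δ m).1 h3).mul_left k) two_ne_zero))).trans (H596.charDegree_dvd_card χ.2))
  have h4 : (k' * δ) ^ 2 ≡ (q ^ m) ^ j * (k * δ) ^ 2 [MOD m] := b2.symm.trans (e ▸ a2.mul_left _)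
  rw [← ZMod.natCast_eq_natCast_iff] at h4
  push_cast at h4
  rw [ZMod.pow_card, mul_pow, mul_pow, ← mul_assoc, mul_left_inj' (pow_ne_zero 2 h3)] at h4
  have h5 : k' ^ 2 ≡ k ^ 2 * q ^ j [MOD m] := by
    rw [← ZMod.natCast_eq_natCast_iff]
    push_cast
    exact h4.trans (mul_comm _ _)
  have h6 : k' ^ 2 = k ^ 2 * q ^ j := h5.eq_of_lt_of_lt
    (lt_of_le_of_lt ((Nat.pow_le_pow_left (Nat.le_of_dvd h0 b1) 2).trans (Nat.le_mul_of_pos_right _ (Nat.pow_pos hq0))) hb)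
    (lt_of_le_of_lt (Nat.mul_le_mul_right _ (Nat.pow_le_pow_left (Nat.le_of_dvd h0 a1) 2)) hb)
  exact hn ((hp.dvd_of_dvd_pow (h6 ▸ (hq.trans (dvd_pow_self q hj.ne')).mul_left _ : p ∣ k' ^ 2)).trans b1)

theorem Rat.btsK [Finite K] {p q : ℕ} (h : Rat l (q ^ m) c M α Z) (hp : p.Prime) (hq : p ∣ q) (hq0 : 0 < q) (hn : ¬ p ∣ n)
    (hm : m.Prime) (hK : ¬ m ∣ Nat.card K) (hb : n ^ 2 * q ^ (2 * c) < m) : BTsK l n m M α Z := fun B h1 h2 h3 =>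
  (h B h1 h2).resolve_right fun ⟨_, a1, _, a2, o1, o2, e1, e2, j, a3, a4, a5⟩ =>
    h3.not_sq (j := j * 2) hp hq hq0 hn hm hK (by omega)
      (lt_of_le_of_lt (Nat.mul_le_mul_left _ (Nat.pow_le_pow_right hq0 (by omega))) hb) a1 a2 o1 o2 e1 e2 (by rw [a5, mul_pow, ← pow_mul])

theorem Rat4.mono (h : Rat4 l Q M α Z') (hZ : Z ≤ Z') : Rat4 l Q M α Z :=
  fun B h1 h2 => (h B h1 h2).imp_right fun ⟨χ, a1, ψ, a2, a3, a4, a5⟩ =>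
    ⟨χ, a1, ψ, a2, fun z hz => a3 z (hZ hz), fun z hz => a4 z (hZ hz), a5⟩

/-- a ratio whose fourth power is a power of `q ^ m` -/
theorem EqKM.not_four [Finite K] (h : EqKM l n m Z B) {p q j : ℕ} (hp : p.Prime) (hq : p ∣ q) (hq0 : 0 < q) (hn : ¬ p ∣ n)
    (hm : m.Prime) (hK : ¬ m ∣ Nat.card K) (hj : 0 < j) (hb : n ^ 4 * q ^ j < m) {χ ψ : IrrCharacter K} (h1 : χ ∈ B) (h2 : ψ ∈ B)
    (o1 : Ov Z (χ : K → ℂ)) (o2 : Ov Z (ψ : K → ℂ)) (e1 : blockHeight l B (χ : K → ℂ) = 0) (e2 : blockHeight l B (ψ : K → ℂ) = 0) :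
    charDegree (ψ : K → ℂ) ^ 4 ≠ (q ^ m) ^ j * charDegree (χ : K → ℂ) ^ 4 := fun e => by
  have := Fact.mk hm
  obtain ⟨δ, h⟩ := h
  obtain ⟨k, a1, a2⟩ := h χ h1 o1 e1
  obtain ⟨k', b1, b2⟩ := h ψ h2 o2 e2
  have h0 : 0 < n := Nat.pos_of_ne_zero fun e => hn (e ▸ dvd_zero p)
  have h3 : (δ : ZMod m) ≠ 0 := fun h3 => hK ((hm.dvd_of_dvd_pow ((a2.dvd_iff dvd_rfl).2
    (dvd_pow (((ZMod.natCast_eq_zero_iff δ m).1 h3).mul_left k) two_ne_zero))).trans (H596.charDegree_dvd_card χ.2))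
  have a3 := a2.pow 2
  have b3 := b2.pow 2
  rw [← pow_mul, ← pow_mul] at a3 b3
  have h4 : (k' * δ) ^ 4 ≡ (q ^ m) ^ j * (k * δ) ^ 4 [MOD m] := b3.symm.trans (e ▸ a3.mul_left _)
  rw [← ZMod.natCast_eq_natCast_iff] at h4
  push_cast at h4
  rw [ZMod.pow_card, mul_pow, mul_pow, ← mul_assoc, mul_left_inj' (pow_ne_zero 4 h3)] at h4
  have h5 : k' ^ 4 ≡ k ^ 4 * q ^ j [MOD m] := by
    rw [← ZMod.natCast_eq_natCast_iff]
    push_cast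
    exact h4.trans (mul_comm _ _)
  have h6 : k' ^ 4 = k ^ 4 * q ^ j := h5.eq_of_lt_of_lt
    (lt_of_le_of_lt ((Nat.pow_le_pow_left (Nat.le_of_dvd h0 b1) 4).trans (Nat.le_mul_of_pos_right _ (Nat.pow_pos hq0))) hb)
    (lt_of_le_of_lt (Nat.mul_le_mul_right _ (Nat.pow_le_pow_left (Nat.le_of_dvd h0 a1) 4)) hb)
  exact hn ((hp.dvd_of_dvd_pow (h6 ▸ (hq.trans (dvd_pow_self q hj.ne')).mul_left _ : p ∣ k' ^ 4)).trans b1)

/-- the ratio of the degrees divides the index of `Y Z(K)` -/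
theorem deg_cen [Finite K] (Y : Subgroup K) [Y.Normal] (χ : IrrCharacter K) : ∃ θ : IrrCharacter Y,
    TID.Red.Ov Y.subtype (χ : K → ℂ) (θ : Y → ℂ) ∧
      ∃ k, k ∣ (Y ⊔ center K).index ∧ charDegree (χ : K → ℂ) = charDegree (θ : Y → ℂ) * k := by
  have := Fintype.ofFinite K
  have := Fintype.ofFinite Y
  have := Fintype.ofFinite (Y ⊔ center K : Subgroup K)
  obtain ⟨η, h1⟩ := TID.Red.exists_ov (Y ⊔ center K).subtype χ.2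
  have h2 := K3.Rp.irr_cen (j := inclusion (le_sup_left : Y ≤ Y ⊔ center K)) (fun y => by
    obtain ⟨a, ha, z, hz, e⟩ := mem_sup_of_normal_left.1 y.2
    exact ⟨⟨a, ha⟩, ⟨z, mem_sup_right hz⟩, mem_center_iff.2 fun g => Subtype.ext (mem_center_iff.1 hz g), Subtype.ext e.symm⟩) η.2
  obtain ⟨⟨k, a3⟩, a4⟩ := H596.charDegree_dvd_of_over _ χ.2 η.2 ((TID.Red.ov_subtype_iff _ _ _).1 h1)
  rw [a3, Nat.mul_div_cancel_left _ (Basic.charDegree_pos η.2)] at a4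
  refine ⟨⟨_, h2⟩, TID.Red.Ov.trans (fun _ => rfl) (isIrr_isCharacter χ.2) η.2 h2 h1
    ((TID.Red.ov_iff _ _ _).2 ((classInner_irr_self h2).trans_ne one_ne_zero)), k, a4, a3.trans ?_⟩
  exact congrArg (fun x => ⌊((η : _ → ℂ) x).re⌋₊ * k) (map_one (inclusion (le_sup_left : Y ≤ Y ⊔ center K))).symm

/-- a conjugate lies in the covered block -/
theorem under2 [Finite K] {Y : Subgroup K} [Y.Normal] (hM : IsPModular l M) {b : Set (IrrCharacter Y)}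
    (hB : IsPBlock M B) (hb : IsPBlock M b) {χ₀ χ : IrrCharacter K} {θ₀ η : IrrCharacter Y} (h1 : χ₀ ∈ B) (h2 : θ₀ ∈ b)
    (h3 : TID.Red.Ov Y.subtype (χ₀ : K → ℂ) (θ₀ : Y → ℂ)) (h4 : χ ∈ B) (h5 : TID.Red.Ov Y.subtype (χ : K → ℂ) (η : Y → ℂ)) :
    ∃ θ ∈ b, TID.Red.Ov Y.subtype (χ : K → ℂ) (θ : Y → ℂ) ∧ charDegree (η : Y → ℂ) = charDegree (θ : Y → ℂ) := by
  have : Fact l.Prime := ⟨hM.1⟩
  have := Fintype.ofFinite K
  have := Fintype.ofFinite Y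
  obtain ⟨g, θ, h6, h7⟩ := S0964.result l M hM Y B hB b hb χ₀ h1 θ₀ h2 ((TID.Red.ov_subtype_iff _ _ _).1 h3) χ h4 η
    ((TID.Red.ov_subtype_iff _ _ _).1 h5)
  have h8 : H592.Transport.tr (MulAut.conjNormal g) θ = η := Subtype.ext (funext fun n => (h7 n).symm)
  refine ⟨θ, h6, (TID.Red.ov_src_iff (MulAut.conjNormal g) (ι' := Y.subtype.comp (MulAut.conjNormal g).toMonoidHom)
    (fun _ => rfl) _ θ).1 ?_, ?_⟩
  · rw [h8]
    exact TID.Red.Ov.congr (ι := Y.subtype) (χ := (χ : K → ℂ)) (fun a => isIrr_isClassFunction χ.2 a g) h5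
  · unfold charDegree
    rw [← h8, H592.Transport.tr_apply, map_one]

/-- **normal subgroups** -/
theorem bt_downK [Finite K] (hM : IsPModular l M) (ι : H →* K) (hι : Function.Injective ι) (hn : ι.range.Normal)
    {Z' : Subgroup H} (hc : Z ≤ center K) (hZ : Z'.map ι ≤ Z)
    (h : BTk l ((ι.range ⊔ center K).index / l ^ (ι.range ⊔ center K).index.factorization l) M K Z) : BTr l M H Z' := by
  intro B D hB hD hE
  have : Fact l.Prime := ⟨hM.1⟩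
  have := hM.2.1.isPrime
  have := Fintype.ofFinite K
  have := Fintype.ofFinite ι.range
  let e := MonoidHom.ofInjective hι
  have hb := H649.isPBlock_blkMap (e := e) hB
  obtain ⟨B', P, hB', hP, h5, h6⟩ := KM.up_norm hM ι.range hb (H649.isDefectGroup_blkMap hD)
  obtain ⟨θ₀, h7⟩ := Basic.isPBlock_nonempty hb
  obtain ⟨χ₀, h8, h9⟩ := h6 θ₀ h7
  have key : ∀ χ ∈ B', Ov Z (χ : K → ℂ) → blockHeight l B' (χ : K → ℂ) = 0 → ∃ ψ ∈ B, Ov Z' (ψ : H → ℂ) ∧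
      blockHeight l B (ψ : H → ℂ) = 0 ∧ ∃ k, k ∣ (ι.range ⊔ center K).index ∧
        charDegree (χ : K → ℂ) = charDegree (ψ : H → ℂ) * k := fun χ k1 k2 k3 => by
    obtain ⟨η, a0, k, a4, a3⟩ := deg_cen ι.range χ
    obtain ⟨_, ⟨ψ, a1, rfl⟩, a2, a6⟩ := under2 hM hB' hb h8 h7 h9 k1 a0
    have a5 := Reg.mur hM hB' k1 k3 hb ⟨ψ, a1, rfl⟩ a2
    rw [H649.blockHeight_blkMap] at a5
    rw [a6, H649.charDegree_irrMap] at a3
    refine ⟨ψ, a1, fun z hz' => ?_, a5, k, a4, a3⟩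
    have b1 := hZ (mem_map_of_mem ι hz')
    have b3 := H625.PHZ.central_eq ι.range χ.2 (H649.irrMap e ψ).2 ((TID.Red.ov_subtype_iff _ _ _).1 a2) (hc b1) ⟨z, rfl⟩
    rw [k2 _ b1, mul_right_inj' (isIrr_apply_one_ne_zero χ.2), H649.irrMap_one] at b3
    exact (H649.irrMap_apply' e ψ z).symm.trans b3.symm
  have hA := h B' P hB' hP (by
    by_cases h0 : ∃ χ ∈ B', Ov Z (χ : K → ℂ) ∧ blockHeight l B' (χ : K → ℂ) = 0
    · obtain ⟨χ, h1, o1, e1⟩ := h0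
      obtain ⟨ψ, a1, a2, a3, k, -, a5⟩ := key χ h1 o1 e1
      refine ⟨charDegree (ψ : H → ℂ) * l ^ k.factorization l, fun χ' h2 o2 e2 => ?_⟩
      obtain ⟨ψ', b1, b2, b3, k', b4, b5⟩ := key χ' h2 o2 e2
      rw [← hE ψ a1 ψ' b1 a2 b2 a3 b3] at b5
      have c1 := Mu.fac_mul (p := l) a5.symm (Basic.charDegree_pos χ.2).ne'
      have c2 := Mu.fac_mul (p := l) b5.symm (Basic.charDegree_pos χ'.2).ne'
      have c3 := Mu.df_add (p := l) χ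
      have c4 := Mu.df_add (p := l) χ'
      rw [Reg.df_ht hM hB' hP h1 e1] at c3
      rw [Reg.df_ht hM hB' hP h2 e2] at c4
      unfold BK.nu at c3 c4
      refine ⟨_, Nat.ordCompl_dvd_ordCompl_of_dvd b4 l, ?_⟩
      rw [show k.factorization l = k'.factorization l by omega, mul_left_comm, mul_comm _ (l ^ _), Nat.ordProj_mul_ordCompl_eq_self, b5]
    · exact ⟨0, fun χ h1 o1 e1 => (h0 ⟨χ, h1, o1, e1⟩).elim⟩)
  have a1 : ∀ a ∈ D, ι a ∈ P := fun a ha => (h5.ge ⟨e a, ⟨a, ha, rfl⟩, rfl⟩).1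
  exact fun x hx y hy => hι (by rw [map_mul, map_mul, hA _ (a1 x hx) _ (a1 y hy)])

/-- **the group of fixed points** -/
theorem btK_fix [Fintype K] [Fintype H] (h : Gl l m N K α) (hM : IsPModular l M) (j : H →* K) (hj : Function.Injective j)
    (hf : ∀ g, α g = g ↔ g ∈ j.range) {Z : Subgroup H} (hZ : Z.map j ≤ center K) (hK : BTsK l n m M α (Z.map j)) : BTk l n M H Z :=
  fun B D hB hD ⟨δ, hz⟩ => by
  have : Fact l.Prime := ⟨hM.1⟩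
  obtain ⟨e, -, k1, k2, k3, k4⟩ := boxW_of boxSt j h hM hj hf B D hB hD
  have k5 : ∀ ξ ∈ B, W.Gc m α j (e ξ) ξ := fun ξ hξ => ⟨k2 _ ⟨ξ, hξ, rfl⟩, (k4 ξ hξ).2⟩
  have k6 : ∀ ξ ∈ B, Ov (Z.map j) (e ξ : K → ℂ) → Ov Z (ξ : H → ℂ) := fun ξ hξ => ov_gc hj hZ (by
    obtain ⟨k, k6, k7⟩ := (k4 ξ hξ).2
    rw [k7]
    exact Nat.cast_ne_zero.2 fun e0 => k6 (e0 ▸ dvd_zero m))
  obtain ⟨E, h1, h2⟩ := hK _ k1 k2 ⟨δ, by
    rintro _ ⟨χ, hχ, rfl⟩ o1 e1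
    obtain ⟨k, h3, h4⟩ := hz χ hχ (k6 χ hχ o1) ((k4 χ hχ).1 ▸ e1)
    exact ⟨k, h3, h4 ▸ deg_gc ⟨h, hj, hf⟩ (k5 χ hχ)⟩⟩
  exact BK.Ab.of_map hj (BK.ab_of_defect hM k1 h1 h2 k3)

end grp

variable {p : ℕ} [Fact p.Prime] {k : Type} [Field k] [CharP k p] {Y : Type} [Group Y] {I : Type} [Fintype I]
  [DecidableEq I] {ρ : Y →* GL I k} {F : MulAut Y} {G : Subgroup Y} [IsAlgClosed k] (X : Datum p ρ F G)

/-- **Glauberman - Watanabe descent** -/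
theorem downK {q d l n : ℕ} {M : Ideal AlgInt} {Z : Subgroup Y} (hq : Nq p q d l) (hM : IsPModular l M)
    (hZ : Z ≤ Zc X {a | X.Rt a})
    (h : Lg fun m => ∀ r, Nr q d r m → ∀ [Fintype ↥(GF (F ^ m) G)] (n' N' : ℕ) (α : MulAut ↥(GF (F ^ m) G)), Fm F G l m n' N' α →
      m.Prime → BTsK l n m M α (Pt F G m l Z)) : BTk l n M ↥(GF (F ^ 1) G) (Pt F G 1 l Z) := by
  obtain ⟨N', hN⟩ := boxGeo X l hM.1 hq.ne
  obtain ⟨m, hm, ⟨α, k1, k2⟩, ⟨r, k3⟩, k4⟩ := (Lg.prime.and (hN.and ((exists_nr Fact.out hq).and h))).ex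
  have := (X.pow one_pos).amb.finite_GF G
  have := (X.pow hm.pos).amb.finite_GF G
  have := Fintype.ofFinite (GF (F ^ 1) G)
  have := Fintype.ofFinite (GF (F ^ m) G)
  have k5 : GF (F ^ 1) G ≤ GF (F ^ m) G := (gf_one F G).le.trans (gf_le F G m)
  have k6 := (k2 r k3.rp k3.mr).toGl
  have k7 : ∀ g, α g = g ↔ g ∈ (inclusion k5).range := fun g =>
    ⟨fun e => ⟨⟨g, (gf_one F G).ge ⟨g.2.1, (k1 g).symm.trans (congrArg Subtype.val e)⟩⟩, rfl⟩, by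
      rintro ⟨x, rfl⟩
      exact Subtype.ext ((k1 _).trans ((gf_one F G).le x.2).2)⟩
  have k8 : (Pt F G 1 l Z).map (inclusion k5) ≤ Pt F G m l Z := by
    rintro _ ⟨z, hz, rfl⟩
    obtain ⟨h1, -, i, h2⟩ := (pt_eq hZ 1 l).le hz
    exact subset_closure ⟨h1, i, by rw [← map_pow, h2, map_one]⟩
  exact btK_fix k6 hM _ (inclusion_injective k5) k7 (k8.trans (pt_cen hZ m l)) ((k4 r k3 _ N' α ⟨k1, k2⟩ hm).mono k8 dvd_rfl)

/-- the number of diagonal automorphisms divides the order of the centre -/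
theorem idx_z (m : ℕ) : ((TA.T2.iK X m).range ⊔ center _).index ∣ Nat.card (Zc X {a | X.Rt a}) := by
  let δ : (X.R → kˣ) →* (X.R → kˣ) := mon (X.Mx ^ m) / MonoidHom.id _
  have h1 : (δ.ker.map (al X)).comap (TA.T2.nK X m) ≤ (TA.T2.iK X m).range ⊔ center _ := by
    rintro g ⟨s, hs, e⟩
    have h2 : (FF X ^ m) (zz X s) = zz X s := by rw [TA.T2.FF_pow_zz, div_eq_one.1 (show mon (X.Mx ^ m) s / s = 1 from hs)]
    rw [← inv_mul_cancel_right g ⟨zz X s, trivial, h2⟩]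
    refine mul_mem (mem_sup_left (TA.T2.mem_iK.2 ?_)) (mem_sup_right (mem_center_iff.2 fun y => Subtype.ext (zz_comm X s y).eq.symm))
    rw [coe_mul, coe_inv, map_mul, map_inv]
    exact mul_inv_eq_one.2 (Eq.symm e)
  refine (index_dvd_of_le h1).trans ?_
  rw [index_comap, ← map_comap_eq_self_of_surjective (al_surj X) (TA.T2.nK X m).range, ← relIndex_comap]
  refine (relIndex_dvd_of_le_left _ (le_comap_map _ _)).trans ?_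
  rw [relIndex_ker, ← card_map_of_injective X.τ_inj]
  refine card_dvd_of_le ?_
  rintro _ ⟨_, ⟨s, ⟨g, e⟩, rfl⟩, rfl⟩
  have h2 : al X (δ s) = 1 := by
    show al X (mon (X.Mx ^ m) s / s) = 1
    rw [map_div, ← TA.T2.nu_pow m (y := g) e, show (FF X ^ m) (g : YY X) = g from g.2.2, div_eq_one]
    exact e
  exact ⟨X.τ_mem _, fun a _ => by rw [X.χ_τ, ← chr_al, h2, map_one, Units.val_one]⟩

/-- **from the regular embedding to `X`** -/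
theorem regK {q d l : ℕ} {M : Ideal AlgInt} (hq : Nq p q d l) (hM : IsPModular l M)
    (h : ∀ n, n ∣ Nat.card (Zc X {a | X.Rt a}) → ¬ p ∣ n → ¬ l ∣ n → Lg fun m => ∀ r, Nr q d r m →
      ∀ [Fintype ↥(GF (FF X ^ m) ⊤)] (n' N' : ℕ) (α : MulAut ↥(GF (FF X ^ m) ⊤)), Fm (FF X) ⊤ l m n' N' α → m.Prime →
        BTsK l n m M α (Pt (FF X) ⊤ m l (ZD X))) : BTr l M ↥(GF (F ^ 1) G) (Zl X 1 l) := by
  have : Finite ↥(GF (FF X ^ 1) ⊤) := ((amb X).pow one_pos).finite_GF ⊤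
  refine bt_downK hM (TA.T2.iK X 1) TA.T2.iK_inj TA.T2.iK_normal (pt_cen (zd_le X) 1 l) ?_
    (downK (DD X) hq hM (zd_le X) (h _ ((Nat.ordCompl_dvd _ l).trans (idx_z X 1))
      (fun e => idx_p X 1 ((e.trans (Nat.ordCompl_dvd _ l)).trans (index_dvd_of_le le_sup_left)))
      (Nat.not_dvd_ordCompl hM.1 index_ne_zero_of_finite)))
  rintro _ ⟨z, hz, rfl⟩
  obtain ⟨h1, -, i, h2⟩ := (pt_eq (X := X) le_rfl 1 l).le hz
  exact subset_closure ⟨(iY_mem_up z.2.1).2 h1, i, by rw [← map_pow, h2, map_one]⟩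

/-- **the target in the frame** of the regular embedding, the sharp form -/
def BoxK (T : PD) (l : ℕ) : Prop := AllD fun {p} _ _ _ _ _ _ _ _ _ _ _ _ _ X => T X → ∀ (e f d n : ℕ) (M : Ideal AlgInt), Gd X e f →
  Nq p (p ^ e) d l → IsPModular l M → n ∣ Nat.card (Zc X {a | X.Rt a}) → ¬ p ∣ n → ¬ l ∣ n → Lg fun m => ∀ r, Nr (p ^ e) d r m →
    ∀ [Fintype ↥(GF (FF X ^ m) ⊤)] (n' N' : ℕ) (α : MulAut ↥(GF (FF X ^ m) ⊤)), Fm (FF X) ⊤ l m n' N' α → m.Prime →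
      BTsK l n m M α (Pt (FF X) ⊤ m l (ZD X))

theorem BoxK.bt {T : PD} {l : ℕ} (h : BoxK T l) (hT : AllD fun X => T X → ∃ e f, Gd X e f) : BoxBT T l :=
  fun X h1 h2 M hM =>
    let ⟨e, f, h3⟩ := hT X h1
    have hq : Nq _ _ _ l := ⟨hM.1, h2, ⟨e, h3.e0, rfl⟩, rfl⟩
    regK X hq hM fun n => h X h1 e f _ n M h3 hq hM

include X in
/-- the order is bounded -/
theorem card_gf : ∃ c, ∀ m, 0 < m → Nat.card ↥(GF (F ^ m) G) ≤ (p ^ m) ^ c := by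
  obtain ⟨d, e, -, he, h⟩ := X.amb.frob
  refine ⟨e * Nat.card (I × I), fun m hm => ?_⟩
  have h0 := Nat.mul_pos he hm
  have h1 : Finite {a : k // a ^ p ^ (e * m) = a} := Nat.finite_of_card_ne_zero (by
    rw [card_pow_eq h0]
    exact pow_ne_zero _ (Fact.out : p.Prime).ne_zero)
  have h2 : ∀ y : GF (F ^ m) G, LangThm.frob p (e * m) (ρ y) = ρ y := fun y => by
    rw [← Amb.pow_frob h, mul_comm d, pow_mul, mem_fix.1 (fix_le_fix_pow d y.2.2)]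
  rw [pow_mul, ← pow_mul p, mul_comm m, ← card_pow_eq (k := k) h0, ← Nat.card_fun]
  refine Nat.card_le_card_of_injective (fun y ij => ⟨(ρ y : Matrix I I k) ij.1 ij.2, frob_eq_iff.1 (h2 y) _ _⟩) fun y y' h3 =>
    Subtype.ext (X.amb.inj (Units.ext (Matrix.ext fun i j => congrArg Subtype.val (congrFun h3 (i, j)))))

include X in
/-- **no ratio whose fourth power is a power of `q ^ m`** -/
theorem lg_four {q n : ℕ} (l : ℕ) (hq : ∃ f, 0 < f ∧ q = p ^ f) (hn : ¬ p ∣ n) : Lg fun m => ¬ m ∣ Nat.card ↥(GF (F ^ m) G) →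
    ∀ (Z : Subgroup ↥(GF (F ^ m) G)) (B : Set (IrrCharacter ↥(GF (F ^ m) G))), EqKM l n m Z B → ∀ χ ∈ B, ∀ ψ ∈ B,
      Ov Z (χ : GF (F ^ m) G → ℂ) → Ov Z (ψ : GF (F ^ m) G → ℂ) → blockHeight l B (χ : GF (F ^ m) G → ℂ) = 0 →
      blockHeight l B (ψ : GF (F ^ m) G → ℂ) = 0 → ∀ J, 0 < J →
        charDegree (ψ : GF (F ^ m) G → ℂ) ^ 4 ≠ (q ^ m) ^ J * charDegree (χ : GF (F ^ m) G → ℂ) ^ 4 := by
  obtain ⟨f, hf, rfl⟩ := hq
  obtain ⟨c, hc⟩ := card_gf X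
  have hp : p.Prime := Fact.out
  refine (Lg.prime.and (Lg.gt (n ^ 4 * (p ^ f) ^ (c * 4)))).mono fun m ⟨hm, hb⟩ hK Z B h χ h1 ψ h2 o1 o2 e1 e2 J hJ e => ?_
  have := (X.pow hm.pos).amb.finite_GF G
  have h3 : (p ^ m) ^ J ≤ (p ^ m) ^ (c * 4) :=
    calc (p ^ m) ^ J ≤ ((p ^ f) ^ m) ^ J := Nat.pow_le_pow_left (Nat.pow_le_pow_left (Nat.le_self_pow hf.ne' p) m) J
      _ ≤ charDegree (ψ : GF (F ^ m) G → ℂ) ^ 4 := e ▸ Nat.le_mul_of_pos_right _ (Nat.pow_pos (Basic.charDegree_pos χ.2))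
      _ ≤ ((p ^ m) ^ c) ^ 4 :=
        Nat.pow_le_pow_left ((Nat.le_of_dvd Nat.card_pos (H596.charDegree_dvd_card ψ.2)).trans (hc m hm.pos)) 4
      _ = _ := (pow_mul _ _ _).symm
  exact h.not_four hp (dvd_pow_self p hf.ne') (Nat.pow_pos hp.pos) hn hm hK hJ (lt_of_le_of_lt (Nat.mul_le_mul_left _
    (Nat.pow_le_pow_right (Nat.pow_pos hp.pos) ((Nat.pow_le_pow_iff_right (Nat.one_lt_pow hm.ne_zero hp.one_lt)).1 h3))) hb)
    h1 h2 o1 o2 e1 e2 e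

/-- **the target in the frame** of the regular embedding, fourth powers -/
def BoxRat4 (T : PD) (l : ℕ) : Prop := AllD fun {p} _ _ _ _ _ _ _ _ _ _ _ _ _ X => T X → ∀ (e f d : ℕ) (M : Ideal AlgInt), Gd X e f →
  Nq p (p ^ e) d l → IsPModular l M → Lg fun m => ∀ r, Nr (p ^ e) d r m → ∀ [Fintype ↥(GF (FF X ^ m) ⊤)] (n' N' : ℕ)
    (α : MulAut ↥(GF (FF X ^ m) ⊤)), Fm (FF X) ⊤ l m n' N' α → m.Prime → Rat4 l ((p ^ e) ^ m) M α (Pt (FF X) ⊤ m l (ZD X))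

theorem BoxRat4.boxK {T : PD} {l : ℕ} (h : BoxRat4 T l) : BoxK T l := fun X h1 e f d _ M h2 hq hM _ hn _ =>
  ((h X h1 e f d M h2 hq hM).and (lg_four (DD X) l hq.pq hn)).mono fun _ ⟨h3, h4⟩ r hr _ n' N' α fm hm B hB sB hE =>
    (h3 r hr n' N' α fm hm B hB sB).resolve_right fun ⟨χ, a1, ψ, a2, o1, o2, e1, e2, J, a3, a4⟩ =>
      h4 (fm.fr r hr.rp hr.mr).cop _ B hE χ a1 ψ a2 o1 o2 e1 e2 J a3 a4

/-- **the list of the targets in the frame** -/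
theorem bt_of_k (cl : ∀ l, BoxK TC l) (g2 : ∀ l, l = 2 ∨ l = 3 → BoxK (TY hpG2) l) (f4 : ∀ l, l = 2 ∨ l = 3 → BoxK (TY hpF4) l)
    (d4 : ∀ l, l = 2 ∨ l = 3 → BoxK TD l) (e6 : ∀ l, l = 2 ∨ l = 3 ∨ l = 5 → BoxK (TX hpE6) l)
    (e7 : ∀ l, l = 2 ∨ l = 3 ∨ l = 5 ∨ l = 7 → BoxK (TX hpE7) l) (e8 : ∀ l, l = 2 ∨ l = 3 ∨ l = 5 ∨ l = 7 → BoxK (TX hpE8) l) :
    BT where
  cl l := BoxK.bt (cl l) fun _ ⟨e, _, _, _, _, _, _, _, _, h1, _⟩ => ⟨e, 1, h1⟩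
  g2 l h := BoxK.bt (g2 l h) fun _ ⟨e, h1, _⟩ => ⟨e, 1, h1⟩
  f4 l h := BoxK.bt (f4 l h) fun _ ⟨e, h1, _⟩ => ⟨e, 1, h1⟩
  d4 l h := BoxK.bt (d4 l h) fun _ ⟨e, h1, _⟩ => ⟨e, 2, h1⟩
  e6 l h := BoxK.bt (e6 l h) fun _ ⟨e, h1, _⟩ => ⟨e, 1, h1⟩
  e7 l h := BoxK.bt (e7 l h) fun _ ⟨e, h1, _⟩ => ⟨e, 1, h1⟩
  e8 l h := BoxK.bt (e8 l h) fun _ ⟨e, h1, _⟩ => ⟨e, 1, h1⟩

end Cfsg.Agent.BZ.RT
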