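import Cfsg.Agent.BZ.RT.Fin
import Cfsg.Agent.BZ.RT.RegK

/-!
# BZ / RT (S4853) : the glue for one datum, weak form of the terminal cases (helper56)

`EqP` : the members over `ψ` with a multiplicity prime to `l` have equal degrees modulo `m`; `TmK`, `AimK`, `finK_of`, `boxK_of`.
-/

set_option autoImplicit false
set_option linter.unusedSectionVars false
set_option maxHeartbeats 400000

namespace Cfsg.Agent.BZ.RT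

open Cfsg Subgroup Matrix Cfsg.Agent.DL Cfsg.Agent.DL.PP Cfsg.Agent.KZ.Lie Cfsg.Agent.HZ.Gen Cfsg.Agent.HZ.L Cfsg.Agent.OM
  Cfsg.Agent.Blocks

variable {p : ℕ} [Fact p.Prime] {k : Type} [Field k] [CharP k p] [IsAlgClosed k] {Y : Type} [Group Y] {N : Type}
  [Fintype N] [DecidableEq N] {ρ : Y →* GL N k} {F : MulAut Y} {G : Subgroup Y} {D : Datum p ρ F G}

/-- the members over `ψ` with a multiplicity prime to `l` have equal degrees modulo `m`, up to a sign and a divisor of `n` -/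
def EqP [Fintype ↥(GF F G)] (l n m r : ℕ) (𝔅 : Set (IrrCharacter ↥(GF F G))) (P : Subgroup ↥(GF F G)) (s : Sb D)
    [Fintype ↥(GF F s.K)] (ψ : IrrCharacter ↥(GF F s.K)) : Prop :=
  ∃ δ : ℕ, ∀ ξ ∈ 𝔅, ∀ a : ℤ, ¬ (l : ℤ) ∣ a → classInner (s.rs r P ξ) ψ = a →
    ∃ i, i ∣ n ∧ charDegree (ξ : GF F G → ℂ) ^ 2 ≡ (i * δ) ^ 2 [MOD m]

variable (D) in
/-- **the terminal cases**, weak form -/
def TmK (j : ℕ) (B : Mat D.R) (l n : ℕ) (T : Mat D.R → RS D.R → Lb D.R → Prop) : Prop :=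
  ∀ M, IsPModular l M → Lg fun m => ∀ r, L.Nr (p ^ j) (Lie.dl l (p ^ j)) r m → ∀ (hm : 0 < m) [Fintype ↥(GF (F ^ m) G)] (n₁ n₂ : ℕ)
    (α : MulAut ↥(GF (F ^ m) G)) 𝔅 P (s : Sb (D.pow hm)) [Fintype ↥(GF (F ^ m) s.K)] β lam b, L.Fm F G l m n₁ n₂ α → m.Prime →
    Sit (D := D.pow hm) (j * m) B l r m n₁ n₂ M α 𝔅 P s β lam b → ∀ ψ ∈ b,
    ∀ (f : Fr (D.pow hm)) u c, Has (s.fr f) (ψ : GF (F ^ m) s.K → ℂ) u c →
      T ((D.pow hm).Wm (s.sw u * s.w) * B) (rts s.E) c → EqP l n m r 𝔅 P s ψ → Pair l (p ^ (j * m)) r 𝔅 P s ψ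

/-- **the aim for one datum**, weak form -/
def AimK (p : ℕ) {Y : Type} [Group Y] (F : MulAut Y) (G : Subgroup Y) (j l n : ℕ) (Z₀ : Subgroup Y) : Prop :=
  ∀ M, IsPModular l M → Lg fun m => ∀ r, L.Nr (p ^ j) (Lie.dl l (p ^ j)) r m →
  ∀ [Fintype ↥(GF (F ^ m) G)] (n₁ n₂ : ℕ) (α : MulAut ↥(GF (F ^ m) G)), L.Fm F G l m n₁ n₂ α → m.Prime →
    BTsK l n m M α (L.Pt F G m l Z₀)

variable {j l n : ℕ} {B : Mat D.R} {T T' : Mat D.R → RS D.R → Lb D.R → Prop}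

theorem Tm.tmK (h : Tm D j B l T) : TmK D j B l n T := fun M hM =>
  (h M hM).mono fun _ h1 r hr hm _ n₁ n₂ α 𝔅 P s _ β lam b hF _ h2 ψ h3 f u c h4 h5 _ =>
    h1 r hr hm n₁ n₂ α 𝔅 P s β lam b hF h2 ψ h3 f u c h4 h5

theorem TmK.mono (h : TmK D j B l n T) (hT : ∀ A Ψ c, T' A Ψ c → T A Ψ c) : TmK D j B l n T' := fun M hM =>
  (h M hM).mono fun _ h1 r hr hm _ n₁ n₂ α 𝔅 P s _ β lam b hF h0 h2 ψ h3 f u c h4 h5 =>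
    h1 r hr hm n₁ n₂ α 𝔅 P s β lam b hF h0 h2 ψ h3 f u c h4 (hT _ _ _ h5)

theorem TmK.or (h : TmK D j B l n T) (h' : TmK D j B l n T') : TmK D j B l n fun A Ψ c => T A Ψ c ∨ T' A Ψ c := fun M hM =>
  ((h M hM).and (h' M hM)).mono fun _ ⟨h1, h1'⟩ r hr hm _ n₁ n₂ α 𝔅 P s _ β lam b hF h0 h2 ψ h3 f u c h4 h5 =>
    h5.elim (h1 r hr hm n₁ n₂ α 𝔅 P s β lam b hF h0 h2 ψ h3 f u c h4) (h1' r hr hm n₁ n₂ α 𝔅 P s β lam b hF h0 h2 ψ h3 f u c h4)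

theorem tmK_false : TmK D j B l n fun _ _ _ => False := fun _ _ =>
  Lg.of_forall fun _ _ _ _ _ _ _ _ _ _ _ _ _ _ _ _ _ _ _ _ _ _ _ _ _ h => False.elim h

theorem Cmb.mono {z z' : Prop} (h : Cmb D B l z T) (hz : z' → z) (hT : ∀ A Ψ c, T A Ψ c → T' A Ψ c) : Cmb D B l z' T' :=
  fun q d w Ψ V c s h1 =>
    let ⟨t, h2, h3, h4⟩ := h q d w Ψ V c s h1
    ⟨t, h2, fun e => h3 (hz e), h4.imp_right (hT _ _ _)⟩

namespace Fn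

variable [Fintype ↥(GF F G)] {r m n' Q : ℕ} {M : Ideal AlgInt} {α : MulAut ↥(GF F G)}
  {𝔅 : Set (IrrCharacter ↥(GF F G))} {P Z : Subgroup ↥(GF F G)} {s : Sb D} [Fintype ↥(GF F s.K)] {β : MulAut ↥(GF F s.K)} {lam : Vec D.R}
  {b : Set (IrrCharacter ↥(GF F s.K))}

/-- a member over `ψ` with a multiplicity prime to `l` -/
theorem crit (h : Sit j B l r m n n' M α 𝔅 P s β lam b) (hZ : Z ≤ center _) {ψ : IrrCharacter ↥(GF F s.K)} (hψ : ψ ∈ b)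
    (h0 : blockHeight l b (ψ : GF F s.K → ℂ) = 0) (ho : ¬ l ∣ (Lab.Orb s.ι P (ψ : GF F s.K → ℂ) ∩ b).ncard)
    (hz : Lab.Ov (Z.comap s.ι) (ψ : GF F s.K → ℂ)) {η : IrrCharacter ↥(GF F G)} (k1 : η ∈ 𝔅) {e : ℤ} (k2 : ¬ (l : ℤ) ∣ e)
    (k3 : classInner (s.rs r P η) ψ = e) : Lab.Ov Z (η : GF F G → ℂ) ∧ blockHeight l 𝔅 (η : GF F G → ℂ) = 0 := by
  obtain ⟨Q₀, q1, q2, q3⟩ := h.dq
  refine ⟨fun z hz' => ?_, critE h.fr h.hM h.top q1 q2 q3 k1 hψ k3 k2 h0 ho⟩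
  obtain ⟨y, rfl⟩ : z ∈ s.ι.range := h.top.rg ▸ center_le_centralizer _ (hZ hz')
  have k4 := Lab.cen_rs Lab.boxSt h.fr h.top.rp h.top.emb h.top.rg (h.top.sB η k1)
    (show classInner (s.rs r P η) ψ ≠ 0 from k3 ▸ Int.cast_ne_zero.2 fun e0 => k2 (e0 ▸ dvd_zero _)) (hZ hz')
  rw [hz y hz', div_self (irr_one_ne ψ.2)] at k4
  exact (div_eq_one_iff_eq (irr_one_ne η.2)).1 k4

end Fn

open Fn in
/-- **the glue** -/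
theorem finK_of (H : Bx p) (D : Datum p ρ F G) {j l n : ℕ} {B : Mat D.R} {Z₀ : Subgroup Y} {z : Prop}
    {T : Mat D.R → RS D.R → Lb D.R → Prop} (hq : Lie.Cq D j B l) (hj : 0 < j) (hn : ¬ p ∣ n) (hZ : ∀ x ∈ Z₀, ∀ y ∈ G, y * x = x * y)
    (hz : z ∨ ∀ x ∈ Z₀, ∀ i : ℕ, x ^ l ^ i = 1 → x = 1) (hC : Cmb D B l z T) (hT : TmK D j B l n T) : AimK p F G j l n Z₀ :=
  fun M hM => by
  have := @Fintype.ofFinite _ (D.amb.finite_GF G)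
  refine (((H.sit D j B l M hq hM).and (hT M hM)).and (lg_four D l ⟨j, hj, rfl⟩ hn)).mono
    fun m ⟨⟨h1, h2⟩, h3⟩ r hr _ n₁ n₂ α hF mp 𝔅 hB sB hE => ?_
  by_contra e
  have hm : 0 < m := mp.pos
  obtain ⟨P, s, _, β, lam, b, h⟩ := h1 r hr hm n₁ n₂ α 𝔅 hF hB sB fun E k1 k2 => e ⟨E, k1, k2⟩
  obtain ⟨Q, q1, q2, q3⟩ := h.dq
  obtain ⟨S, hS, ψ, k1, k2, k3, k4⟩ := H.hz0 h.fr hM h.top q1 q2 q3 h.nab (pt_cen hZ m l)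
    fun g => (pt_mem hZ g.2).2.imp fun _ hi => Subtype.ext hi
  obtain ⟨f⟩ := nonempty_fr (D.pow hm)
  obtain ⟨u, c, c₀, k5, k6⟩ := H.cb (D.pow hm) _ _ _ _ _ _ _ _ _ _ _ s β lam b h S hS ψ k1 k2 f
  obtain ⟨t, k7, k8, k9⟩ := hC _ _ _ _ _ _ _ k6
  obtain ⟨φ, g1, g2, g3, g4, g5⟩ := H.twi (D.pow hm) _ _ _ _ _ _ _ _ _ _ _ s β lam b h S hS.sn ψ k1 k2 f u c t k5 k7
  have a1 : blockHeight l b (φ : GF (F ^ m) s.K → ℂ) = 0 := by rw [blockHeight, g3]; exact k3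
  have a2 : Lab.Ov ((L.Pt F G m l Z₀).comap s.ι) (φ : GF (F ^ m) s.K → ℂ) := by
    rcases hz with hz | hz
    · exact g4 (k8 hz) ▸ k4
    · intro y hy
      obtain ⟨g6, i, g7⟩ := pt_mem hZ hy
      rw [show y = 1 from s.ι_injective (Subtype.ext ((hz _ g6 i (congrArg Subtype.val g7)).trans (by rw [map_one]; rfl)))]
  obtain ⟨χ, b1, χ', b2, b3, b4, b5, b6, J, b7, -, b8⟩ := two4 (Q := p ^ (j * m)) h (pt_cen hZ m l) g1 a1 (hS.orb φ g1 g2) a2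
    (k9.elim (fun k10 => H.at1 (D.pow hm) _ _ _ _ _ _ _ _ _ _ _ s β lam b h φ g1 f u _ g5
      ⟨k10, ne (fun a ha => two (s.rts_sub ha)) k6 k7⟩) fun k10 => h2 r hr hm n₁ n₂ α 𝔅 P s β lam b hF mp h φ g1 f u _ g5 k10
        (hE.imp fun δ hδ ξ c1 a c2 c3 =>
          let ⟨c4, c5⟩ := crit h (pt_cen hZ m l) g1 a1 (hS.orb φ g1 g2) a2 c1 c2 c3
          hδ ξ c1 c4 c5))
  exact h3 h.fr.cop _ 𝔅 hE χ b1 χ' b2 b3 b4 b5 b6 J b7 (by rw [← pow_mul p]; exact b8)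

/-- what a type proves for the regular embedding of `X` -/
def Ty (X : Datum p ρ F G) (e l n : ℕ) : Prop := ∃ (B : Mat (Reg.DD X).R) (z : Prop) (T : Mat (Reg.DD X).R → RS (Reg.DD X).R → Lb (Reg.DD X).R → Prop),
  Lie.Cq (Reg.DD X) e B l ∧ (z ∨ ∀ x ∈ ZD X, ∀ i : ℕ, x ^ l ^ i = 1 → x = 1) ∧ Cmb (Reg.DD X) B l z T ∧ TmK (Reg.DD X) e B l n T

/-- the same for all the data with the tag `T` -/
def BoxTy (T : PD) (l : ℕ) : Prop := KM.Tor.AllD fun {p} _ _ _ _ _ _ _ _ _ _ _ _ _ X => T X → l.Prime → l ≠ p → ∀ e f n, Gd X e f →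
  n ∣ Nat.card (KM.Tor.Zc X {a | X.Rt a}) → ¬ p ∣ n → ¬ l ∣ n → Ty X e l n

theorem boxK_of (H : ∀ (p : ℕ) [Fact p.Prime], Bx p) {T : PD} {l : ℕ} (h : BoxTy T l) : BoxK T l :=
  fun X h1 e f d n M h2 hq hM h3 h4 h5 => by
  obtain rfl : OM.Lie.dl l _ = d := hq.dl
  obtain ⟨B, z, T, k1, k2, k3, k4⟩ := h X h1 hq.lp hq.ne e f n h2 h3 h4 h5
  exact finK_of (H _) (Reg.DD X) k1 h2.e0 h4 (fun _ hx y hy => L.Bz.Zc_cen (zd_le X hx) y hy) k2 k3 k4 M hM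

end Cfsg.Agent.BZ.RT
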