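import Cfsg.Agent.BZ.RT.Defs
import Cfsg.Agent.OM.Gl.Br
import Cfsg.Agent.RC.B.Kit

/-!
# BZ / RT (S4853) : the tags for the regular embedding `DD X` (helper82)

* `Act D B ε w` : `B` acts on the roots and the coroots as `ε w`;
* `Tgd X e B Ψ z f` : `St`, the type `Ψ`, the exponent `z` of `ZD X`, and `Cq` for the primes which do not divide `f`;
* `Gd.st`, `Gd.cq`, `ClT.ty0`, `tagX`, `tagE6`, `tagE7`, `tagE8`, `tagY`, `tagG2`, `tagF4`, `tagD`.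
-/

set_option autoImplicit false
set_option linter.unusedSectionVars false

namespace Cfsg.Agent.BZ.RT

open Cfsg Cfsg.Lie Subgroup Matrix Cfsg.Agent.DL Cfsg.Agent.DL.PP Cfsg.Agent.HZ.L Cfsg.Agent.HZ.L.Reg Cfsg.Agent.OM
  Cfsg.Agent.KZ.DatX Cfsg.Agent.Nodes.RGDChev Cfsg.Agent.Tits.Roots Cfsg.Agent.ChevalleyStructure.CoxeterGeomTypes
open Cfsg.Agent.TO.X.Cn (Pi1 PM cl cl_add cl_smul)
open Cfsg.Agent.KM.Tor (SL co Pp)
open Cfsg.Agent.HZ.L.U (Ph FB)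

variable {p : ℕ} [Fact p.Prime] {k : Type} [Field k] [CharP k p] [IsAlgClosed k] {Y : Type} [Group Y] {N : Type}
  [Fintype N] [DecidableEq N] {ρ : Y →* GL N k} {F : MulAut Y} {G : Subgroup Y}

/-- `B` acts on the roots and the coroots as `ε w` -/
def Act (D : Datum p ρ F G) (B : Mat D.R) (ε : ℤ) (w : D.W) : Prop :=
  ∀ a ∈ rts D, B *ᵥ a.2 = ε • D.Wm w *ᵥ a.2 ∧ a.1 ᵥ* B = ε • a.1 ᵥ* D.Wm w

/-- the data of the regular embedding -/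
structure Tgd (X : Datum p ρ F G) (e : ℕ) (B : Mat (DD X).R) {R : Type} [Fintype R] (Ψ : RS R) (z f : ℕ) : Prop where
  st : St (DD X) e B
  iso : Iso (rts (DD X)) Ψ
  zd : ∀ x ∈ ZD X, x ^ z = 1
  cq : ∀ l, l.Prime → l ≠ p → ¬ l ∣ f → Lie.Cq (DD X) e B l

variable {X : Datum p ρ F G} {e f e' f' l z : ℕ}

/-- `ZD X` is central -/
theorem zd_cen (X : Datum p ρ F G) : ∀ x ∈ ZD X, ∀ y ∈ (⊤ : Subgroup (YY X)), y * x = x * y :=
  fun _ hx => L.Bz.Zc_cen (zd_le X hx)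

theorem Tgd.zl {B : Mat (DD X).R} {R : Type} [Fintype R] {Ψ : RS R} (h : Tgd X e B Ψ z f) (hl : l.Prime) (hz : ¬ l ∣ z) :
    ∀ x ∈ ZD X, ∀ i : ℕ, x ^ l ^ i = 1 → x = 1 := fun x hx i hi =>
  (pow_eq_one_iff_of_coprime ((hl.coprime_iff_not_dvd.2 hz).pow_left i)).1 ⟨hi, h.zd x hx⟩

theorem Gd.st (h : Gd X e f) : ∃ B, St X e B := by
  obtain ⟨n, c, h1⟩ := h.cs
  obtain ⟨B, h2, h3⟩ := h1.mat 1
  rw [X.Wm_one, one_mul, Nat.cast_pow] at h2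
  exact ⟨B, h.e0, h2, h.qs, ⟨n, h1.n0, h3⟩, fun a ha => Nat.pow_right_injective (Fact.out : p.Prime).two_le (h1.ex a ha)⟩

theorem Gd.stD (h : Gd X e f) : ∃ B, St (DD X) e B := h.st.elim fun _ h => (exists_B h).elim fun _ h => ⟨_, h⟩

theorem Gd.eq (h : Gd X e f) (h' : Gd X e' f') {a : X.I → ℤ} (ha : X.Rt a) : e = e' :=
  h.st.elim fun _ h => h'.st.elim fun _ h' => (h.ex a ha).symm.trans (h'.ex a ha)

namespace Tag

theorem st_unique {D : Datum p ρ F G} {j : ℕ} {B B' : Mat D.R} (h : St D j B) (h' : St D j B') : B = B' :=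
  smul_right_injective _ h.q_ne (h.mx.symm.trans h'.mx)

variable (X) in
theorem iso_DD : Iso (rts (DD X)) (rts X) := ⟨(rtE (DD X)).symm.trans (rtE X), fun a b => by
  obtain ⟨a, rfl⟩ := (rtE (DD X)).surjective a
  obtain ⟨b, rfl⟩ := (rtE (DD X)).surjective b
  rw [Equiv.trans_apply, Equiv.trans_apply, Equiv.symm_apply_apply, Equiv.symm_apply_apply]
  show X.wt a ⬝ᵥ X.cor b = (DD X).wt a ⬝ᵥ (DD X).cor b
  rw [cor_DD X b.2, dotProduct_mulVec]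
  exact congrArg (· ⬝ᵥ _) (vecMul_Jm X _ _).symm⟩

theorem cl_DD (β : X.I → ℤ) : cl (DD X) β = Sum.elim (cl X β) 0 := by
  rw [← Jm_mulVec, cl, cl, mulVec_sum]
  exact Finset.sum_congr rfl fun i _ => by rw [mulVec_smul, Jm_mulVec]

theorem pi1_DD (h : Pi1 X f) : Pi1 (DD X) f := fun y n β hn e => by
  rw [cl_DD] at e
  obtain ⟨γ, h1⟩ := h (y ∘ Sum.inl) n β hn (funext fun i => congrFun e (.inl i))
  refine ⟨γ, (cl_DD γ).symm ▸ funext fun i => ?_⟩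
  rcases i with i | i
  · exact congrFun h1 i
  · exact mul_eq_zero_of_right _ ((mul_eq_zero.1 (congrFun e (.inr i))).resolve_left hn)

theorem sc_of {D : Datum p ρ F G} (h : Pi1 D f) (hl : l.Prime) (hf : ¬ l ∣ f) : Lie.SC l (rts D) := fun v hv => by
  obtain ⟨β, h1⟩ := Gl.mem_span_iff.1 hv
  obtain ⟨γ, h2⟩ := h v l β (Nat.cast_ne_zero.2 hl.ne_zero) h1
  obtain ⟨a, b, h3⟩ := Nat.isCoprime_iff_coprime.2 (hl.coprime_iff_not_dvd.2 hf)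
  exact Gl.mem_span_iff.2 ⟨a • β + b • γ, by rw [cl_add, cl_smul, cl_smul, ← h1, ← h2, smul_smul, smul_smul, ← add_smul, h3, one_smul]⟩

theorem g_eq {ε : ℤ} {w : X.W} (hε : ε ^ 2 = 1) (h : X.Mx = ((p ^ e : ℕ) : ℤ) • ε • X.Wm w) {a : X.I → ℤ} (ha : X.Rt a) :
    X.g a = ε • X.act w a := by
  refine (X.eq_g_of_ψ ha ?_ (c := (p ^ e : ℕ)) (Nat.cast_pos.2 (pow_pos (Fact.out : p.Prime).pos e)) (X.wt_injective ?_)).symm
  · rcases sq_eq_one_iff.1 hε with rfl | rfl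
    · rw [one_smul]
      exact ha.act w
    · rw [neg_one_smul]
      exact (ha.act w).neg
  · rw [X.wt_ψ, h, vecMul_smul, vecMul_smul, map_zsmul, map_zsmul, smul_vecMul, X.wt_act, smul_smul ε, ← sq, hε, one_smul]

theorem act_of {D : Datum p ρ F G} {j : ℕ} {B : Mat D.R} (h : St D j B) {ε : ℤ} {w : D.W} (hε : ε ^ 2 = 1)
    (hg : ∀ a, D.Rt a → D.g a = ε • D.act w a) : Act D B ε w := by
  rintro _ ⟨b, hb, rfl⟩
  have h0 : ∀ a, D.act 1 a = a := fun a => D.wt_injective (by rw [← D.wt_act 1 a, D.Wm_one, vecMul_one])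
  constructor
  · have h1 := h.cor_g 1 hb
    rw [D.Wm_one, one_mul, h0, hg b hb] at h1
    rw [← D.cor_act w hb]
    rcases sq_eq_one_iff.1 hε with rfl | rfl
    · rwa [one_smul] at h1 ⊢
    · rwa [neg_one_smul, D.cor_neg (hb.act w), ← neg_one_smul ℤ] at h1
  · obtain ⟨a, ha, rfl⟩ := D.g_surj hb
    have h1 := h.wt_g 1 ha
    rw [D.Wm_one, one_mul, h0] at h1
    show D.wt (D.g a) ᵥ* B = ε • D.wt (D.g a) ᵥ* D.Wm w
    rw [h1, hg a ha, map_zsmul, smul_vecMul, D.wt_act, smul_smul, ← sq, hε, one_smul]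

theorem blocks {j : ℕ} {B : Mat X.R} {B' : Mat (DD X).R} (h : St X j B) (h' : St (DD X) j B') :
    B' * Jm X = Jm X * B ∧ ∀ n, B ^ n = 1 → B' ^ n = 1 := by
  obtain ⟨Q, hQ⟩ := exists_B h
  obtain rfl := st_unique hQ h'
  refine ⟨blocks_Jm X B Q, fun n hn => ?_⟩
  have h1 : Qm X = ((p : ℤ) ^ j) • Q := by
    have h1 := hQ.mx
    rw [fromBlocks_smul] at h1
    exact (fromBlocks_inj.1 h1).2.2.2
  have h2 := Qm_pow_Am X n
  rw [h1, h.mx, smul_pow, smul_pow, hn, Matrix.smul_mul, Matrix.mul_smul, Matrix.mul_one] at h2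
  rw [fromBlocks_diagonal_pow, hn, Am_cancel X ((smul_right_injective _ (pow_ne_zero n h.q_ne) h2).trans (Matrix.one_mul _).symm),
    fromBlocks_one]

theorem zd_pow (h : ∀ t ∈ KM.Tor.Zc X {a | X.Rt a}, t ^ z = 1) : ∀ x ∈ ZD X, x ^ z = 1 := by
  rintro _ ⟨g, hg, rfl⟩
  rw [← map_pow, show g ^ z = 1 from Subtype.ext (h g hg), map_one]

variable {C : ChevalleyDatum} {n : ℕ} {M : CoxeterMatrix (Fin n)} {hp : IsType C n M} {B₀ : Fin n → Fin n → ℤ}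

theorem ty2 (hs : SL C n) (h : RC.B.Ty X hp) : K3.Ty2 X hp :=
  let ⟨Mx, X₀, e, h1, h2⟩ := h
  ⟨Mx, X₀, e, h1, fun a b hb => (X.pair_cor hb a).trans ((h2 a b hb).trans (by rw [KM.Tor.cor_eq X₀ hs ((h1 b).1 hb)]))⟩

theorem iso_ty (hB : FB C n B₀) (h : K3.Ty2 X hp) : Iso (rts X) (Ph C n B₀) := by
  obtain ⟨Mx, X₀, e, h1, h2⟩ := h
  rw [← U.rts_Ph X₀ hB]
  refine ⟨(rtE X).symm.trans ((e.toEquiv.subtypeEquiv h1).trans (rtE X₀.D)), fun a b => ?_⟩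
  obtain ⟨a, rfl⟩ := (rtE X).surjective a
  obtain ⟨b, rfl⟩ := (rtE X).surjective b
  rw [Equiv.trans_apply, Equiv.trans_apply (rtE X).symm, Equiv.symm_apply_apply, Equiv.symm_apply_apply]
  exact (h2 a b b.2).symm

theorem exists_rt (hn : 0 < n) (h : K3.Ty2 X hp) : ∃ a, X.Rt a :=
  let ⟨_, X₀, e, h1, _⟩ := h
  ⟨e.symm (sr ⟨0, hn⟩), (h1 _).2 (by rw [e.apply_symm_apply]; exact isRoot_sr X₀.D.cs X₀.D.h _)⟩

/-- the exponent of the centre -/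
theorem zc_pow (hs : SL C n) (hz : z ≠ 0) (hP : PM C n z) (ss : ∀ v, Pp X {a | X.Rt a} v → v = 0) (h : RC.B.Ty X hp) :
    ∀ t ∈ KM.Tor.Zc X {a | X.Rt a}, t ^ z = 1 := by
  obtain ⟨Mx, X₀, e, h1, h2⟩ := h
  have h3 : ∀ i, X.Rt (e.symm (sr i)) := fun i => (h1 _).2 (by rw [e.apply_symm_apply]; exact isRoot_sr X₀.D.cs X₀.D.h _)
  have h4 : ∀ a β, X.wt a ⬝ᵥ ∑ i, β i • X.cor (e.symm (sr i)) = e a ⬝ᵥ co C n β := fun a β => by
    conv_rhs => rw [RC.B.sum_sr β, show co C n _ = _ from map_sum (RC.B.coH C n) _ _]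
    rw [dotProduct_sum, dotProduct_sum]
    refine Finset.sum_congr rfl fun i _ => ?_
    rw [map_zsmul, dotProduct_smul, dotProduct_smul]
    exact congrArg _ ((X.pair_cor (h3 i) a).trans ((h2 a _ (h3 i)).trans (by rw [e.apply_symm_apply]; rfl)))
  have h5 : ∀ v : X.R → ℤ, ∃ β : Fin n → ℤ, (z : ℤ) • v = ∑ i, β i • X.cor (e.symm (sr i)) := fun v => by
    obtain ⟨β, hβ⟩ := RC.B.pm_co hP fun i => X.wt (e.symm (sr i)) ⬝ᵥ v
    refine ⟨β, sub_eq_zero.1 (ss _ fun a _ => ?_)⟩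
    rw [dotProduct_sub, h4, ← hβ, dotProduct_smul, dotProduct_smul, sub_eq_zero]
    conv_lhs => rw [← e.symm_apply_apply a, RC.B.sum_sr (e a), map_sum, map_sum, sum_dotProduct]
    exact congrArg _ (Finset.sum_congr rfl fun i _ => by rw [map_zsmul, map_zsmul, smul_dotProduct, smul_eq_mul])
  have h6 : ∀ v : X.R → ℤ, ∃ a, X.wt a = (z : ℤ) • v := fun v => by
    obtain ⟨β, hβ⟩ := RC.B.pm_co hP (fun i => v ⬝ᵥ X.cor (e.symm (sr i)))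
    refine ⟨e.symm β, sub_eq_zero.1 (funext fun j => ?_)⟩
    obtain ⟨γ, hγ⟩ := h5 (Pi.single j 1)
    have h7 : (X.wt (e.symm β) - (z : ℤ) • v) ⬝ᵥ (z : ℤ) • Pi.single j 1 = 0 := by
      rw [hγ, sub_dotProduct, h4, e.apply_symm_apply, RC.B.co_comm hs, ← hβ, smul_dotProduct, dotProduct_smul, dotProduct_sum,
        sub_eq_zero]
      exact congrArg _ (Finset.sum_congr rfl fun i _ => by rw [dotProduct_smul, smul_eq_mul])
    rw [dotProduct_smul, dotProduct_single_one, smul_eq_mul] at h7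
    exact (mul_eq_zero.1 h7).resolve_left (Int.natCast_ne_zero.2 hz)
  intro t ht
  obtain ⟨c, rfl⟩ := (X.mem_T t).1 ht.1
  rw [← map_pow, ← map_one X.τ]
  refine congrArg _ (funext fun i => ?_)
  obtain ⟨a, ha⟩ := h6 (Pi.single i 1)
  have h7 : chr (X.wt a) c = 1 := by
    rw [X.eq_sum_sr a, map_sum]
    refine Finset.sum_induction _ (chr · c = 1) (fun u v hu hv => by rw [chr_add, hu, hv, mul_one]) (chr_zero c) fun j _ => ?_
    rw [map_zsmul, chr_zsmul, Units.val_eq_one.1 ((X.χ_τ _ c).symm.trans (ht.2 _ (isRoot_sr X.cs X.h j))), _root_.one_zpow]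
  rwa [ha, chr_zsmul, chr_single, zpow_natCast] at h7

end Tag

open Tag

/-- **the general part** -/
theorem Gd.cq (h : Gd X e f) {B : Mat (DD X).R} (hB : St (DD X) e B) (ht : Lie.Ty0 (rts (DD X))) (hl : l.Prime) (hp : l ≠ p)
    (hf : ¬ l ∣ f) : Lie.Cq (DD X) e B l := ⟨hB, cz_of (cz_DD X), sc_of (pi1_DD h.pi) hl hf, ht, hl, hp⟩

theorem ClT.ty0 {D : Datum p ρ F G} {B : Mat D.R} (h : ClT D B) : Lie.Ty0 (rts D) :=
  let ⟨κ, n, Φ, _⟩ := h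
  .inl (.inl ⟨n, κ, _, Φ.φ, Φ.car⟩)

/-- the classical types -/
theorem TC.cq (h : TC X) {B : Mat (DD X).R} (hB : St (DD X) e B) (ht : ClT (DD X) B) (hl : l.Prime) (hp : l ≠ p) :
    Lie.Cq (DD X) e B l :=
  let ⟨_, _, _, _, _, _, _, _, _, h1, _⟩ := h
  ⟨hB, cz_of (cz_DD X), sc_of (pi1_DD h1.pi) hl hl.not_dvd_one, ht.ty0, hl, hp⟩

theorem Tgd.mk' (h : Pi1 X f) {B : Mat (DD X).R} (hB : St (DD X) e B) {R : Type} [Fintype R] [DecidableEq R] {Ψ : RS R}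
    (hi : Iso (rts X) Ψ) (ht : Gl.Top Ψ) (hz : ∀ t ∈ KM.Tor.Zc X {a | X.Rt a}, t ^ z = 1) : Tgd X e B Ψ z f :=
  ⟨hB, (iso_DD X).trans hi, zd_pow hz, fun _ hl hp hf =>
    ⟨hB, cz_of (cz_DD X), sc_of (pi1_DD h) hl hf, (ht.iso ((iso_DD X).trans hi)).ty0, hl, hp⟩⟩

variable {C : ChevalleyDatum} {n : ℕ} {M : CoxeterMatrix (Fin n)} {hp : IsType C n M} {B₀ : Fin n → Fin n → ℤ}

/-- **simply laced types** -/
theorem tagX (hs : SL C n) (hB : FB C n B₀) (hz : z ≠ 0) (hP : PM C n z) (ht : Gl.Top (Ph C n B₀)) (h : TX hp X) (g : Gd X e f) :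
    ∃ B ε w, Tgd X e B (Ph C n B₀) z 1 ∧ ε ^ 2 = 1 ∧ Act (DD X) B ε w := by
  obtain ⟨e', h1, h2, ε, w, h3, h4⟩ := h
  obtain ⟨B, h5⟩ := g.stD
  exact ⟨B, ε, w, .mk' h1.pi h5 (iso_ty hB (ty2 hs h2)) ht (zc_pow hs hz hP h1.ss h2), h3,
    act_of h5 h3 fun _ ha => g_eq (X := X) h3 h4 ha⟩

theorem tagE6 (h : TX hpE6 X) (g : Gd X e f) : ∃ B ε w, Tgd X e B U.PE6 3 1 ∧ ε ^ 2 = 1 ∧ Act (DD X) B ε w :=
  tagX RC.B.sl_E6 U.fb_E6 three_ne_zero TO.X.Cn.pm_E6 (.inr (.inr (.inr (.inr (.inl (Iso.refl _)))))) h g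

theorem tagE7 (h : TX hpE7 X) (g : Gd X e f) :
    ∃ B ε w, Tgd X e B (Ph chevE7 7 (cartanOf chevE7 7)) 2 1 ∧ ε ^ 2 = 1 ∧ Act (DD X) B ε w :=
  tagX RC.B.sl_E7 On.TyP.fb_E7 two_ne_zero TO.X.Cn.pm_E7 (.inr (.inr (.inr (.inr (.inr (.inl (Iso.refl _))))))) h g

theorem tagE8 (h : TX hpE8 X) (g : Gd X e f) : ∃ B ε w, Tgd X e B U.PE8 1 1 ∧ ε ^ 2 = 1 ∧ Act (DD X) B ε w :=
  tagX RC.B.sl_E8 U.fb_E8 one_ne_zero TO.X.Cn.pm_E8 (.inr (.inr (.inr (.inr (.inr (.inr (Iso.refl _))))))) h g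

/-- **split types with trivial centre** -/
theorem tagY (hn : 0 < n) (hB : FB C n B₀) (ht : Gl.Top (Ph C n B₀)) (h : TY hp X) (g : Gd X e f) : Tgd X e 1 (Ph C n B₀) 1 1 := by
  obtain ⟨e', h1, h2, h3, h4⟩ := h
  obtain ⟨a, ha⟩ := exists_rt hn h2
  obtain rfl := g.eq h1 ha
  obtain ⟨B, h5⟩ := g.stD
  obtain ⟨B₁, h6⟩ := g.st
  obtain rfl : B₁ = 1 := smul_right_injective _ h6.q_ne (h6.mx.symm.trans (h4.trans (by rw [Nat.cast_pow])))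
  obtain rfl : B = 1 := (pow_one B).symm.trans ((blocks h6 h5).2 1 (one_pow 1))
  exact .mk' h1.pi h5 (iso_ty hB h2) ht fun t ht => (pow_one t).trans (mem_bot.1 (h3.le ht))

theorem tagG2 (h : TY hpG2 X) (g : Gd X e f) : Tgd X e 1 U.PG2 1 1 := tagY two_pos U.fb_G2 (.inr (.inl (Iso.refl _))) h g

theorem tagF4 (h : TY hpF4 X) (g : Gd X e f) : Tgd X e 1 U.PF4 1 1 := tagY four_pos U.fb_F4 (.inr (.inr (.inl (Iso.refl _)))) h g

/-- **the triality**; `Cq` for the odd primes -/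
theorem tagD (h : TD X) (g : Gd X e f) : ∃ B, Tgd X e B U.PD4 1 2 ∧ B ^ 3 = 1 ∧ B ≠ 1 ∧ ∃ a ∈ rts (DD X), a.1 ᵥ* B ≠ a.1 := by
  obtain ⟨e', h1, h2, -, h3, B₁, h4, h5, h6⟩ := h
  obtain ⟨a, ha⟩ := exists_rt four_pos h2
  obtain rfl := g.eq h1 ha
  obtain ⟨B, h7⟩ := g.stD
  obtain ⟨B₂, h8⟩ := g.st
  obtain rfl : B₂ = B₁ := smul_right_injective _ h8.q_ne (h8.mx.symm.trans (h4.trans (by rw [Nat.cast_pow])))
  obtain ⟨h9, h10⟩ := blocks h8 h7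
  have h11 : ∃ a ∈ rts (DD X), a.1 ᵥ* B ≠ a.1 := by
    by_contra! h11
    refine h6 (sub_eq_zero.1 (Matrix.ext_of_mulVec_single fun j => (h1.ss _ fun b hb => ?_).trans (zero_mulVec _).symm))
    have h12 := congrArg (· ᵥ* Jm X) (h11 _ (rt_mem (D := DD X) hb))
    simp only [vecMul_vecMul, h9] at h12
    rw [← vecMul_vecMul, show (DD X).wt b ᵥ* Jm X = X.wt b from vecMul_Jm X _ _] at h12
    rw [dotProduct_mulVec, vecMul_sub, h12, vecMul_one, sub_self, zero_dotProduct]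
  refine ⟨B, .mk' h1.pi h7 (iso_ty U.fb_D4 h2) (.inr (.inr (.inr (.inl (Iso.refl _))))) fun t ht =>
    (pow_one t).trans (mem_bot.1 (h3.le ht)), h10 3 h5, ?_, h11⟩
  rintro rfl
  obtain ⟨a, -, h12⟩ := h11
  exact h12 (vecMul_one _)

end Cfsg.Agent.BZ.RT
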