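import Cfsg.Agent.BZ.RT.Fin
import Cfsg.Agent.BZ.RT.RegK
import Cfsg.Agent.OM.Gl.Br
import Cfsg.Agent.OM.Au.E

/-!
# BZ / RT (S4853) : simply connected data without tags, the triality groups at the prime two (helper17)

* `iso_dd`, `pi1_dd`, `cq_dd`, `zd_cen`, `aim_bt` : the regular embedding;
* `C42` : the combinatorial statement for `D₄`; `td2` : the row.
-/

set_option autoImplicit false
set_option linter.unusedSectionVars false
set_option maxHeartbeats 400000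

namespace Cfsg.Agent.BZ.RT.Td

open Cfsg Cfsg.Lie Subgroup Matrix Cfsg.Agent.DL Cfsg.Agent.DL.PP Cfsg.Agent.KZ.Lie Cfsg.Agent.HZ.Gen Cfsg.Agent.HZ.L Cfsg.Agent.OM
  Cfsg.Agent.HZ.L.Reg Cfsg.Agent.TO.X.Cn

variable {p : ℕ} [Fact p.Prime] {k : Type} [Field k] [CharP k p] [IsAlgClosed k] {Y : Type} [Group Y] {N : Type}
  [Fintype N] [DecidableEq N] {ρ : Y →* GL N k} {F : MulAut Y} {G : Subgroup Y} (X : Datum p ρ F G) {j l : ℕ} {B : Mat X.R}

theorem iso_dd : Iso (rts (DD X)) (rts X) := Iso.symm ⟨(rtE X).symm.trans (rtE (DD X)), fun a b => by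
  obtain ⟨a, rfl⟩ := (rtE X).surjective a
  obtain ⟨b, rfl⟩ := (rtE X).surjective b
  rw [Equiv.trans_apply, Equiv.trans_apply, Equiv.symm_apply_apply, Equiv.symm_apply_apply]
  exact (congrArg _ (cor_DD X b.2)).trans ((dotProduct_mulVec _ _ _).trans (congrArg (· ⬝ᵥ _) (vecMul_Jm X _ _)))⟩

variable {X}

theorem pi1_dd {f : ℕ} (h : Pi1 X f) : Pi1 (DD X) f := fun y n β hn e => by
  have h2 : ∀ β, cl (DD X) β = Sum.elim (cl X β) 0 := fun β => by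
    rw [← Jm_mulVec]
    change ∑ i, β i • (DD X).cw i = Jm X *ᵥ ∑ i, β i • X.cw i
    rw [mulVec_sum]
    exact Finset.sum_congr rfl fun i _ => by rw [mulVec_smul, Jm_mulVec]
  rw [h2] at e
  obtain ⟨γ, h4⟩ := h (y ∘ Sum.inl) n β hn (funext fun i => congrFun e (Sum.inl i))
  refine ⟨γ, (h2 γ).symm ▸ funext fun i => ?_⟩
  rcases i with i | i
  · exact congrFun h4 i
  · exact mul_eq_zero_of_right _ ((mul_eq_zero.1 (congrFun e (Sum.inr i))).resolve_left hn)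

/-- the standing hypotheses for the regular embedding -/
theorem cq_dd (h : St X j B) (h1 : Pi1 X 1) (ht : Gl.Top (rts X)) (hl : l.Prime) (hp : l ≠ p) :
    ∃ Q, Lie.Cq (DD X) j (fromBlocks B 0 0 Q) l :=
  (exists_B h).imp fun _ hQ => ⟨hQ, cz_of (cz_DD X), Gl.sc_of (pi1_dd h1) hl.ne_zero, (ht.iso (iso_dd X)).ty0, hl, hp⟩

theorem zd_cen : ∀ x ∈ ZD X, ∀ y ∈ (⊤ : Subgroup (YY X)), y * x = x * y := fun _ hx => L.Bz.Zc_cen (zd_le X hx)

/-- from the aim for the regular embedding to the target -/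
theorem aim_bt (hj : 0 < j) (hp : l ≠ p) (h : Aim p (FF X) ⊤ j l (ZD X)) (M : Ideal AlgInt) (hM : IsPModular l M) :
    BTr l M ↥(GF (F ^ 1) G) (L.Zl X 1 l) :=
  have hq : L.Nq p (p ^ j) (Lie.dl l (p ^ j)) l := ⟨hM.1, hp, ⟨j, hj, rfl⟩, rfl⟩
  regK X hq hM fun _ _ hn _ => ((h M hM).and (lg_four (DD X) l hq.pq hn)).mono fun _ ⟨h3, h4⟩ r hr _ n' N' α fm _ B hB sB hE =>
    (h3 r hr n' N' α fm B hB sB).resolve_right fun ⟨χ, a1, ψ, a2, o1, o2, e1, e2, i, a3, _, a4⟩ =>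
      h4 (fm.fr r hr.rp hr.mr).cop _ B hE χ a1 ψ a2 o1 o2 e1 e2 i a3 a4

theorem tm_false (D : Datum p ρ F G) (j : ℕ) (B : Mat D.R) (l : ℕ) : Tm D j B l fun _ _ _ => False :=
  fun _ _ => Lg.of_forall fun _ _ _ _ _ _ _ _ _ _ _ _ _ _ _ _ _ _ _ _ _ _ _ _ h => h.elim

/-- the combinatorial statement for the type `D₄` at the prime two -/
def C42 : Prop := KM.Tor.AllD fun D => ∀ j B, Lie.Cq D j B 2 → Iso (rts D) U.PD4 → Cmb D B 2 True fun _ _ _ => False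

/-- **the triality groups at the prime two** -/
theorem td2 (H : ∀ (p : ℕ) [Fact p.Prime], Bx p) (h : C42) (r : ℕ) [hr : Fact r.Prime] (F : Type) [Field F] [Fintype F] [CharP F r]
    (h2 : 2 ≠ r) {q : ℕ} (hq : IsPrimePow q) (hF : Fintype.card F = q ^ 3) : RowT 2 ↥(twistedD4 F q) := by
  obtain ⟨k, _, _, _, Y, _, N, _, _, ρ, F', G, X, j, B, h1, h3, ⟨s⟩⟩ := Au.hasA_td4 (r := r) hq hF
  obtain ⟨Q, h4⟩ := cq_dd h1 s.pi1 (.inr (.inr (.inr (.inl h3)))) Nat.prime_two h2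
  exact sczT X s.toSc 2 (aim_bt h1.pos h2 (boxFin_of (H r) (DD X) j _ 2 _ True _ h4 zd_cen (.inl trivial)
    (h (DD X) j _ h4 ((iso_dd X).trans h3)) (tm_false _ _ _ _))) (S2110.result hq hF)
    (Cl.no_cov (by rw [Nat.card_congr Multiplicative.toAdd, Nat.card_zmod]; exact hr.out.not_dvd_one))

end Cfsg.Agent.BZ.RT.Td
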