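import Cfsg.Agent.BZ.RT.Z2G
import Cfsg.Agent.BZ.RT.FinK
import Cfsg.Agent.BZ.RT.Tag
import Cfsg.Agent.BZ.RT.Td

/-!
# BZ / RT : the exceptional types at the prime two (helper73)
-/

set_option autoImplicit false
set_option linter.unusedSectionVars false

namespace Cfsg.Agent.BZ.RT.Z2

open Cfsg Cfsg.Lie Matrix Cfsg.Agent.DL Cfsg.Agent.HZ.L Cfsg.Agent.OM Cfsg.Agent.KZ.DatX Cfsg.Agent.Nodes.RGDChev

/-- the terminal case of the prime two -/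
def Tm7 : Prop := KM.Tor.AllD fun D => ∀ j B, Lie.Cq D j B 2 → TmK D j B 2 1 (T7 (rts D))

variable {p : ℕ} [Fact p.Prime] {k : Type} [Field k] [CharP k p] [IsAlgClosed k] {Y : Type} [Group Y] {N : Type}
  [Fintype N] [DecidableEq N] {ρ : Y →* GL N k} {F : MulAut Y} {G : Subgroup Y}

theorem bs_iso (H : Bz) {D : Datum p ρ F G} {m : ℕ} {Ψ' : RS (Fin m)} (h : Iso (rts D) Ψ') {n : ℕ} (hn : m ≤ n) : Bs n (rts D) :=
  have := @Fintype.ofFinite _ (D.amb.finite_GF G)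
  bs_of_iso H h ((Fintype.card_fin m).trans_le hn)

/-- a centre of exponent a power of `l` -/
theorem n_one {X : Datum p ρ F G} {l i n : ℕ} (hl : l.Prime) (h : ∀ t ∈ KM.Tor.Zc X {a | X.Rt a}, t ^ l ^ i = 1)
    (h1 : n ∣ Nat.card (KM.Tor.Zc X {a | X.Rt a})) (h2 : ¬ l ∣ n) : n = 1 := by
  have := Fact.mk hl
  have : NeZero (l ^ i) := ⟨pow_ne_zero _ hl.ne_zero⟩
  have : Finite (rootsOfUnity (l ^ i) k).carrier := inferInstanceAs (Finite (rootsOfUnity (l ^ i) k))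
  have : Finite (KM.Tor.Zc X {a | X.Rt a}) := by
    refine Set.Finite.subset ((Set.Finite.pi' fun _ : X.R => (Set.toFinite (rootsOfUnity (l ^ i) k).carrier : (rootsOfUnity (l ^ i) k : Set kˣ).Finite)).image X.τ) fun t ht => ?_
    obtain ⟨c, rfl⟩ := (X.mem_T t).1 ht.1
    exact ⟨c, fun j => congrFun (X.τ_inj (((map_pow _ _ _).trans (h _ ht)).trans (map_one _).symm)) j, rfl⟩
  obtain ⟨m, hm⟩ := (IsPGroup.iff_card (p := l) (G := KM.Tor.Zc X {a | X.Rt a})).1 fun t => ⟨i, Subtype.ext (h _ t.2)⟩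
  exact Nat.eq_one_of_dvd_coprimes ((hl.coprime_iff_not_dvd.2 h2).pow_left m) (hm ▸ h1) dvd_rfl

theorem ty_low (H : Bz) {X : Datum p ρ F G} {e z n m : ℕ} {B : Mat (Reg.DD X).R} {Ψ : RS (Fin m)} (h : Tgd X e B Ψ z 1) (hm : m ≤ 6)
    (hp : 2 ≠ p) : RT.Ty X e 2 n :=
  have h1 := h.cq 2 Nat.prime_two hp (by decide)
  ⟨B, True, _, h1, .inl trivial, cmb6 H (bs_iso H h.iso hm) h1.sc B _ _, tmK_false⟩

theorem c42 (H : Bz) : Td.C42 := fun _ _ B h1 h2 => cmb6 H (bs_iso H h2 (by decide)) h1.sc B _ _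

theorem tyG2 (H : Bz) : BoxTy (TY hpG2) 2 := fun _ h _ hp _ _ _ g _ _ _ => ty_low H (tagG2 h g) (by decide) hp

theorem tyF4 (H : Bz) : BoxTy (TY hpF4) 2 := fun _ h _ hp _ _ _ g _ _ _ => ty_low H (tagF4 h g) (by decide) hp

theorem tyE6 (H : Bz) : BoxTy (TX hpE6) 2 := fun _ h _ hp _ _ _ g _ _ _ =>
  let ⟨_, _, _, h1, _⟩ := tagE6 h g
  ty_low H h1 le_rfl hp

theorem tyE7 (H : Bz) (h7 : Tm7) : BoxTy (TX hpE7) 2 := fun X h _ hp e _ n g k1 _ k2 => by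
  obtain ⟨B, _, _, h1, -⟩ := tagE7 h g
  obtain ⟨_, h2, h3, -⟩ := h
  obtain rfl := n_one (i := 1) Nat.prime_two (Tag.zc_pow RC.B.sl_E7 two_ne_zero TO.X.Cn.pm_E7 h2.ss h3) k1 k2
  have h4 := h1.cq 2 Nat.prime_two hp (by decide)
  exact ⟨B, True, _, h4, .inl trivial, cmb7 H (bs_iso H h1.iso le_rfl) h4.sc B _, h7 _ e B h4⟩

theorem tyE8 (H : Bz) (h7 : Tm7) : BoxTy (TX hpE8) 2 := fun X h _ hp e _ n g k1 _ k2 => by
  obtain ⟨B, _, _, h1, -⟩ := tagE8 h g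
  obtain ⟨_, h2, h3, -⟩ := h
  obtain rfl := n_one (i := 0) Nat.prime_two (Tag.zc_pow RC.B.sl_E8 one_ne_zero TO.X.Cn.pm_E8 h2.ss h3) k1 k2
  have h4 := h1.cq 2 Nat.prime_two hp (by decide)
  exact ⟨B, False, _, h4, .inr (h1.zl Nat.prime_two (by decide)), cmb8 H (bs_iso H h1.iso le_rfl) h4.sc B, h7 _ e B h4⟩

end Cfsg.Agent.BZ.RT.Z2
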