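import Cfsg.Agent.BZ.RT.Bt2
import Cfsg.Agent.BZ.RT.BxA
import Cfsg.Agent.BZ.RT.Z2T
import Cfsg.Agent.BZ.RT.Z2Z
import Cfsg.Agent.BZ.RT.TagC
import Cfsg.Agent.BZ.RT.Cc.Main
import Cfsg.Agent.BZ.RT.Cl2
import Cfsg.Agent.BZ.RT.C5D
import Cfsg.Agent.OM.On.ERed
import Cfsg.Agent.OM.On.E6.All
import Cfsg.Agent.OM.On.F7.All

/-!
# BZ / RT (S4853) : from the types to the targets (helper17)

`onBx`, `C5A`, `L3`, `E3`, `e3_of`, `bt2_of`.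
-/

set_option autoImplicit false
set_option linter.unusedSectionVars false
set_option maxHeartbeats 400000

namespace Cfsg.Agent.BZ.RT.B3

open Cfsg Cfsg.Lie Matrix Cfsg.Agent.DL Cfsg.Agent.HZ.L Cfsg.Agent.OM Cfsg.Agent.KZ.DatX Cfsg.Agent.Nodes.RGDChev

theorem onBx (p : ℕ) [Fact p.Prime] : On.Bx p := On.bx_of (fun D => On.boxE6 D) fun D => On.boxE7 D

theorem bx (p : ℕ) [Fact p.Prime] : Bx p := bx_of (onBx p)

/-- the primes for which the Levi subsystem has type `A` -/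
def C5A : Prop := KM.Tor.AllD fun D => C5.BoxC5 D

/-- the types `E₆`, `E₇`, `E₈` at the prime three, for the data with connected centre -/
def L3 : Prop := KM.Tor.AllD fun D => ∀ j B, Lie.Cq D j B 3 →
  (Iso (rts D) U.PE6 → ∃ T, Cmb D B 3 True T ∧ Tm D j B 3 T) ∧
  (Iso (rts D) (U.Ph chevE7 7 (ChevalleyStructure.CoxeterGeomTypes.cartanOf chevE7 7)) → ∃ T, Cmb D B 3 False T ∧ Tm D j B 3 T) ∧
  (Iso (rts D) U.PE8 → ∃ T, Cmb D B 3 False T ∧ Tm D j B 3 T)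

/-- the targets for these types -/
structure E3 : Prop where
  e6 : BoxBT (TX hpE6) 3
  e7 : BoxBT (TX hpE7) 3
  e8 : BoxBT (TX hpE8) 3

theorem btX {C : ChevalleyDatum} {n : ℕ} {M : CoxeterMatrix (Fin n)} {hp : IsType C n M} {l : ℕ} (h : BoxTy (TX hp) l) :
    BoxBT (TX hp) l := bt_of_ty onBx h fun _ ⟨e, h1, _⟩ => ⟨e, 1, h1⟩

theorem btY {C : ChevalleyDatum} {n : ℕ} {M : CoxeterMatrix (Fin n)} {hp : IsType C n M} {l : ℕ} (h : BoxTy (TY hp) l) :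
    BoxBT (TY hp) l := bt_of_ty onBx h fun _ ⟨e, h1, _⟩ => ⟨e, 1, h1⟩

theorem ty63 (h : L3) : BoxTy (TX hpE6) 3 := fun _ t hl hp e _ _ g _ _ _ =>
  let ⟨B, _, _, h1, _⟩ := tagE6 t g
  have h2 := h1.cq 3 hl hp (by decide)
  let ⟨T, h3, h4⟩ := (h _ e B h2).1 h1.iso
  ⟨B, True, T, h2, .inl trivial, h3, h4.tmK⟩

theorem ty73 (h : L3) : BoxTy (TX hpE7) 3 := fun _ t hl hp e _ _ g _ _ _ =>
  let ⟨B, _, _, h1, _⟩ := tagE7 t g
  have h2 := h1.cq 3 hl hp (by decide)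
  let ⟨T, h3, h4⟩ := (h _ e B h2).2.1 h1.iso
  ⟨B, False, T, h2, .inr (h1.zl hl (by decide)), h3, h4.tmK⟩

theorem ty83 (h : L3) : BoxTy (TX hpE8) 3 := fun _ t hl hp e _ _ g _ _ _ =>
  let ⟨B, _, _, h1, _⟩ := tagE8 t g
  have h2 := h1.cq 3 hl hp (by decide)
  let ⟨T, h3, h4⟩ := (h _ e B h2).2.2 h1.iso
  ⟨B, False, T, h2, .inr (h1.zl hl (by decide)), h3, h4.tmK⟩

theorem e3_of (h : L3) : E3 := ⟨btX (ty63 h), btX (ty73 h), btX (ty83 h)⟩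

/-- the classical types -/
theorem tyC (l : ℕ) : BoxTy TC l := fun X t hl hp e _ _ g _ _ _ => by
  obtain ⟨B, hB⟩ := g.stD
  have h1 := tagC t hB
  have h2 := TC.cq t hB h1 hl hp
  by_cases h : l = 2
  · subst h
    exact ⟨B, True, _, h2, .inl trivial, boxCl2 _ e B h2 h1, tmK_false⟩
  · refine ⟨B, False, _, h2, .inr fun x hx i hi => ?_, boxClO _ e B l h2 h1 h, tmK_false⟩
    exact (pow_eq_one_iff_of_coprime ((((Nat.coprime_primes hl Nat.prime_two).2 h).pow_right 2).pow_left i)).1 ⟨hi, zdC4 t hx⟩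

section Dat

variable {p : ℕ} [Fact p.Prime] {k : Type} [Field k] [CharP k p] [IsAlgClosed k] {Y : Type} [Group Y] {N : Type}
  [Fintype N] [DecidableEq N] {ρ : Y →* GL N k} {F : MulAut Y} {G : Subgroup Y}

theorem ty5 (h : C5A) {X : Datum p ρ F G} {e l n : ℕ} {B : Mat (Reg.DD X).R} (hq : Lie.Cq (Reg.DD X) e B l)
    (ht : C5.Ty5 (Reg.DD X) l) : RT.Ty X e l n := ⟨B, True, _, hq, .inl trivial, h _ B l _ _ ht, tmK_false⟩

end Dat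

theorem nd {l : ℕ} (hl : l.Prime) : ¬ l ∣ 1 := hl.not_dvd_one

/-- **the targets** -/
theorem bt2_of (h7 : Z2.Tm7) (h5 : C5A) (h3 : E3) : BT2 where
  cl l := bt_of_ty onBx (tyC l) fun _ ⟨e, _, _, _, _, _, _, _, _, h1, _⟩ => ⟨e, 1, h1⟩
  g2 := by
    rintro _ (rfl | rfl)
    · exact btY (Z2.tyG2 Z2.bz)
    · exact btY fun _ t hl hp _ _ _ g _ _ _ => ty5 h5 ((tagG2 t g).cq _ hl hp (nd hl)) (.inr ⟨rfl, .inl (tagG2 t g).iso⟩)
  f4 := by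
    rintro _ (rfl | rfl)
    · exact btY (Z2.tyF4 Z2.bz)
    · exact btY fun _ t hl hp _ _ _ g _ _ _ => ty5 h5 ((tagF4 t g).cq _ hl hp (nd hl)) (.inr ⟨rfl, .inr (.inl (tagF4 t g).iso)⟩)
  d4 := bt_of_ty onBx (fun _ t hl hp _ _ _ g _ _ _ =>
    let ⟨_, h1, _⟩ := tagD t g
    ty5 h5 (h1.cq _ hl hp (by decide)) (.inr ⟨rfl, .inr (.inr h1.iso)⟩)) fun _ ⟨e, h1, _⟩ => ⟨e, 2, h1⟩
  d2 r _ F _ _ _ h _ := Td.td2 bx (Z2.c42 Z2.bz) r F h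
  e6 := by
    rintro l (rfl | rfl | h)
    · exact btX (Z2.tyE6 Z2.bz)
    · exact h3.e6
    · exact btX fun _ t hl hp _ _ _ g _ _ _ =>
        let ⟨_, _, _, h1, _⟩ := tagE6 t g
        ty5 h5 (h1.cq _ hl hp (nd hl)) (.inl ⟨.inl h, .inl h1.iso⟩)
  e7 := by
    rintro l (rfl | rfl | h)
    · exact btX (Z2.tyE7 Z2.bz h7)
    · exact h3.e7
    · exact btX fun _ t hl hp _ _ _ g _ _ _ =>
        let ⟨_, _, _, h1, _⟩ := tagE7 t g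
        ty5 h5 (h1.cq _ hl hp (nd hl)) (.inl ⟨h, .inr (.inl h1.iso)⟩)
  e8 := by
    rintro l (rfl | rfl | h)
    · exact btX (Z2.tyE8 Z2.bz h7)
    · exact h3.e8
    · exact btX fun _ t hl hp _ _ _ g _ _ _ =>
        let ⟨_, _, _, h1, _⟩ := tagE8 t g
        ty5 h5 (h1.cq _ hl hp (nd hl)) (.inl ⟨h, .inr (.inr h1.iso)⟩)

end Cfsg.Agent.BZ.RT.B3
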