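import Cfsg.Agent.BZ.RT.RowsX
import Cfsg.Agent.BZ.N2.Defs
import Cfsg.Agent.BZ.L.Ex.Rows
import Cfsg.Agent.BZ.L.Ex.Ab

/-!
# BZ / RT (S4853) : the rows from the targets (helper73)

`st_of`, `XR`, `LT`, `rowsT_of`, `LT.all`.
-/

set_option autoImplicit false
set_option linter.unusedSectionVars false
set_option maxHeartbeats 400000

namespace Cfsg.Agent.BZ.RT

open Cfsg Cfsg.Lie Subgroup Cfsg.Agent.KM Cfsg.Agent.KZ.DatX Cfsg.Agent.Nodes.RGDChev Cfsg.Agent.BZ.Cl Cfsg.Agent.KM.Sc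

namespace Rw

theorem card_ne {r : ℕ} (F : Type) [Field F] [Fintype F] [CharP F r] (h : r ≠ 2) : Fintype.card F ≠ 2 := fun e => by
  obtain ⟨f, hp, hq⟩ := FiniteField.card F r
  exact h ((Nat.prime_dvd_prime_iff_eq hp Nat.prime_two).1 (e ▸ hq ▸ dvd_pow_self r f.pos.ne'))

theorem char_of {l : ℕ} (F : Type) [Field F] [Fintype F] (h : (l : F) ≠ 0) : ∃ (r e : ℕ) (_ : Fact r.Prime) (_ : CharP F r),
    l ≠ r ∧ 0 < e ∧ Fintype.card F = r ^ e ∧ ∀ s j : ℕ, s.Prime → Fintype.card F = s ^ j → r = s := by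
  obtain ⟨r, e, hr, _, h1, he, hF⟩ := Nt.exists_char F h
  exact ⟨r, e, hr, ‹_›, h1, he, hF, fun s j hs h2 => (Nat.prime_dvd_prime_iff_eq hr.out hs).1
    (hr.out.dvd_of_dvd_pow (h2 ▸ hF ▸ dvd_pow_self r he.ne'))⟩

theorem small_S6 {F : Type} [Field F] [Fintype F] (h : Fintype.card F = 2) {l : ℕ} (hl : l.Prime) (h2 : l ≠ 2) (h3 : l ≠ 3) :
    ¬ l ^ 3 ∣ Nat.card (PSp 3 F) := fun k2 => by
  have h4 := H356.KillPSp.card (F := F) (m := 3) (by norm_num)
  rw [h] at h4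
  have h5 : Nat.card (PSp 3 F) = 2 ^ 9 * (3 ^ 4 * (5 * 7)) := by
    simp only [Finset.prod_range_succ, Finset.prod_range_zero] at h4
    norm_num at h4 ⊢
    exact h4
  rw [h5] at k2
  have h7 : l ^ 3 ∣ 5 * 7 := ((Nat.coprime_primes hl Nat.prime_three).2 h3).pow 3 4 |>.dvd_of_dvd_mul_left
    ((((Nat.coprime_primes hl Nat.prime_two).2 h2).pow 3 9).dvd_of_dvd_mul_left k2)
  have h8 := Nat.le_of_dvd (by norm_num) h7
  have h9 : l < 4 := lt_of_pow_lt_pow_left₀ 3 (by norm_num) (by omega)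
  have := hl.two_le
  omega

theorem five {l : ℕ} [hl : Fact l.Prime] (h : ¬ (l = 2 ∨ l = 3)) : 5 ≤ l :=
  hl.out.five_le_of_ne_two_of_ne_three (fun e => h (.inl e)) fun e => h (.inr e)

end Rw

open Rw

/-- **the strong rows at the prime two** -/
theorem st_of (hc : BoxBT TC 2) (h7 : BoxBT (TX hpE7) 2) : N2.St where
  psp r F _ _ _ m h hm :=
    have : Fact r.Prime := ⟨CharP.char_is_prime F r⟩
    have h1 := card_ne F h
    (has_psp r F hm (fun _ => by have := Fintype.one_lt_card (α := F); omega) fun e => h1 e.2).rowB hc h.symm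
  oodd r F _ _ _ m h hm :=
    have : Fact r.Prime := ⟨CharP.char_is_prime F r⟩
    RowB.of_simple fun _ hS hn => (has_odd r F h hm hS hn).rowB hc h.symm
  oplus r F _ _ _ m h hm :=
    have : Fact r.Prime := ⟨CharP.char_is_prime F r⟩
    RowB.of_simple fun _ hS hn => (has_plus r F hm (fun e => card_ne F h e.2) hS hn).rowB hc h.symm
  ominus r F _ _ _ m a b h hm hab :=
    have : Fact r.Prime := ⟨CharP.char_is_prime F r⟩
    RowB.of_simple fun _ hS hn => (has_minus r F hm hab hS hn).rowB hc h.symm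
  e7 r F _ _ _ h :=
    have : Fact r.Prime := ⟨CharP.char_is_prime F r⟩
    let ⟨e, _, he⟩ := FiniteField.card F r
    (has_e7 e.pos he).rowB h7 h.symm

/-- the groups with an exceptional multiplier -/
structure XR : Prop where
  s62 : ∀ (F : Type) [Field F] [Fintype F], Fintype.card F = 2 → RowT 3 (PSp 3 F)
  o82 : ∀ (F : Type) [Field F] [Fintype F], Fintype.card F = 2 → RowT 3 (POmega F (quadFormPlus 4 F))
  g24 : ∀ (F : Type) [Field F] [Fintype F], Fintype.card F = 4 → RowT 3 ↥(chevG2.group F)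
  f42 : ∀ (F : Type) [Field F] [Fintype F], Fintype.card F = 2 → RowT 3 ↥(chevF4.group F)
  e62 : ∀ (F : Type) [Field F] [Fintype F], Fintype.card F = 4 → RowT 3 ↥(twistedE6 F 2)
  g23 : ∀ (F : Type) [Field F] [Fintype F], Fintype.card F = 3 → RowT 2 ↥(chevG2.group F)
  o73 : ∀ (F : Type) [Field F] [Fintype F], Fintype.card F = 3 → Cov XT 3 2 (POmega F (quadFormOdd 3 F))

/-- the rows -/
structure LT : Prop where
  psp : For RowT CPsp
  oodd : For RowT COdd
  oplus : For RowT CPlus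
  ominus : For RowT CMinus
  g2 : For RowT CG2
  f4 : For RowT CF4
  e6 : For RowT CE6
  e7 : For RowT CE7
  e8 : For RowT CE8
  te6 : For RowT CTe6
  td4 : For RowT CTd4

/-- **the rows from the targets** -/
theorem rowsT_of (b : BT) (x : XR) : LT where
  psp := by
    rintro l hl S _ _ _ - ⟨F, _, _, m, h1, hm, h2, ⟨i⟩⟩
    obtain ⟨r, e, hr, _, h3, he, hF, h4⟩ := char_of F h1
    refine RowT.of_equiv i ?_
    by_cases h : m = 3 ∧ Fintype.card F = 2
    · obtain ⟨rfl, h⟩ := h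
      by_cases h5 : l = 3
      · exact h5 ▸ x.s62 F h
      · exact row_small (X := XT) (small_S6 h hl.out (h4 2 1 Nat.prime_two h ▸ h3) h5)
    · exact ((has_psp r F hm h2 h).rowB (b.cl l) h3).rowT (S2092.result hF m hm (hF ▸ h2) (hF ▸ h)) (no_cov (not_dvd_sub hr.out he 2))
  oodd := by
    rintro l hl S _ _ _ hn ⟨F, _, _, m, h1, hm, h2, ⟨i⟩⟩
    obtain ⟨r, e, hr, _, h3, he, hF, h4⟩ := char_of F h1
    have h5 : r ≠ 2 := by
      rintro rfl
      rw [hF, Nat.odd_pow_iff he.ne'] at h2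
      exact absurd h2 (by decide)
    have h6 := (has_odd r F h5 hm i.symm.isSimpleGroup (BD.noncomm_of i hn)).rowB (b.cl l) h3
    refine RowT.of_equiv i ?_
    by_cases h : m = 3 ∧ Fintype.card F = 3
    · obtain ⟨rfl, h⟩ := h
      obtain rfl := h4 3 1 Nat.prime_three h
      by_cases h7 : l = 2
      · subst h7
        refine h6.rowT (S2095.result h) fun n k1 k2 K _ _ σ M B D H hn => x.o73 F h K σ M B D H ?_
        have k3 := k2.trans Group.exponent_dvd_nat_card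
        have k4 := H.zp
        rw [BD.card_cyc] at k3
        have k5 := Nat.le_of_dvd (by norm_num) k3
        have k6 := Nat.pos_of_dvd_of_pos k3 (by norm_num)
        omega
      · exact row_small (X := XT) (BD.small_O7 h hl.out h7 h3)
    · exact h6.rowT (S2094.result rfl h2 m hm h)
        (no_cov (by rw [BD.card_cyc, Nat.prime_dvd_prime_iff_eq hr.out Nat.prime_two]; exact h5))
  oplus := by
    rintro l hl S _ _ _ hn ⟨F, _, _, m, h1, hm, ⟨i⟩⟩
    obtain ⟨r, e, hr, _, h3, he, hF, h4⟩ := char_of F h1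
    refine RowT.of_equiv i ?_
    by_cases h : m = 4 ∧ Fintype.card F = 2
    · obtain ⟨rfl, h⟩ := h
      by_cases h5 : l = 3
      · exact h5 ▸ x.o82 F h
      · exact row_small (X := XT) (BD.small_O8 h hl.out (h4 2 1 Nat.prime_two h ▸ h3) h5)
    · obtain ⟨A, _, hA, k1, -⟩ := BD.mult_plus hr.out (hF ▸ dvd_pow_self r he.ne') hm h
      exact ((has_plus r F hm h i.symm.isSimpleGroup (BD.noncomm_of i hn)).rowB (b.cl l) h3).rowT hA (no_cov k1)
  ominus := by
    rintro l hl S _ _ _ hn ⟨F, _, _, m, a, c, h1, hm, hab, ⟨i⟩⟩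
    obtain ⟨r, e, hr, _, h3, he, hF, -⟩ := char_of F h1
    exact RowT.of_equiv i (((has_minus r F hm hab i.symm.isSimpleGroup (BD.noncomm_of i hn)).rowB (b.cl l) h3).rowT
      (S2099.result rfl m hm a c hab)
      (no_cov (by rw [BD.card_cyc]; exact BD.not_dvd_add hr.out (hF ▸ dvd_pow_self r he.ne') (by omega) 4)))
  g2 := by
    intro l hl S _ _ _ _ hC
    by_cases h : l = 2 ∨ l = 3
    swap
    · exact Ex.Rows.row_ab (X := XT) (Ex.boxAb.g2 l S hl.out (five h) hC)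
    obtain ⟨F, _, _, h1, h2, ⟨i⟩⟩ := hC
    obtain ⟨r, e, hr, _, h3, he, hF, h4⟩ := char_of F h1
    refine RowT.of_equiv i ?_
    obtain h5 | h5 | h5 : Fintype.card F = 3 ∨ Fintype.card F = 4 ∨ 5 ≤ Fintype.card F := by omega
    · exact h.resolve_right (h4 3 1 Nat.prime_three h5 ▸ h3) ▸ x.g23 F h5
    · exact h.resolve_left (h4 2 2 Nat.prime_two h5 ▸ h3) ▸ x.g24 F h5
    · exact ((has_g2 he hF h2).rowB (b.g2 l h) h3).rowT (S2100.result h5) (no_cov (by rw [BD.card_cyc]; exact hr.out.not_dvd_one))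
  f4 := by
    intro l hl S _ _ _ _ hC
    by_cases h : l = 2 ∨ l = 3
    swap
    · exact Ex.Rows.row_ab (X := XT) (Ex.boxAb.f4 l S hl.out (five h) hC)
    obtain ⟨F, _, _, h1, ⟨i⟩⟩ := hC
    obtain ⟨r, e, hr, _, h3, he, hF, h4⟩ := char_of F h1
    refine RowT.of_equiv i ?_
    have := Fintype.one_lt_card (α := F)
    obtain h5 | h5 : Fintype.card F = 2 ∨ 3 ≤ Fintype.card F := by omega
    · exact h.resolve_left (h4 2 1 Nat.prime_two h5 ▸ h3) ▸ x.f42 F h5
    · exact ((has_f4 he hF).rowB (b.f4 l h) h3).rowT (S2103.result h5) (no_cov (by rw [BD.card_cyc]; exact hr.out.not_dvd_one))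
  e6 := by
    rintro l hl S _ _ _ - ⟨F, _, _, h1, ⟨i⟩⟩
    obtain ⟨r, e, hr, _, h3, he, hF, -⟩ := char_of F h1
    refine RowT.of_equiv i ?_
    by_cases h : l = 2 ∨ l = 3 ∨ l = 5
    · exact ((has_e6 he hF).rowB (b.e6 l h) h3).rowT (S2105.result hF) (no_cov (not_dvd_sub hr.out he 3))
    · exact Ex.Rows.row_ab (X := XT) (Ex.boxAb.e6 l F hl.out (five (by omega)) h1 (by omega))
  e7 := by
    rintro l hl S _ _ _ - ⟨F, _, _, h1, ⟨i⟩⟩
    obtain ⟨r, e, hr, _, h3, he, hF, -⟩ := char_of F h1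
    refine RowT.of_equiv i ?_
    by_cases h : l = 2 ∨ l = 3 ∨ l = 5 ∨ l = 7
    · exact ((has_e7 he hF).rowB (b.e7 l h) h3).rowT (S2106.result hF) (no_cov (not_dvd_sub hr.out he 2))
    · exact Ex.Rows.row_ab (X := XT) (Ex.boxAb.e7 l F hl.out (five (by omega)) h1 (by omega))
  e8 := by
    rintro l hl S _ _ _ - ⟨F, _, _, h1, ⟨i⟩⟩
    obtain ⟨r, e, hr, _, h3, he, hF, -⟩ := char_of F h1
    refine RowT.of_equiv i ?_
    by_cases h : l = 2 ∨ l = 3 ∨ l = 5 ∨ l = 7
    · exact ((has_e8 he hF).rowB (b.e8 l h) h3).rowT S2107.result (no_cov (by rw [BD.card_cyc]; exact hr.out.not_dvd_one))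
    · have h5 := five (l := l) (by omega)
      have h6 : l ≠ 6 := fun e => absurd (e ▸ hl.out) (by norm_num)
      exact Ex.Rows.row_ab (X := XT) (Ex.boxAb.e8 l F hl.out (by omega) h1 (by omega))
  te6 := by
    rintro l hl S _ _ _ - ⟨F, _, _, q, h1, hq, hF, ⟨i⟩⟩
    refine RowT.of_equiv i ?_
    by_cases h : l = 2 ∨ l = 3 ∨ l = 5
    swap
    · exact Ex.Rows.row_ab (X := XT) (Ex.boxAb.te6 l F q hl.out (five (by omega)) h1 hq hF (by omega))
    by_cases h2 : q = 2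
    · subst h2
      by_cases h5 : l = 3
      · exact h5 ▸ x.e62 F hF
      · obtain ⟨r, e, hr, _, h3, -, -, h4⟩ := char_of F h1
        exact row_small (X := XT) (small_2E6 hF hl.out (h4 2 2 Nat.prime_two hF ▸ h3) h5)
    obtain ⟨r, e, hr, _, h3, he, rfl⟩ := Nt.exists_char' F h1 hq two_ne_zero hF
    exact ((has_te6 he hF).rowB (b.e6 l h) h3).rowT (S2108.result hq hF h2) (no_cov (not_dvd_add hr.out he 3))
  td4 := by
    intro l hl S _ _ _ _ hC
    by_cases h : l = 2 ∨ l = 3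
    swap
    · exact Ex.Rows.row_ab (X := XT) (Ex.boxAb.td4 l S hl.out (five h) hC)
    obtain ⟨F, _, _, q, h1, hq, hF, ⟨i⟩⟩ := hC
    obtain ⟨r, e, hr, _, h3, he, rfl⟩ := Nt.exists_char' F h1 hq three_ne_zero hF
    exact RowT.of_equiv i (((has_td4 he hF).rowB (b.d4 l h) h3).rowT (S2110.result hq hF)
      (no_cov (by rw [BD.card_cyc]; exact hr.out.not_dvd_one)))

theorem LT.all (h : LT) (alt : For RowT CAlt) (lie : For RowT CLie) (psl : For RowT CPsl) (psu : For RowT CPsu) (sz : For RowT CSz)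
    (ree : For RowT CRee) (tf4 : For RowT CTf4) (tits : For RowT CTits) (spor : For RowT CSpor) : All RowT :=
  ⟨alt, lie, psl, h.psp, psu, h.oodd, h.oplus, h.ominus, h.g2, h.f4, h.e6, h.e7, h.e8, h.te6, h.td4, sz, ree, tf4, tits, spor⟩

end Cfsg.Agent.BZ.RT
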