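import Cfsg.Agent.OM.On.Defs
import Cfsg.Agent.BZ.Lab.Defs

/-!
# BZ / RT (S4853) : two characters above a tight character, statements (helper42)

* `At.Cfg` : the roots of the label outside of the Levi subgroup are orthogonal to those inside, and there are such roots;
* `At.Cls` : a set of rational characters which is closed under sharing a label;
* `BoxAtom` : two members of multiplicity `± 1` whose degrees differ by a power of `q`;  `BoxCls` : stable characters.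
-/

set_option autoImplicit false
set_option linter.unusedSectionVars false

namespace Cfsg.Agent.BZ.RT

open Cfsg Cfsg.Agent.DL Cfsg.Agent.DL.PP Matrix Cfsg.Agent.KZ.Lie Cfsg.Agent.HZ.Gen Cfsg.Agent.HZ.L Cfsg.Agent.OM.On
open Cfsg.Agent.HZ.L.X (Zc)

variable {p : ℕ} [Fact p.Prime] {k : Type} [Field k] [CharP k p] [IsAlgClosed k] {Y : Type} [Group Y] {N : Type}
  [Fintype N] [DecidableEq N] {ρ : Y →* GL N k} {F : MulAut Y} {G : Subgroup Y} {D : Datum p ρ F G}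

namespace At

/-- the configuration -/
structure Cfg (s : Sb D) (c : Lbl D) : Prop where
  orth : ∀ a ∈ Zc (rts D) c, a ∉ rts s.E → ∀ b ∈ Zc (rts s.E) c, b.1 ⬝ᵥ a.2 = 0
  ne : ∃ a ∈ Zc (rts D) c, a ∉ rts s.E

/-- rational characters, closed under sharing a label -/
structure Cls [Fintype ↥(GF F G)] (f : Fr D) (r : ℕ) (Γ : Set (IrrCharacter ↥(GF F G))) : Prop where
  rat : ∀ ξ ∈ Γ, RatR r (ξ : GF F G → ℂ)
  cl : ∀ ξ ∈ Γ, ∀ (ξ' : IrrCharacter ↥(GF F G)) w w' c, Has f ξ w c → Has f ξ' w' c → ξ' ∈ Γ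

end At

variable (D) in
/-- **the atom** -/
def BoxAtom : Prop :=
  ∀ [Fintype ↥(GF F G)] (j : ℕ) (B : Mat D.R) (f : Fr D) (r : ℕ) (P : Subgroup ↥(GF F G)) (s : Sb D) [Fintype ↥(GF F s.K)]
    (lam : Vec D.R) (Γ : Set (IrrCharacter ↥(GF F G))) (ψ : IrrCharacter ↥(GF F s.K)) (u : s.E.W) (c : Lbl D),
    St D j B → Cz p (rts D) → Hu1 D r → s.For r P → rts s.E = lev (rts D) lam → On1 s.E → At.Cls f r Γ →
    Lab.Tight r s.ι P (ψ : GF F s.K → ℂ) → (∃ ξ ∈ Γ, classInner (s.rs r P ξ) ψ ≠ 0) → Has (s.fr f) ψ u c → At.Cfg s c →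
    ∃ ξ ∈ Γ, ∃ ξ' ∈ Γ, ∃ (a a' : ℤ) (J : ℕ), a ^ 2 = 1 ∧ a' ^ 2 = 1 ∧ classInner (s.rs r P ξ) ψ = a ∧
      classInner (s.rs r P ξ') ψ = a' ∧ 0 < J ∧ (p ^ j) ^ J ≤ Nat.card ↥(GF F G) ^ 2 ∧
      (ξ' : GF F G → ℂ) 1 ^ 4 = ((p ^ j : ℕ) : ℂ) ^ J * (ξ : GF F G → ℂ) 1 ^ 4

variable (D) in
/-- the stable characters at a large level -/
def BoxCls : Prop :=
  ∀ [Fintype ↥(GF F G)] (f : Fr D) (l r m n N' : ℕ) (hm : LV.Lift.Lp f m) [Fintype ↥(GF (F ^ m) G)] (f' : Fr (D.pow hm.pos))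
    (α : MulAut ↥(GF (F ^ m) G)), (∀ g, (α g : Y) = F g) → Lab.Fr l r m n N' ↥(GF (F ^ m) G) α →
    At.Cls f' r {ξ | Lab.St α (ξ : GF (F ^ m) G → ℂ)}

end Cfsg.Agent.BZ.RT
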