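import Cfsg.Agent.BZ.RT.Atom

/-!
# BZ / RT (S4853) : eigen-parts of mass one, without a configuration (helper42)

* `exists_dec` : the decomposition of the induced function;  `oneG` : an eigen-part which is `y_ψ` on the top stratum;
* `pairG` : two such parts which differ by the sign character.
-/

set_option autoImplicit false
set_option linter.unusedSectionVars false
set_option maxHeartbeats 400000

namespace Cfsg.Agent.BZ.RT.At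

open Cfsg Cfsg.Agent.DL Cfsg.Agent.DL.PP Matrix Cfsg.Agent.KZ.Lie Cfsg.Agent.HZ.Gen Cfsg.Agent.HZ.L Cfsg.Agent.OM.On
  Cfsg.Agent.Characters.Core Subgroup Cfsg.Agent.DL.Uni Cfsg.Agent.OddOrderCharacters.VChar
open Cfsg.Agent.HZ.L.X (Zc Qv)
open Cfsg.Agent.OM.Cas (Rf cas)

/-- the eigen-decomposition is unique -/
theorem uniq {ι V : Type*} [AddCommGroup V] [Module ℂ V] (T : Module.End ℂ V) (S : Finset ι) (κ : ι → ℂ) (y : ι → V)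
    (h : ∀ i ∈ S, T (y i) = κ i • y i) (K : Finset ℂ) (z : ℂ → V) (h' : ∀ k ∈ K, T (z k) = k • z k)
    (e : ∑ i ∈ S, y i = ∑ k ∈ K, z k) {k : ℂ} (hk : k ∈ K) : ∑ i ∈ S with κ i = k, y i = z k := by
  have h1 := indep T (S.disjSum K) (Sum.elim κ id) (Sum.elim y fun k => -z k) (by
    rintro (i | i) hi
    · exact h i (Finset.inl_mem_disjSum.1 hi)
    · exact (map_neg T _).trans ((congrArg _ (h' i (Finset.inr_mem_disjSum.1 hi))).trans (smul_neg _ _).symm)) (by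
    rw [Finset.sum_disjSum]
    simp only [Sum.elim_inl, Sum.elim_inr, Finset.sum_neg_distrib, e, add_neg_cancel]) k
  rw [Finset.sum_filter, Finset.sum_disjSum] at h1
  have h2 : (∑ i ∈ S, if κ i = k then y i else 0) + (∑ i ∈ K, if i = k then -z i else 0) = 0 := h1
  rw [Finset.sum_ite_eq', if_pos hk, add_neg_eq_zero] at h2
  rw [Finset.sum_filter, h2]

/-- the quotient of the degrees, symmetric form -/
theorem ratio' {g h : ℂ} (hg : g ^ 4 ≠ h ^ 4) {Q i j : ℕ} (hQ : Q ≠ 0) {a b d d' u u' : ℂ} (h1 : d ^ 2 = a ^ 2 * g ^ 2)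
    (h2 : d' ^ 2 = a ^ 2 * h ^ 2) (h3 : u ^ 2 = b ^ 2 * h ^ 2) (h4 : u' ^ 2 = b ^ 2 * g ^ 2) (h5 : u ^ 2 = (Q : ℂ) ^ i * d ^ 2)
    (h6 : u' ^ 2 = (Q : ℂ) ^ j * d' ^ 2) (h0 : d ≠ 0) :
    ∃ J, 0 < J ∧ (J ≤ i ∧ d' ^ 4 = (Q : ℂ) ^ J * d ^ 4 ∨ J ≤ j ∧ d ^ 4 = (Q : ℂ) ^ J * d' ^ 4) := by
  have h7 : a ^ 2 ≠ 0 := fun e => h0 (pow_eq_zero_iff two_ne_zero |>.1 (by rw [h1, e, zero_mul]))
  have h8 : (Q : ℂ) ^ j * h ^ 4 = (Q : ℂ) ^ i * g ^ 4 := mul_left_cancel₀ h7 (by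
    linear_combination (-(Q : ℂ) ^ j * h ^ 2) * h2 - h ^ 2 * h6 + h ^ 2 * h4 - g ^ 2 * h3 + g ^ 2 * h5 + (Q : ℂ) ^ i * g ^ 2 * h1)
  have h9 : ∀ n, (Q : ℂ) ^ n ≠ 0 := fun n => pow_ne_zero n (Nat.cast_ne_zero.2 hQ)
  rcases lt_trichotomy j i with e | rfl | e
  · obtain ⟨J, rfl⟩ := Nat.exists_eq_add_of_lt e
    rw [add_assoc, pow_add, mul_assoc] at h8
    refine ⟨J + 1, J.succ_pos, .inl ⟨by omega, ?_⟩⟩
    linear_combination (d' ^ 2 + a ^ 2 * h ^ 2) * h2 - (Q : ℂ) ^ (J + 1) * (d ^ 2 + a ^ 2 * g ^ 2) * h1 +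
      a ^ 4 * mul_left_cancel₀ (h9 j) h8
  · exact absurd (mul_left_cancel₀ (h9 j) h8).symm hg
  · obtain ⟨J, rfl⟩ := Nat.exists_eq_add_of_lt e
    rw [add_assoc, pow_add, mul_assoc] at h8
    refine ⟨J + 1, J.succ_pos, .inr ⟨by omega, ?_⟩⟩
    linear_combination (d ^ 2 + a ^ 2 * g ^ 2) * h1 - (Q : ℂ) ^ (J + 1) * (d' ^ 2 + a ^ 2 * h ^ 2) * h2 -
      a ^ 4 * mul_left_cancel₀ (h9 i) h8

variable {p : ℕ} [Fact p.Prime] {k : Type} [Field k] [CharP k p] [IsAlgClosed k] {Y : Type} [Group Y] {N : Type}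
  [Fintype N] [DecidableEq N] {ρ : Y →* GL N k} {F : MulAut Y} {G : Subgroup Y} {D : Datum p ρ F G}
  {j : ℕ} {B : Mat D.R} {c : Lbl D} {s : Sb D} {u : s.E.W} [Fintype D.W] [Fintype ↥(GF F G)] {f : Fr D} [Fintype ↥(GF F s.K)]
  [Fintype s.E.W] {r : ℕ} [Fact r.Prime] {P : Subgroup ↥(GF F G)} {ψ : IrrCharacter ↥(GF F s.K)}
  {Γ : Set (IrrCharacter ↥(GF F G))}
  (hq : D.QS) (hu : Hu1 D r) (hs : s.For r P) (h1 : On1 s.E) (hΓ : Cls f r Γ)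
  (hT : Lab.Tight r s.ι P (ψ : GF F s.K → ℂ)) (h0 : ∃ ξ ∈ Γ, classInner (s.rs r P ξ.1) ψ ≠ 0) (hc : Has (s.fr f) ψ u c)

include hq hu hs h1 hΓ hT h0 hc in
/-- **all the data** : the members `S` over `ψ`, their multiplicities `m`, eigenvalues `κ / 2`; `Yb` is the sum over the orbit -/
theorem exists_all : ∃ (S : Finset (IrrCharacter ↥(GF F G))) (m κ : IrrCharacter ↥(GF F G) → ℤ) (Yb : s.E.W → ℂ) (n : ℕ), 0 < n ∧
    ∑ u, Yb u * RW (s.fr f) u c 1 = n * ∑ u, classInner ψ.1 (RW (s.fr f) u c) * RW (s.fr f) u c 1 ∧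
    ∑ u, classInner ψ.1 (RW (s.fr f) u c) * RW (s.fr f) u c 1 ≠ 0 ∧
    (∀ ξ ∈ S, ξ ∈ Γ ∧ m ξ ≠ 0 ∧ classInner (s.rs r P ξ.1) ψ = m ξ ∧ ∀ u, classInner ξ.1 (RW f (s.sw u * s.w) c) = m ξ * Yb u) ∧
    (∀ ξ c', cs (fs D (Zc (rts D) c')) (fun w => classInner ξ.1 (RW f w c')) = ((κ ξ : ℂ) / 2) • fun w => classInner ξ.1 (RW f w c')) ∧
    (∀ w, ∑ ξ ∈ S, m ξ * classInner ξ.1 (RW f w c) = classInner (s.rs r P (RW f w c)) ψ) ∧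
    ∀ k, ∀ ξ ∈ S, S.filter (fun ξ => (κ ξ : ℂ) / 2 = k) = {ξ} → ∀ w c', Has f ξ.1 w c' → Cj (rts D) c c' := by
  classical
  have := finite_irr (G := GF F G)
  have := Fintype.ofFinite (IrrCharacter ↥(GF F G))
  obtain ⟨ξ₀, k1, k2⟩ := h0
  obtain ⟨u₁, k4⟩ := has_top hu hs h1 hc hT (hΓ.rat _ k1) k2
  obtain ⟨T, k5, k6, k7⟩ := top hu hs f hT
  obtain ⟨n, k8, k9⟩ := del h1 hc k5 k6
  choose κ hκ using fun ξ : IrrCharacter ↥(GF F G) => cas1 f hq ξ.2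
  choose! m k15 k16 using k7
  have k10 := val_red (s.fr f) fun w c' => h1 _ _ ψ.2 _ _ _ _ hc
  set S := Finset.univ.filter fun ξ : IrrCharacter ↥(GF F G) => ξ ∈ Γ ∧ classInner (s.rs r P ξ.1) ψ ≠ 0 with hS
  have k17 : ∀ ξ ∈ S, ξ ∈ Γ ∧ RatR r ξ.1 ∧ classInner (s.rs r P ξ.1) ψ ≠ 0 := fun ξ hξ =>
    ⟨(Finset.mem_filter.1 hξ).2.1, hΓ.rat ξ (Finset.mem_filter.1 hξ).2.1, (Finset.mem_filter.1 hξ).2.2⟩
  have k11 : ∀ (ξ : IrrCharacter ↥(GF F G)) c', cs (fs D (Zc (rts D) c')) (fun w => classInner ξ.1 (RW f w c')) =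
      ((κ ξ : ℂ) / 2) • fun w => classInner ξ.1 (RW f w c') := fun ξ c' => funext fun w => (cas_cs _ w).symm.trans (hκ ξ c' w)
  have k12 : ∀ w c', (∀ ξ : IrrCharacter ↥(GF F G), Has f ξ.1 w c' → ξ ∈ Γ) →
      ∑ ξ ∈ S, m ξ * classInner ξ.1 (RW f w c') = classInner (s.rs r P (RW f w c')) ψ := fun w c' e => by
    rw [← sum_eq e]
    exact Finset.sum_congr rfl fun ξ hξ => by rw [k15 ξ (k17 ξ hξ).2.1 (k17 ξ hξ).2.2]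
  have k13 : ∀ ξ ∈ S, m ξ ≠ 0 := fun ξ hξ e => (k17 ξ hξ).2.2 (by rw [k15 ξ (k17 ξ hξ).2.1 (k17 ξ hξ).2.2, e, Int.cast_zero])
  refine ⟨S, m, κ, _, n, k8, k10 ▸ k9, k10 ▸ mul_ne_zero (Nat.cast_ne_zero.2 Nat.card_pos.ne') (irr_one_ne ψ.2), fun ξ hξ =>
    ⟨(k17 ξ hξ).1, k13 ξ hξ, k15 ξ (k17 ξ hξ).2.1 (k17 ξ hξ).2.2, fun u => k16 ξ (k17 ξ hξ).2.1 (k17 ξ hξ).2.2 u c⟩, k11,
    fun w => k12 w c fun ξ => hΓ.cl ξ₀ k1 ξ _ _ _ k4, fun k ξ hξ k18 w c' k22 => by_contra fun k23 => ?_⟩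
  have k24 := congrFun (indep _ S (fun ξ => (κ ξ : ℂ) / 2) (fun ξ => (m ξ : ℂ) • fun w => classInner ξ.1 (RW f w c'))
    (fun ξ _ => by rw [map_smul, k11, smul_comm]) (funext fun w' => by
      rw [Finset.sum_apply, Pi.zero_apply, ← ind0 hu hs h1 hc (ord_c' hu (k17 ξ hξ).2.1 k22) k23 w']
      exact k12 w' c' fun ξ' => hΓ.cl ξ (k17 ξ hξ).1 ξ' _ _ _ k22) k) w
  rw [k18, Finset.sum_singleton] at k24
  exact mul_ne_zero (Int.cast_ne_zero.2 (k13 ξ hξ)) k22 k24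

include hq hu hs h1 hΓ hT h0 hc in
/-- **the eigen-decomposition of the induced function** -/
theorem exists_dec : ∃ (K : Finset ℂ) (z : ℂ → D.W → ℂ) (μ : ℂ → ℕ) (Yb : s.E.W → ℂ) (n : ℕ), 0 < n ∧
    ∑ u, Yb u * RW (s.fr f) u c 1 = n * ∑ u, classInner ψ.1 (RW (s.fr f) u c) * RW (s.fr f) u c 1 ∧
    ∑ u, classInner ψ.1 (RW (s.fr f) u c) * RW (s.fr f) u c 1 ≠ 0 ∧
    (∀ k ∈ K, cs (fs D (Zc (rts D) c)) (z k) = k • z k ∧ 0 < μ k ∧ (∃ i : ℤ, k = i / 2) ∧ ∀ u, z k (s.sw u * s.w) = μ k * Yb u) ∧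
    (∀ k v w w', Tc D v w w' → Rel D v c c → z k w = z k w') ∧ (∀ k w, ¬ Fx D w c → z k w = 0) ∧ (∀ k w, ∃ a : ℤ, z k w = a) ∧
    ∀ w, ∑ k ∈ K, z k w = classInner (s.rs r P (RW f w c)) ψ := by
  obtain ⟨S, m, κ, Yb, n, k1, k2, k3, k4, k5, k6, -⟩ := exists_all hq hu hs h1 hΓ hT h0 hc
  refine ⟨S.image fun ξ => (κ ξ : ℂ) / 2, fun k => ∑ ξ ∈ S with (κ ξ : ℂ) / 2 = k, (m ξ : ℂ) • fun w => classInner ξ.1 (RW f w c),
    fun k => ∑ ξ ∈ S with (κ ξ : ℂ) / 2 = k, (m ξ).natAbs ^ 2, Yb, n, k1, k2, k3, fun k hk => ⟨?_, ?_, ?_, fun u => ?_⟩,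
    fun k v w w' e e' => ?_, fun k w e => ?_, fun k w => ?_, fun w => ?_⟩
  · rw [map_sum, Finset.smul_sum]
    exact Finset.sum_congr rfl fun ξ hξ => by rw [map_smul, k5, smul_comm, (Finset.mem_filter.1 hξ).2]
  · obtain ⟨ξ, hξ, e⟩ := Finset.mem_image.1 hk
    exact Finset.sum_pos (fun ξ hξ => pow_pos (Int.natAbs_pos.2 (k4 ξ (Finset.mem_filter.1 hξ).1).2.1) 2) ⟨ξ, Finset.mem_filter.2 ⟨hξ, e⟩⟩
  · obtain ⟨ξ, -, e⟩ := Finset.mem_image.1 hk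
    exact ⟨_, e.symm⟩
  · beta_reduce
    rw [Finset.sum_apply, Nat.cast_sum, Finset.sum_mul]
    refine Finset.sum_congr rfl fun ξ hξ => ?_
    rw [Pi.smul_apply, (k4 ξ (Finset.mem_filter.1 hξ).1).2.2.2, smul_eq_mul, ← mul_assoc, ← Int.cast_natCast, Nat.cast_pow,
      Int.natAbs_sq, Int.cast_pow, sq]
  · simp only [Finset.sum_apply, Pi.smul_apply, RW_conj f e e']
  · simp only [Finset.sum_apply, Pi.smul_apply, RW_zero f e, classInner_zero_right, smul_zero, Finset.sum_const_zero]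
  · choose a ha using fun ξ : IrrCharacter ↥(GF F G) => LV.Lift.exists_int ξ.2 (RW_gen f w c)
    refine ⟨∑ ξ ∈ S with (κ ξ : ℂ) / 2 = k, m ξ * a ξ, ?_⟩
    simp only [Finset.sum_apply, Pi.smul_apply, fun ξ => (ha ξ).1, smul_eq_mul, Int.cast_sum, Int.cast_mul]
  · rw [← k6, ← Finset.sum_apply, Finset.sum_fiberwise_of_maps_to fun ξ hξ => Finset.mem_image_of_mem _ hξ, Finset.sum_apply]
    rfl

include hq hu hs h1 hΓ hT h0 hc in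
/-- **an eigen-part of mass one** -/
theorem oneG {K : Finset ℂ} {z : ℂ → D.W → ℂ} (h2 : ∀ k ∈ K, cs (fs D (Zc (rts D) c)) (z k) = k • z k)
    (h3 : ∀ w, ∑ k ∈ K, z k w = classInner (s.rs r P (RW f w c)) ψ) {k₀ : ℂ} (h4 : k₀ ∈ K)
    (h5 : ∀ u', Fx s.E u' c → z k₀ (s.sw u' * s.w) = classInner ψ.1 (RW (s.fr f) u' c)) :
    ∃ ξ ∈ Γ, ∃ a : ℤ, a ^ 2 = 1 ∧ classInner (s.rs r P ξ.1) ψ = a ∧ (∀ w c', Has f ξ.1 w c' → Cj (rts D) c c') ∧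
      ∀ w, a * classInner ξ.1 (RW f w c) = z k₀ w := by
  obtain ⟨S, m, κ, Yb, n, k1, k2, k3, k4, k5, k6, k7⟩ := exists_all hq hu hs h1 hΓ hT h0 hc
  have k8 := uniq _ S (fun ξ => (κ ξ : ℂ) / 2) (fun ξ => (m ξ : ℂ) • fun w => classInner ξ.1 (RW f w c))
    (fun ξ _ => by rw [map_smul, k5, smul_comm]) K z h2 (funext fun w => by
      rw [Finset.sum_apply, Finset.sum_apply, h3, ← k6]
      rfl) h4
  obtain ⟨ξ, k18, k19⟩ := single (S := S.filter fun ξ => (κ ξ : ℂ) / 2 = k₀) (m := m) (n := n)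
    (fun ξ hξ => (k4 ξ (Finset.mem_filter.1 hξ).1).2.1) (by
    refine Int.cast_injective (α := ℂ) (mul_right_cancel₀ k3 ?_)
    rw [Int.cast_mul, Int.cast_natCast, mul_assoc, ← k2, Int.cast_one, one_mul, Finset.mul_sum]
    refine Finset.sum_congr rfl fun u' _ => ?_
    by_cases k18 : Fx s.E u' c
    swap
    · rw [RW_zero _ k18, Pi.zero_apply, mul_zero, mul_zero, mul_zero]
    rw [← h5 u' k18, ← k8, Finset.sum_apply, ← mul_assoc, Int.cast_sum, Finset.sum_mul]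
    refine congrArg (· * _) (Finset.sum_congr rfl fun ξ hξ => ?_)
    rw [Pi.smul_apply, (k4 ξ (Finset.mem_filter.1 hξ).1).2.2.2, Int.cast_pow, sq, mul_assoc, smul_eq_mul])
  have k20 := (Finset.mem_filter.1 (k18 ▸ Finset.mem_singleton_self ξ)).1
  refine ⟨ξ, (k4 ξ k20).1, m ξ, k19, (k4 ξ k20).2.2.1, k7 k₀ ξ k20 k18, fun w => ?_⟩
  rw [← k8, k18, Finset.sum_singleton]
  rfl

include hq in
/-- the degree and the sum over the unipotent elements -/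
theorem degG {ξ : GF F G → ℂ} {a : ℤ} {z : D.W → ℂ} (h2 : a ^ 2 = 1) (h3 : ∀ w c', Has f ξ w c' → Cj (rts D) c c')
    (h4 : ∀ w, a * classInner ξ (RW f w c) = z w) :
    ξ 1 ^ 2 = ((Nat.card (LV.Lab.St D c) : ℂ)⁻¹ * pc' p (GF F G)) ^ 2 * (∑ w, sg D w * z w * (ordT D w : ℂ)⁻¹) ^ 2 ∧
      OM.Cas.usum (GF F G) {v | IsUni p v} ξ ^ 2 =
        ((Nat.card (LV.Lab.St D c) : ℂ)⁻¹ * Nat.card (GF F G)) ^ 2 * (∑ w, z w * (ordT D w : ℂ)⁻¹) ^ 2 := by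
  have k6 : (Nat.card (LV.Lab.St D c) : ℂ) ≠ 0 := Nat.cast_ne_zero.2 Nat.card_pos.ne'
  have k10 : (a : ℂ) ^ 2 = 1 := by exact_mod_cast h2
  have k11 : ∀ z z' : ℂ, a * z = z' → z ^ 2 = z' ^ 2 := fun z z' e => by rw [← e, mul_pow, k10, one_mul]
  rw [← mul_pow, ← mul_pow]
  refine ⟨k11 _ _ ?_, k11 _ _ ?_⟩
  · rw [mul_assoc, eq_inv_mul_iff_mul_eq₀ k6, mul_left_comm, val_red f h3, Finset.mul_sum, Finset.mul_sum]
    refine Finset.sum_congr rfl fun w _ => ?_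
    by_cases e : Fx D w c
    · rw [← mul_assoc, h4, (eq_mul_inv_iff_mul_eq₀ (Nat.cast_ne_zero.2 (ordT_ne w))).2 (RW_deg f hq e)]
      ring
    · rw [← h4, RW_zero f e, classInner_zero_right, zero_mul, mul_zero, mul_zero, zero_mul, mul_zero]
  · rw [mul_assoc, eq_inv_mul_iff_mul_eq₀ k6, mul_left_comm, gam_red f h3, mul_left_comm, Finset.mul_sum]
    exact congrArg _ (Finset.sum_congr rfl fun w _ => by rw [mul_left_comm, h4, mul_comm])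

include hu hs h1 hΓ hT h0 hc in
/-- **two eigen-parts of mass one which differ by the sign character** -/
theorem pairG (h : St D j B) {K : Finset ℂ} {z : ℂ → D.W → ℂ} (h2 : ∀ k ∈ K, cs (fs D (Zc (rts D) c)) (z k) = k • z k)
    (h3 : ∀ w, ∑ k ∈ K, z k w = classInner (s.rs r P (RW f w c)) ψ) {k₁ k₂ : ℂ} (h4 : k₁ ∈ K) (h4' : k₂ ∈ K)
    (h5 : ∀ u', Fx s.E u' c → z k₁ (s.sw u' * s.w) = classInner ψ.1 (RW (s.fr f) u' c))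
    (h5' : ∀ u', Fx s.E u' c → z k₂ (s.sw u' * s.w) = classInner ψ.1 (RW (s.fr f) u' c)) {ε : ℂ} (h6 : ε * ε = 1)
    (h7 : ∀ w, z k₂ w = ε * sg D w * z k₁ w)
    (h8 : (∑ w, sg D w * z k₁ w * (ordT D w : ℂ)⁻¹) ^ 4 ≠ (∑ w, z k₁ w * (ordT D w : ℂ)⁻¹) ^ 4) :
    ∃ ξ ∈ Γ, ∃ ξ' ∈ Γ, ∃ (a a' : ℤ) (J : ℕ), a ^ 2 = 1 ∧ a' ^ 2 = 1 ∧ classInner (s.rs r P ξ.1) ψ = a ∧
      classInner (s.rs r P ξ'.1) ψ = a' ∧ 0 < J ∧ (p ^ j) ^ J ≤ Nat.card ↥(GF F G) ^ 2 ∧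
      ξ'.1 1 ^ 4 = ((p ^ j : ℕ) : ℂ) ^ J * ξ.1 1 ^ 4 := by
  obtain ⟨ξ, k2, a, k3, k4, k5, k6⟩ := oneG h.qs hu hs h1 hΓ hT h0 hc h2 h3 h4 h5
  obtain ⟨ξ', k2', a', k3', k4', k5', k6'⟩ := oneG h.qs hu hs h1 hΓ hT h0 hc h2 h3 h4' h5'
  obtain ⟨k7, k8⟩ := degG h.qs k3 k5 k6
  obtain ⟨k7', k8'⟩ := degG h.qs k3' k5' k6'
  obtain ⟨i, k9⟩ := eigT h ξ.2
  obtain ⟨i', k9'⟩ := eigT h ξ'.2
  have k10 : ∀ x : ℂ, (ε * x) ^ 2 = x ^ 2 := fun x => by rw [mul_pow, sq, h6, one_mul]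
  rw [Finset.sum_congr rfl fun w _ => show sg D w * z k₂ w * (ordT D w : ℂ)⁻¹ = ε * (z k₁ w * (ordT D w : ℂ)⁻¹) by
    rw [h7]; linear_combination ε * z k₁ w * (ordT D w : ℂ)⁻¹ * sg_mul_self D w, ← Finset.mul_sum, k10] at k7'
  rw [Finset.sum_congr rfl fun w _ => show z k₂ w * (ordT D w : ℂ)⁻¹ = ε * (sg D w * z k₁ w * (ordT D w : ℂ)⁻¹) by
    rw [h7]; ring, ← Finset.mul_sum, k10] at k8'
  have k11 := pow_pos (Fact.out : p.Prime).pos j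
  obtain ⟨J, k13, ⟨k14, k15⟩ | ⟨k14, k15⟩⟩ := ratio' h8 k11.ne' k7 k7' k8 k8' k9 k9' (irr_one_ne ξ.2)
  · exact ⟨ξ, k2, ξ', k2', a, a', J, k3, k3', k4, k4', k13, (Nat.pow_le_pow_right k11 k14).trans (le_sq ξ.2 k9), k15⟩
  · exact ⟨ξ', k2', ξ, k2, a', a, J, k3', k3, k4', k4, k13, (Nat.pow_le_pow_right k11 k14).trans (le_sq ξ'.2 k9'), k15⟩

end Cfsg.Agent.BZ.RT.At
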