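import Cfsg.Agent.BZ.RT.AtP
import Cfsg.Agent.BZ.RT.AtD
import Cfsg.Agent.OM.On.Eng
import Cfsg.Agent.OM.Cas.Eig
import Cfsg.Agent.HZ.L.X.Adm

/-!
# BZ / RT (S4853) : the atom, Weyl groups and multiplicities (helper42)

* `red`, `val_red`, `gam_red` : the reduction to one label;  `Rs`, `Hs` : reflections and Weyl groups of sets of roots;
* `yb` : the multiplicities of a character of a sub-datum as a function on `W`;  `ind_eq` : the induced function.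
-/

set_option autoImplicit false
set_option linter.unusedSectionVars false

namespace Cfsg.Agent.BZ.RT.At

open Cfsg Cfsg.Agent.DL Cfsg.Agent.DL.PP Matrix Cfsg.Agent.KZ.Lie Cfsg.Agent.HZ.Gen Cfsg.Agent.HZ.L Cfsg.Agent.OM.On
  Cfsg.Agent.Characters.Core Subgroup Cfsg.Agent.DL.Uni
open Cfsg.Agent.HZ.L.X (Zc Qv)
open Cfsg.Agent.LV.Lab (ac rel_ac ac_eq sum_orb' tc_self tc_self')

section Comb

variable {R : Type} [Fintype R] [DecidableEq R] {Ψ Ψ' : RS R} {A A' B : Mat R}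

theorem kill (h : ∀ a ∈ Ψ, ∀ b ∈ Ψ', a.1 ⬝ᵥ b.2 = 0) (hA : A ∈ WW Ψ) (hA' : A' ∈ WW Ψ') (hB : Nm B Ψ') (i : ℕ) :
    (A - 1) * B ^ i * (A' - 1) = 0 := by
  refine toLin'.injective (LinearMap.ext fun v => ?_)
  rw [toLin'_apply, toLin'_apply, zero_mulVec, ← mulVec_mulVec, ← mulVec_mulVec, sub_mulVec, sub_mulVec, one_mulVec, one_mulVec,
    sub_eq_zero]
  refine Perp.fix (X.Qv.ind (P := Perp Ψ) (X.Qv.nm (X.nm_pow hB i) (X.Qv.sub hA' v)) (fun a _ => dotProduct_zero _)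
    (fun b hb a ha => h a ha b hb) (fun x y h1 h2 a ha => ?_) fun m x h1 a ha => ?_) hA
  · rw [dotProduct_add, h1 a ha, h2 a ha, add_zero]
  · rw [dotProduct_smul, h1 a ha, smul_zero]

theorem kill' (h : ∀ a ∈ Ψ, ∀ b ∈ Ψ', a.1 ⬝ᵥ b.2 = 0) (hA : A ∈ WW Ψ) (hA' : A' ∈ WW Ψ') : A * A' = A + A' - 1 := by
  have h1 := kill h hA hA' (B := 1) (fun a ha => ⟨a, ha, one_mulVec _, vecMul_one _⟩) 0
  rw [pow_zero, mul_one] at h1
  rw [← add_zero (_ - 1), ← h1]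
  noncomm_ring

end Comb

variable {p : ℕ} [Fact p.Prime] {k : Type} [Field k] [CharP k p] [IsAlgClosed k] {Y : Type} [Group Y] {N : Type}
  [Fintype N] [DecidableEq N] {ρ : Y →* GL N k} {F : MulAut Y} {G : Subgroup Y} {D : Datum p ρ F G}
  {j : ℕ} {B : Mat D.R} {Ψ Ψ' : RS D.R} {c c' : Lbl D} {v w w' x y : D.W}

theorem orth_symm {a b : Vec D.R × Vec D.R} (ha : a ∈ rts D) (hb : b ∈ rts D) (h : b.1 ⬝ᵥ a.2 = 0) : a.1 ⬝ᵥ b.2 = 0 := by
  have h2 := X.rt_two ha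
  obtain ⟨a, ha, rfl⟩ := ha
  obtain ⟨b, hb, rfl⟩ := hb
  have h1 := D.cor_act (D.rf a) hb
  rw [D.act_rf ha, show Nodes.Coroot.cpr D.cs D.h b a = 0 from (wt_dot_cor D b ha).symm.trans h, zero_smul, sub_zero,
    ← rfm_eq ha, rfm_vec, eq_comm, sub_eq_self] at h1
  have h3 := congrArg (D.wt a ⬝ᵥ ·) h1
  simp only [dotProduct_smul, dotProduct_zero, smul_eq_mul] at h2 h3 ⊢
  rw [h2] at h3
  omega

variable (D) in
/-- the reflections in a set of roots -/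
def Rs (Ψ : RS D.R) : Set D.W := {t | ∃ a ∈ Ψ, D.Wm t = rfm a}

variable (D) in
/-- the Weyl group of a set of roots -/
def Hs (Ψ : RS D.R) : Subgroup D.W := closure (Rs D Ψ)

theorem rs_eq (h : Ψ ⊆ rts D) : Rs D Ψ = D.rf '' {b | D.Rt b ∧ (D.wt b, D.cor b) ∈ Ψ} := Set.ext fun t =>
  ⟨fun ⟨a, ha, e⟩ => by
    obtain ⟨b, hb, rfl⟩ := h ha
    exact ⟨b, ⟨hb, ha⟩, D.Wm_injective ((rfm_eq hb).symm.trans e.symm)⟩, fun ⟨b, hb, e⟩ => ⟨_, hb.2, e ▸ (rfm_eq hb.1).symm⟩⟩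

theorem mem_Hs (h : Ψ ⊆ rts D) : x ∈ Hs D Ψ ↔ D.Wm x ∈ WW Ψ := by
  rw [mem_WW_sub h, ← rs_eq h]
  exact ⟨fun e => ⟨x, e, rfl⟩, fun ⟨_, e, e'⟩ => D.Wm_injective e' ▸ e⟩

theorem rf_eq : OM.Cas.Rf D c = Rs D (Zc (rts D) c) := by
  rw [rs_eq (X.Zc_sub _ _)]
  exact Set.ext fun t => ⟨fun ⟨a, h1, h2, h3⟩ => ⟨a, ⟨h1, rt_mem h1, h3⟩, h2⟩, fun ⟨a, h1, h2⟩ => ⟨a, h1.1, h2, h1.2.2⟩⟩

theorem sg_rs (h : Ψ ⊆ rts D) (hx : x ∈ Rs D Ψ) : sgZ D x = -1 := by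
  obtain ⟨b, hb, rfl⟩ := rs_eq h ▸ hx
  exact sgZ_rf D hb.1

theorem hs_comm (e : Ψ ⊆ rts D) (e' : Ψ' ⊆ rts D) (h : ∀ a ∈ Ψ, ∀ b ∈ Ψ', a.1 ⬝ᵥ b.2 = 0) : ∀ x ∈ Hs D Ψ, ∀ y ∈ Hs D Ψ', x * y = y * x :=
  fun x hx y hy => D.Wm_injective (by
    rw [D.Wm_mul, D.Wm_mul, kill' h ((mem_Hs e).1 hx) ((mem_Hs e').1 hy),
      kill' (fun b hb a ha => orth_symm (e' hb) (e ha) (h a ha b hb)) ((mem_Hs e').1 hy) ((mem_Hs e).1 hx), add_comm])

theorem hs_disj (e : Ψ ⊆ rts D) (e' : Ψ' ⊆ rts D) (h : ∀ a ∈ Ψ, ∀ b ∈ Ψ', a.1 ⬝ᵥ b.2 = 0) : ∀ x ∈ Hs D Ψ, x ∈ Hs D Ψ' → x = 1 :=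
  fun x hx hx' => by
    have h1 := kill' h ((mem_Hs e).1 hx) ((mem_Hs e').1 hx')
    have h2 : ∀ n : ℕ, D.Wm (x ^ n) = 1 + (n : ℤ) • (D.Wm x - 1) := fun n => by
      induction n with
      | zero => rw [pow_zero, D.Wm_one, Nat.cast_zero, zero_smul, add_zero]
      | succ n ih =>
        rw [pow_succ, D.Wm_mul, ih, add_mul, smul_mul_assoc, sub_mul, h1, one_mul, Nat.cast_succ, add_smul, one_smul]
        abel
    have h3 := h2 (orderOf x)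
    rw [pow_orderOf_eq_one, D.Wm_one, left_eq_add, smul_eq_zero, sub_eq_zero, ← D.Wm_one] at h3
    exact D.Wm_injective (h3.resolve_left (Nat.cast_ne_zero.2 (orderOf_pos x).ne'))

theorem hs_tw (h : St D j B) (e : Ψ ⊆ rts D) (hn : Nm (D.Wm w * B) Ψ) (hx : x ∈ Hs D Ψ) : w * D.Fw x * w⁻¹ ∈ Hs D Ψ := by
  refine (closure_le ((Hs D Ψ).comap (MulAut.conj w * D.Fw).toMonoidHom)).2 (fun t ht => subset_closure ?_) hx
  rw [rs_eq e] at ht ⊢
  obtain ⟨a, ha, rfl⟩ := ht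
  exact ⟨_, ⟨(D.g_root a ha.1).act w, (h.nm_iff e).1 hn a ha.1 ha.2⟩,
    (D.rf_act' w (D.g_root a ha.1)).trans (congrArg (w * · * w⁻¹) (D.Fw_rf ha.1).symm)⟩

theorem ord_fac (h : St D j B) (e : Ψ ⊆ rts D) (e' : Ψ' ⊆ rts D) (ho : ∀ a ∈ Ψ, ∀ b ∈ Ψ', a.1 ⬝ᵥ b.2 = 0)
    (hn : Nm (D.Wm w * B) Ψ') (hx : x ∈ Hs D Ψ) (hy : y ∈ Hs D Ψ') :
    ordT D (x * y * w) * ordT D w = ordT D (x * w) * ordT D (y * w) := by
  obtain ⟨d, i, L⟩ := exists_lvl D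
  have h1 := congrArg Int.natAbs (det_fac (X := D.Wm x) (X' := D.Wm y) (L.pow w)
    (one_lt_pow₀ (Nat.one_lt_cast.2 (Fact.out : p.Prime).one_lt) L.e_pos.ne').ne' fun i => by
      rw [h.WM, _root_.smul_pow, mul_smul_comm, smul_mul_assoc, kill ho ((mem_Hs e).1 hx) ((mem_Hs e').1 hy) hn, smul_zero])
  simpa only [ordT, D.Wm_mul, mul_assoc, Int.natAbs_mul] using h1

/-! ### the reduction to one label -/

theorem red [Fintype D.W] {a : D.W → Lbl D → ℂ} (h1 : ∀ v w w' c' c'', Tc D v w w' → Rel D v c' c'' → a w c' = a w' c'')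
    (h0 : ∀ w c', a w c' ≠ 0 → Cj (rts D) c c') :
    (Nat.card (LV.Lab.St D c) : ℂ) * ∑ᶠ (w : D.W) (c' : Lbl D), a w c' = Nat.card D.W * ∑ w, a w c := by
  classical
  have h2 := sum_orb' c fun b => ∑ w, a w b
  rw [Finset.sum_congr rfl fun v _ => show ∑ w, a w (ac D v c) = ∑ w, a w c from
      Fintype.sum_equiv ((Equiv.mulLeft v⁻¹).trans (Equiv.mulRight (D.Fw v))) _ _ fun w =>
        (h1 _ _ _ _ _ (tc_self v w) (rel_ac v c)).symm, Finset.sum_const, Finset.card_univ, nsmul_eq_mul, nsmul_eq_mul,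
    Finset.sum_comm] at h2
  rw [finsum_eq_sum_of_fintype, Nat.card_eq_fintype_card (α := D.W), h2]
  refine congrArg _ (Finset.sum_congr rfl fun w _ => finsum_eq_sum_of_support_subset _ fun b hb => ?_)
  obtain ⟨v, hv⟩ := cj_iff.1 (h0 w b hb)
  exact Finset.mem_coe.2 (Finset.mem_image.2 ⟨v, Finset.mem_univ v, ac_eq.2 hv⟩)

variable [Fintype ↥(GF F G)] (f : Fr D)

theorem val_red [Fintype D.W] {χ : GF F G → ℂ} (h : ∀ w c', Has f χ w c' → Cj (rts D) c c') :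
    Nat.card (LV.Lab.St D c) * χ 1 = ∑ w, classInner χ (RW f w c) * RW f w c 1 := by
  rw [val_one f χ, mul_left_comm, red (fun v w w' c' c'' h1 h2 => by rw [RW_conj f h1 h2]) fun w c' e => h w c' (left_ne_zero_of_mul e),
    inv_mul_cancel_left₀ (Nat.cast_ne_zero.2 Nat.card_pos.ne')]

theorem gam_red [Fintype D.W] {χ : GF F G → ℂ} (h : ∀ w c', Has f χ w c' → Cj (rts D) c c') :
    Nat.card (LV.Lab.St D c) * OM.Cas.usum (GF F G) {v | IsUni p v} χ =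
      Nat.card (GF F G) * ∑ w, (ordT D w : ℂ)⁻¹ * classInner χ (RW f w c) := by
  rw [OM.Cas.Eig.gam f χ, mul_left_comm, red (fun v w w' c' c'' h1 h2 => by rw [RW_conj f h1 h2, BR.ordT_tc h1])
    fun w c' e => h w c' (right_ne_zero_of_mul e), mul_assoc, inv_mul_cancel_left₀ (Nat.cast_ne_zero.2 Nat.card_pos.ne')]

/-! ### functions which come from a sub-datum -/

variable (s : Sb D) [Fintype ↥(GF F s.K)] (ψ : GF F s.K → ℂ)

/-- the multiplicities as a function on `W` -/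
noncomputable def yb (c : Lbl D) : D.W → ℂ :=
  Function.extend (fun u => s.sw u * s.w) (fun u => classInner ψ (RW (s.fr f) u c)) 0

theorem yb_sw (c : Lbl D) (u : s.E.W) : yb f s ψ c (s.sw u * s.w) = classInner ψ (RW (s.fr f) u c) :=
  Function.Injective.extend_apply (fun _ _ e => s.sw_injective (mul_right_cancel e)) _ _ u

theorem yb_zero (h : ∀ u, s.sw u * s.w ≠ w) : yb f s ψ c w = 0 := Function.extend_apply' _ _ _ fun ⟨u, e⟩ => h u e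

variable {f s ψ}

theorem yb_ne (h : yb f s ψ c w ≠ 0) : ∃ u, s.sw u * s.w = w ∧ Has (s.fr f) ψ u c := by
  by_contra h1
  refine h (yb_zero f s ψ fun u e => h1 ⟨u, e, ?_⟩)
  rwa [← e, yb_sw] at h

omit [Fintype ↥(GF F G)] [Fintype ↥(GF F s.K)] in
theorem tc_sub (h : St D j B) (hq : s.E.QS) {v u u' : s.E.W} :
    Tc s.E v u u' ↔ Tc D (s.sw v) (s.sw u * s.w) (s.sw u' * s.w) := by
  rw [(h.sub hq).tc_iff, h.tc_iff, s.Wm_eq, s.Wm_eq, s.Wm_eq, D.Wm_mul, D.Wm_mul]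
  simp only [mul_assoc]

theorem yb_conj (h : St D j B) (hq : s.E.QS) {v : s.E.W} (ht : Tc D (s.sw v) w w') (hr : Rel D (s.sw v) c c') :
    yb f s ψ c w = yb f s ψ c' w' := by
  have key : ∀ {v : s.E.W} {w w' c c'}, Tc D (s.sw v) w w' → Rel D (s.sw v) c c' → ∀ u, s.sw u * s.w = w →
      (∃ u', s.sw u' * s.w = w') ∧ yb f s ψ c w = yb f s ψ c' w' := by
    rintro v _ w' c c' ht hr u rfl
    have h1 := tc_self' v u
    obtain rfl : w' = _ := mul_right_cancel (Eq.trans ht (Eq.symm ((tc_sub h hq).1 h1)))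
    exact ⟨⟨_, rfl⟩, by rw [yb_sw, yb_sw, RW_conj (s.fr f) h1 (s.rel_iff.2 hr)]⟩
  by_cases e : ∃ u, s.sw u * s.w = w
  · exact e.elim fun u e => (key ht hr u e).2
  · rw [yb_zero f s ψ fun u h1 => e ⟨u, h1⟩, yb_zero f s ψ fun u h1 =>
      e (key (v := v⁻¹) (map_inv s.sw v ▸ ht.symm) (map_inv s.sw v ▸ hr.symm) u h1).1]

/-- **the induced function** -/
theorem ind_eq [Fintype D.W] {r : ℕ} [Fact r.Prime] {P : Subgroup ↥(GF F G)} (hu : Hu1 D r) (hs : s.For r P)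
    (hψ : IsIrrCharacter _ ψ) (hc : ¬ r ∣ orderOf c) (w : D.W) : classInner (s.rs r P (RW f w c)) ψ =
      (Nat.card s.E.W : ℂ)⁻¹ * ∑ v, yb f s ψ (ac D v c) (v * w * (D.Fw v)⁻¹) := by
  classical
  have h1 : ∀ v, yb f s ψ (ac D v c) (v * w * (D.Fw v)⁻¹) = ∑ᶠ (u : s.E.W) (c' : Lbl D)
      (_ : Tc D v w (s.sw u * s.w) ∧ Rel D v c c'), classInner ψ (RW (s.fr f) u c') := fun v => by
    have h1 : ∀ u, Tc D v w (s.sw u * s.w) ↔ s.sw u * s.w = v * w * (D.Fw v)⁻¹ := fun u => eq_mul_inv_iff_mul_eq.symm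
    simp only [h1, ← ac_eq, finsum_eq_if]
    by_cases e : ∃ u, s.sw u * s.w = v * w * (D.Fw v)⁻¹
    · obtain ⟨u, e⟩ := e
      rw [finsum_eq_single _ u fun u' hu' => finsum_eq_zero_of_forall_eq_zero fun c' => if_neg fun e' =>
        hu' (s.sw_injective (mul_right_cancel (e'.1.trans e.symm))), finsum_eq_single _ (ac D v c) fun c' h2 => if_neg fun e' =>
        h2 e'.2.symm, if_pos ⟨e, rfl⟩, ← e, yb_sw]
    · rw [yb_zero f s ψ fun u h2 => e ⟨u, h2⟩, finsum_eq_zero_of_forall_eq_zero fun u =>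
        finsum_eq_zero_of_forall_eq_zero fun c' => if_neg fun e' => e ⟨u, e'.1⟩]
  simp only [h1]
  rw [← finsum_eq_sum_of_fintype]
  by_cases h0 : Fx D w c
  swap
  · rw [RW_zero f h0, Cf.sum_zero fun v u c' e => by
      rw [RW_zero _ fun h2 => h0 (fx_of_tc e.1.symm e.2.symm (s.fx_iff.1 h2)), classInner_zero_right], mul_zero]
    exact classInner_zero_left _
  obtain ⟨S, hS⟩ := Cf.exists_fin s.E
  have h4 : s.rs r P (RW f w c) = (Nat.card s.E.W : ℂ)⁻¹ •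
      ∑ x ∈ S, classInner (RW f w c) (RW f (s.sw x.1 * s.w) x.2) • RW (s.fr f) x.1 x.2 := funext fun g => by
    rw [Cf.res' f s hu.ne hs (hu.bd_nb hu.card_le (by norm_num)) w hc, Cf.sum_rel f s h0,
      hS _ fun u c' e => by rw [RW_zero _ e, Pi.zero_apply, mul_zero], Pi.smul_apply, Finset.sum_apply]
    rfl
  rw [Cf.sum_rel f s h0, h4, hS _ fun u c' e => by rw [RW_zero _ e, classInner_zero_right, mul_zero], classInner_smul_left,
    classInner_sum_left]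
  refine congrArg _ (Finset.sum_congr rfl fun x _ => ?_)
  obtain ⟨a, h5, h6⟩ := LV.Lift.exists_int hψ (RW_gen (s.fr f) x.1 x.2)
  rw [classInner_smul_left, h5, h6]

/-- **the expansion** -/
theorem expand {r : ℕ} (P : Subgroup ↥(GF F G)) [Fintype (IrrCharacter ↥(GF F G))] (w : D.W) (c : Lbl D) :
    classInner (s.rs r P (RW f w c)) ψ =
      ∑ ξ : IrrCharacter ↥(GF F G), classInner (s.rs r P ξ) ψ * classInner (ξ : GF F G → ℂ) (RW f w c) := by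
  have h1 : s.rs r P (RW f w c) = ∑ ξ : IrrCharacter ↥(GF F G), classInner (RW f w c) ξ • s.rs r P ξ := funext fun g =>
    (congrFun (classFunction_eq_sum (OddOrderCharacters.VChar.gen_isClassFunction (RW_gen f w c))) _).trans
      ((Finset.sum_apply _ _ _).trans (Finset.sum_apply g _ fun ξ : IrrCharacter ↥(GF F G) =>
        classInner (RW f w c) ξ • s.rs r P ξ).symm)
  rw [h1, classInner_sum_left]
  refine Finset.sum_congr rfl fun ξ _ => ?_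
  obtain ⟨a, h5, h6⟩ := LV.Lift.exists_int ξ.2 (RW_gen f w c)
  rw [classInner_smul_left, h5, h6, mul_comm]

end Cfsg.Agent.BZ.RT.At
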