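import Cfsg.Agent.OM.Cas.Main

/-!
# BZ / RT : one eigenvalue of the sum of the reflections for all the labels (helper42)

The proofs are those of `boxSh` and `boxCas_of` with the quantifiers exchanged.
-/

set_option autoImplicit false
set_option maxHeartbeats 400000
set_option linter.unusedSectionVars false

namespace Cfsg.Agent.BZ.RT

open Cfsg Cfsg.Agent.DL Cfsg.Agent.DL.Mk Cfsg.Agent.DL.PP Cfsg.Agent.DL.Lef Cfsg.Agent.KZ.Lie Cfsg.Agent.DL.Asm
  Cfsg.Agent.DL.Uni Cfsg.Agent.Nodes.BNOf Cfsg.Agent.Nodes.Reps Cfsg.Agent.OM.Cas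

variable {p : ℕ} [Fact p.Prime] {k : Type} [Field k] [CharP k p] {Y : Type} [Group Y] {N : Type} [Fintype N]
  [DecidableEq N] {ρ : Y →* GL N k} {F : MulAut Y} {G : Subgroup Y} [IsAlgClosed k]

/-- the trace formula, one level for all the labels -/
theorem sh1 {D : Datum p ρ F G} (f : Fr D) [Fintype ↥(GF F G)] [Fintype D.W] (hq : D.QS) :
    ∃ d e : ℕ, D.Split d e ∧ ∀ c : Lbl D, (∃ w, Fx D w c) →
    ∃ (lam : Y → ℂ) (S : D.W → ℕ → GF F G → ℂ), Mk.Lin (D.T ⊓ Mk.fix (F ^ d)) lam ∧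
      (∀ w i, Mk.epsOf D.cs D.n (fun i => D.τ.comp (coch (D.cw i))⁻¹) (p ^ e) lam w i ↔
        w * D.cs.simple i * w⁻¹ ∈ Rf D c) ∧
      (∀ w, Fx D w c → (∀ g, ExpC fun m => S w m g) ∧ lefFun (S w) = RW f w c) ∧
      ∀ m, 0 < m → ∀ [Fintype ↥(G ⊓ Mk.fix ((F ^ d) ^ m))] (κ : Y → ℂ) (φ : D.W → ℂ),
        Mk.Good (D.U ⊓ Mk.fix ((F ^ d) ^ m)) (D.T ⊓ Mk.fix ((F ^ d) ^ m)) (D.NN ⊓ Mk.fix (F ^ d)) D.pr
          (fun t => lam (t ^ Mk.gs (p ^ e) m)) κ φ → (∀ w, ¬ Fx D w c → φ w = 0) →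
        ∀ a : GF F G → Y, (∀ g, a g ∈ G ∧ ((F ^ d) ^ m) (a g) = g * a g) → ∀ g,
          ph F (G ⊓ Mk.fix ((F ^ d) ^ m)) (fun g => (a g)⁻¹ * F (a g)) κ g =
            Nat.card ↥(D.T ⊓ Mk.fix ((F ^ d) ^ m)) * ∑ w, φ w * S w m g := by
  obtain ⟨r, e', H', hd'⟩ := LV.T.Sh.exists_split D
  have H := H'.mul f.L.d_pos
  have hd : ∀ u, (F ^ (r * f.d)) (yw D u) = yw D u := fun u => by rw [pow_mul]; exact pow_fix (hd' u) _
  rw [mul_comm r] at H hd
  generalize e' * f.d = e at H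
  have := fun u => @Fintype.ofFinite _ (finite_inf_GF D (cj (yw D u) D.T))
  obtain ⟨n₀, h3, h4⟩ := H.exists_rp D.wF
  have A := Mk.frame D H h3 h4
  have hn : ∀ u, (yw D u)⁻¹ * F (yw D u) ∈ D.NN := fun u => ⟨_, yw_rp D u⟩
  have hp : ∀ l, ((p : ℂ) ^ e) ^ l ≠ 0 := fun l =>
    pow_ne_zero _ (pow_ne_zero _ (Nat.cast_ne_zero.2 (Fact.out : p.Prime).ne_zero))
  refine ⟨f.d * r, e, H, fun c ⟨w₀, h₀⟩ => ?_⟩
  refine ⟨fun t => th f w₀ c (nrm F (f.d * r) (yw D w₀ * t * (yw D w₀)⁻¹)),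
    fun u m g => (((p : ℂ) ^ e) ^ D.cs.length u) ^ m * Asm.cmp (GF F G) (cj (yw D u) D.T ⊓ GF F G)
      (cn F G (cj (yw D u) D.U) (f.d * r)) (th f u c) m g, ?_, Sh.eps_iff f H h₀, fun u hu => ?_,
    fun m hm _ κ φ hκ hφ a ha g => ?_⟩
  · have B := Mk.pr_of D (yw_mem D w₀) (hd w₀) ((D.stable_iff (yw_mem D w₀)).2 (hn w₀))
    have h1 := A.lin_conj (one_mem _) (A.lin_chOf B ⟨(th_spec f h₀).1.one, (th_spec f h₀).1.mul⟩)
    simpa only [chOf, inv_one, one_mul, mul_one, inv_inv] using h1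
  · have h1 := (LV.T.Sh.isInd H hd u).spectral_cmp (th_spec f hu).1
    refine ⟨fun g => (LV.T.Sh.expZ_q e _).expC.mul (h1.expC g), funext fun g => ?_⟩
    rw [← R_eq_RW f (yw_mem D u) (yw_rp D u) (th_spec f hu).2 g,
      Pair.R_eq Mk.mackey ⟨_, yw_mem D u, rfl, rfl, (D.stable_iff (yw_mem D u)).2 (hn u)⟩ _ g g.2, lefFun_apply,
      lef_mul (LV.T.Sh.expZ_q e _).expC (h1.expC g), lef_pow (hp _), one_mul]
    exact (congrFun ((LV.T.Sh.isInd H hd u).res_eq _) g).symm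
  have S := A.level m
  have hc := pow_pow_comm_apply F (f.d * r) m
  have hF : ∀ {K : Subgroup Y}, (∀ x ∈ K, F x ∈ K) →
      ∀ x ∈ K ⊓ Mk.fix ((F ^ (f.d * r)) ^ m), F x ∈ K ⊓ Mk.fix ((F ^ (f.d * r)) ^ m) :=
    fun h x hx => ⟨h x hx.1, (hc x).trans (congrArg F hx.2)⟩
  have := @Fintype.ofFinite _ (Finite.of_injective _ (Subgroup.inclusion_injective S.U_le))
  have := @Fintype.ofFinite _ (Finite.of_injective _ (Subgroup.inclusion_injective (S.T_le.trans S.N_le)))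
  rw [ph, Sh.trace S (A.card_X hm) (hF fun u hu => (hq.F_mem_U u).2 hu) (hF fun _ => D.F_mem_G)
    (inf_le_inf_left _ (fix_le_pow _ m)) hκ (r := fun u => (yw D u)⁻¹ * F (yw D u))
    (fun u => mkfx (hn u) (by rw [Mk.mem_fix, map_mul, map_inv, pow_comm_apply, hd])) (fun u => (yw_rp D u).pr_eq)
    (mkfx (G.mul_mem (G.inv_mem (ha g).1) (D.F_mem_G (ha g).1)) (by
      rw [Mk.mem_fix, map_mul, map_inv, hc, (ha g).2, map_mul, (mem_GF.1 g.2).2]; group)), Finset.mul_sum]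
  refine Finset.sum_congr rfl fun u _ => ?_
  by_cases hu : Fx D u c
  · rw [Finset.sum_congr rfl fun t _ => congrArg _ (Sh.th_indep f h₀ hu (A.pow_gs_mem t.2).1 (by
      rw [map_mul, map_mul, map_inv, hd, Mk.mem_fix.1 (mfx (A.pow_gs_mem t.2))])),
      Sh.cmp_mul H (yw_mem D u) (hn u) (hd u) hm g (ha g).1 (ha g).2, pow_right_comm]
    push_cast
    ring
  · rw [hφ u hu, zero_mul, zero_mul, mul_zero]

open Cfsg.Agent.Characters.Core Polynomial Glue in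
/-- **one eigenvalue for all the labels** -/
theorem cas1 {D : Datum p ρ F G} (f : Fr D) [Fintype ↥(GF F G)] [Fintype D.W] (hq : D.QS) {χ : GF F G → ℂ}
    (hχ : IsIrrCharacter (GF F G) χ) : ∃ κ : ℤ, ∀ (c : Lbl D) w,
      cas D c (fun u => classInner χ (RW f u c)) w = (κ : ℂ) / 2 * classInner χ (RW f w c) := by
  have bG : BoxGen := boxGen
  have bK : BoxKaw := boxKaw
  have bI : BoxIso := boxIso
  classical
  have z0 : ∀ (c : Lbl D) (κ : ℂ) w, ¬ Fx D w c → cas D c (fun u => classInner χ (RW f u c)) w = κ * classInner χ (RW f w c) :=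
    fun c κ w hw => by
      rw [RW_zero f hw, classInner_zero_right, mul_zero]
      refine Finset.sum_eq_zero fun t _ => ?_
      split_ifs with ht
      · simp only [RW_zero f (fx_rf ht hw), classInner_zero_right]
      · rfl
  obtain ⟨d, e, H, hc⟩ := sh1 f hq
  have h2 : ∀ m, 0 < m → ∀ g : GF F G, ∃ a ∈ G, ((F ^ d) ^ m) a = g * a := fun m hm g => by
    obtain ⟨z, hz, h⟩ := (D.pow (Nat.mul_pos H.d_pos hm)).lang_G' (inv_mem g.2.1)
    exact ⟨z, hz, by rw [← pow_mul, ← inv_inv (g : Y), h, mul_inv_rev, inv_inv, inv_mul_cancel_right]⟩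
  choose! a ha ha' using h2
  obtain ⟨j, B, hB⟩ := pure boxPur boxMean boxEig bI boxOrd boxSp hq H hχ a fun m hm g => ⟨ha m hm g, ha' m hm g⟩
  have fin : ∀ m, 0 < m → Finite ↥(G ⊓ Mk.fix ((F ^ d) ^ m)) := fun m hm => by
    rw [← pow_mul]
    exact (D.amb.pow (Nat.mul_pos H.d_pos hm)).finite_GF G
  have finT : ∀ m, 0 < m → 0 < Nat.card ↥(D.T ⊓ Mk.fix ((F ^ d) ^ m)) := fun m hm => by
    have := fin m hm
    have := Finite.of_injective _ (Subgroup.inclusion_injective (inf_le_inf_right (Mk.fix ((F ^ d) ^ m)) D.T_le_G))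
    exact Nat.card_pos
  have h3 := finT 1 one_pos
  rw [pow_one] at h3
  obtain ⟨r, hr⟩ : ∃ r, r = Nat.card ↥(D.T ⊓ Mk.fix (F ^ d)) * (B + 1) := ⟨_, rfl⟩
  have r0 : 0 < r := hr ▸ Nat.mul_pos h3 B.succ_pos
  have p1 : 1 < p ^ e := Nat.one_lt_pow H.e_pos.ne' (Fact.out : p.Prime).one_lt
  obtain ⟨ω, hω⟩ : ∃ ω, ω = rword D.cs (Tits.Core.w0 D.cs) := ⟨_, rfl⟩
  refine ⟨j + 2 * ω.length - 4 * (Nodes.BNOf.RGD.Pos D.cs D.h).ncard, fun c u => ?_⟩
  by_cases hu : Fx D u c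
  swap
  · exact z0 c _ u hu
  obtain ⟨lam, S, hl, h1, hS, hSh⟩ := hc c ⟨u, hu⟩
  obtain ⟨g1, g2⟩ := gen bG h1 hω (4 * (Nodes.BNOf.RGD.Pos D.cs D.h).ncard) (j + 4 * ω.length) u
    (fun w => classInner (RW f w c) χ) fun _ => rfl
  have h4 := deriv (x := ((p ^ e : ℕ) : ℂ) ^ r) (pow_ne_zero _ (Nat.cast_ne_zero.2 (by omega))) (fun m hm k => by
      rw [← pow_mul, ← Nat.cast_pow, Nat.cast_eq_one] at k
      exact (Nat.one_lt_pow (Nat.mul_pos r0 hm).ne' p1).ne' k)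
    (τ := fun w m => if Fx D w c then classInner (S w (r * m)) χ else 0) (fun w => by
      split_ifs with hw
      · exact (expC_classInner (hS w hw).1 fun g => expC_const (χ g)).comp_mul r0
      · exact expC_const 0) g1 fun m hm => by
    have hm' := Nat.mul_pos r0 hm
    have := fin _ hm'
    have := Fintype.ofFinite ↥(G ⊓ Mk.fix ((F ^ d) ^ (r * m)))
    have h5 := level bG bK H hl rfl h1 hm' (hr ▸ (dvd_mul_right _ _).mul_right _)
      (L := fun κ => (Nat.card ↥(D.T ⊓ Mk.fix ((F ^ d) ^ (r * m))) : ℂ)⁻¹ *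
        classInner (ph F (G ⊓ Mk.fix ((F ^ d) ^ (r * m))) (fun g => (a (r * m) g)⁻¹ * F (a (r * m) g)) κ) χ)
      (τ := fun w => if Fx D w c then classInner (S w (r * m)) χ else 0) (z := ((((p ^ e : ℕ) : ℂ) ^ r) ^ m) ^ j)
      (fun κ φ hg hφ => by
        rw [show ph F _ _ κ = (Nat.card ↥(D.T ⊓ Mk.fix ((F ^ d) ^ (r * m))) : ℂ) • ∑ w, φ w • S w (r * m) from
          funext fun g => by
            rw [hSh _ hm' κ φ hg hφ _ (fun g => ⟨ha _ hm' g, ha' _ hm' g⟩) g]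
            simp only [Pi.smul_apply, Finset.sum_apply, smul_eq_mul], classInner_smul_left, classInner_sum_left,
          inv_mul_cancel_left₀ (Nat.cast_ne_zero.2 (finT _ hm').ne')]
        refine Finset.sum_congr rfl fun w _ => ?_
        split_ifs with hw
        · exact classInner_smul_left _ _ _
        · rw [hφ w hw, classInner_smul_left, zero_mul, zero_mul])
      (fun κ => by
        rw [hB _ (lt_of_lt_of_le (by nlinarith) (Nat.le_mul_of_pos_right r hm)), mul_left_comm, Nat.cast_pow _ (r * m),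
          pow_mul _ r m])
      (bI D (Nat.mul_pos H.d_pos hm') _ (pow_mul F d _).symm (a _) fun g => ⟨ha _ hm' g, ha' _ hm' g⟩).2.1.conj
      hω (q := (((p ^ e : ℕ) : ℂ) ^ r) ^ m) (by rw [← pow_mul, Nat.cast_pow _ (r * m)]) hu
    refine (Finset.sum_congr rfl fun w _ => ?_).trans h5
    have h6 := fun φ w => Rw_map D.cs (epsOf D.cs D.n (fun i => D.τ.comp (coch (D.cw i))⁻¹) (p ^ e) lam)
      (evalRingHom ((((p ^ e : ℕ) : ℂ) ^ r) ^ m)) X ω φ w
    have h7 := fun w : D.W => map_dl1 (evalRingHom ((((p ^ e : ℕ) : ℂ) ^ r) ^ m)) w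
    simp only [coe_evalRingHom, eval_X] at h6 h7
    simp only [eval_sub, eval_mul, eval_pow, eval_X, h6, h7, pow_add]
  have h5 : ∀ w, lef (fun m => if Fx D w c then classInner (S w (r * m)) χ else 0) = classInner (RW f w c) χ := fun w => by
    split_ifs with hw
    · rw [lef_comp_mul (expC_classInner (hS w hw).1 fun g => expC_const (χ g)) r0, ← classInner_lefFun_left (hS w hw).1,
        (hS w hw).2]
    · rw [RW_zero f hw, classInner_zero_left, lef_const]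
  simp only [h5] at h4
  rw [g2] at h4
  have h6 := congrArg (starRingEnd ℂ) h4
  simp only [cas, map_add, map_mul, map_sum, apply_ite (starRingEnd ℂ), map_zero, classInner_conj_symm, map_sub, map_natCast,
    map_ofNat] at h6
  rw [cas]
  push_cast at h6 ⊢
  linear_combination h6 / 2

end Cfsg.Agent.BZ.RT
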