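import Cfsg.Agent.BZ.RT.AtL
import Cfsg.Agent.BZ.RT.Cas1
import Cfsg.Agent.BZ.Lab.Orb

/-!
# BZ / RT (S4853) : the atom, the characters above a tight character (helper42)

* `top`, `del`, `has_top` : the multiplicities on the top stratum;  `sum_eq` : the sum of the multiplicity functions;
* `fs`, `cas_cs`, `cas_yb` : the sums of reflections;  `dec`, `nm2`, `ind2`, `ind0` : the configuration.
-/

set_option autoImplicit false
set_option linter.unusedSectionVars false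
set_option maxHeartbeats 400000

namespace Cfsg.Agent.BZ.RT.At

open Cfsg Cfsg.Agent.DL Cfsg.Agent.DL.PP Matrix Cfsg.Agent.KZ.Lie Cfsg.Agent.HZ.Gen Cfsg.Agent.HZ.L Cfsg.Agent.OM.On
  Cfsg.Agent.Characters.Core Subgroup Cfsg.Agent.DL.Uni Cfsg.Agent.OddOrderCharacters.VChar
open Cfsg.Agent.HZ.L.X (Zc Qv)
open Cfsg.Agent.LV.Lab (ac rel_ac ac_eq tc_self')
open Cfsg.Agent.OM.Cas (Rf cas)

variable {p : ℕ} [Fact p.Prime] {k : Type} [Field k] [CharP k p] [IsAlgClosed k] {Y : Type} [Group Y] {N : Type}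
  [Fintype N] [DecidableEq N] {ρ : Y →* GL N k} {F : MulAut Y} {G : Subgroup Y} {D : Datum p ρ F G}
  {j : ℕ} {B : Mat D.R} {Ψ : RS D.R} {c c' : Lbl D} {w x y : D.W} {s : Sb D} {lam : Vec D.R} {u : s.E.W}

/-! ### roots -/

/-- the roots of the label in the subgroup -/
abbrev P1 (s : Sb D) (c : Lbl D) : RS D.R := Zc (rts s.E) c

/-- the other roots of the label -/
abbrev P2 (s : Sb D) (c : Lbl D) : RS D.R := Zc (rts D) c \ rts s.E

theorem e1 : P1 s c ⊆ rts D := fun _ ha => s.rts_sub ha.1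

theorem e2 : P2 s c ⊆ rts D := fun _ ha => ha.1.1

theorem Cfg.ho (C : Cfg s c) : ∀ a ∈ P1 s c, ∀ b ∈ P2 s c, a.1 ⬝ᵥ b.2 = 0 := fun a ha b hb => C.orth b hb.1 hb.2 a ha

theorem rel1 (hx : x ∈ Hs D (P1 s c)) : Rel D x c c := tl_of_cor (fun _ ha => ha.2) ((mem_Hs e1).1 hx)

theorem rel2 (hx : x ∈ Hs D (P2 s c)) : Rel D x c c := tl_of_cor (fun _ ha => ha.1.2) ((mem_Hs e2).1 hx)

theorem sw_of (hx : x ∈ Hs D (P1 s c)) : ∃ u, s.sw u = x := by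
  obtain ⟨u, e⟩ := s.mem_WW.1 (WW_mono (Ψ := P1 s c) (Ψ' := rts s.E) (fun _ h => h.1) ((mem_Hs e1).1 hx))
  exact ⟨u, D.Wm_injective e⟩

theorem mem1 (hz : Cz p (rts s.E)) (hc : Fo p c) (h : Rel D (s.sw u) c c) : s.sw u ∈ Hs D (P1 s c) :=
  (mem_Hs e1).2 (s.Wm_eq u ▸ (X.stab_WW hz hc).1 (s.rel_iff.2 h))

theorem dec (C : Cfg s c) (hz : Cz p (rts D)) (hc : Fo p c) (h : Rel D x c c) :
    ∃ a ∈ Hs D (P1 s c), ∃ b ∈ Hs D (P2 s c), x = a * b := by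
  have h1 := hs_comm e1 e2 C.ho
  let H : Subgroup D.W :=
    { carrier := {x | ∃ a ∈ Hs D (P1 s c), ∃ b ∈ Hs D (P2 s c), x = a * b}
      one_mem' := ⟨1, one_mem _, 1, one_mem _, (mul_one _).symm⟩
      mul_mem' := by
        rintro _ _ ⟨a, ha, b, hb, rfl⟩ ⟨a', ha', b', hb', rfl⟩
        exact ⟨_, mul_mem ha ha', _, mul_mem hb hb', by rw [mul_assoc, ← mul_assoc b, ← h1 a' ha' b hb]; simp only [mul_assoc]⟩
      inv_mem' := by
        rintro _ ⟨a, ha, b, hb, rfl⟩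
        exact ⟨_, inv_mem ha, _, inv_mem hb, by rw [h1 a ha b hb, _root_.mul_inv_rev]⟩ }
  refine X.stab_le hz hc (H := H) (fun a ha h2 => ?_) h
  by_cases h3 : (D.wt a, D.cor a) ∈ rts s.E
  · exact ⟨_, subset_closure ⟨_, ⟨h3, h2⟩, (rfm_eq ha).symm⟩, 1, one_mem _, (mul_one _).symm⟩
  · exact ⟨1, one_mem _, _, subset_closure ⟨_, ⟨⟨rt_mem ha, h2⟩, h3⟩, (rfm_eq ha).symm⟩, (one_mul _).symm⟩

theorem nm2 (h : St D j B) (hq : s.E.QS) (hc : Fx s.E u c) : Nm (D.Wm (s.sw u * s.w) * B) (P2 s c) := by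
  obtain ⟨d, i, L⟩ := exists_lvl D
  refine (h.nm_iff e2).2 fun a ha h1 => ⟨⟨rt_mem ((D.g_root a ha).act _), ((s.fx_iff.1 hc).cor_iff L ha).2 h1.1.2⟩, fun h2 => h1.2 ?_⟩
  have h3 := (h.sub hq).nm u
  rw [s.Wm_eq, ← mul_assoc, ← D.Wm_mul] at h3
  obtain ⟨b, hb, -, h4⟩ := X.nm_inv L.d_pos (h.pow_eq L _) h3 h2
  obtain ⟨b, -, rfl⟩ := s.rts_sub hb
  rwa [D.wt_injective ((h.wt_g _ ha).symm.trans h4)]

variable [Fintype D.W]

open Classical in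
variable (D) in
/-- the reflections as a finite set -/
noncomputable def fs (Ψ : RS D.R) : Finset D.W := Finset.univ.filter (· ∈ Rs D Ψ)

theorem mem_fs : x ∈ fs D Ψ ↔ x ∈ Rs D Ψ := by
  classical
  exact Finset.mem_filter.trans (and_iff_right (Finset.mem_univ x))

theorem hs_fs : Hs D Ψ = Subgroup.closure (fs D Ψ : Set D.W) := congrArg Subgroup.closure (Set.ext fun _ => mem_fs.symm)

theorem cas_cs (z : D.W → ℂ) (w : D.W) : cas D c z w = cs (fs D (Zc (rts D) c)) z w := by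
  classical
  rw [cs_apply, cas, ← Finset.sum_filter]
  exact Finset.sum_congr (Finset.ext fun t => by rw [Finset.mem_filter, mem_fs, rf_eq, and_iff_right (Finset.mem_univ t)])
    fun _ _ => rfl

theorem cs_add (C : Cfg s c) (z : D.W → ℂ) : cs (fs D (Zc (rts D) c)) z = cs (fs D (P1 s c)) z + cs (fs D (P2 s c)) z := by
  classical
  funext w
  rw [Pi.add_apply, cs_apply, cs_apply, cs_apply, ← Finset.sum_union (Finset.disjoint_left.2 fun t h1 h2 => ?_)]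
  · refine Finset.sum_congr (Finset.ext fun t => ?_) fun _ _ => rfl
    rw [Finset.mem_union, mem_fs, mem_fs, mem_fs]
    refine ⟨fun ⟨a, ha, e⟩ => ?_, fun h => h.elim (fun ⟨a, ha, e⟩ => ⟨a, ⟨e1 ha, ha.2⟩, e⟩) fun ⟨a, ha, e⟩ => ⟨a, ha.1, e⟩⟩
    by_cases h : a ∈ rts s.E
    · exact .inl ⟨a, ⟨h, ha.2⟩, e⟩
    · exact .inr ⟨a, ⟨ha, h⟩, e⟩
  · have h3 := sg_rs e1 (mem_fs.1 h1)
    rw [hs_disj e1 e2 C.ho t (subset_closure (mem_fs.1 h1)) (subset_closure (mem_fs.1 h2)), map_one] at h3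
    omega

variable [Fintype ↥(GF F G)] {f : Fr D} [Fintype ↥(GF F s.K)] [Fintype s.E.W]

theorem cas_yb {ψ : GF F s.K → ℂ} {κ : ℂ}
    (h : ∀ u, cas s.E c (fun u => classInner ψ (RW (s.fr f) u c)) u = κ * classInner ψ (RW (s.fr f) u c)) (w : D.W) :
    ∑ t ∈ fs D (P1 s c), yb f s ψ c (t * w) = κ * yb f s ψ c w := by
  by_cases e : ∃ u, s.sw u * s.w = w
  · obtain ⟨u, rfl⟩ := e
    rw [yb_sw, ← h, cas_cs, cs_apply]
    refine (Finset.sum_bij (fun t _ => s.sw t) (fun t ht => ?_) (fun _ _ _ _ e => s.sw_injective e) (fun t ht => ?_)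
      fun t _ => by rw [← mul_assoc, ← map_mul, yb_sw]).symm
    · obtain ⟨a, ha, e⟩ := mem_fs.1 ht
      exact mem_fs.2 ⟨a, ha, s.Wm_eq t ▸ e⟩
    · obtain ⟨t, rfl⟩ := sw_of (subset_closure (mem_fs.1 ht) : t ∈ Hs D (P1 s c))
      obtain ⟨a, ha, e⟩ := mem_fs.1 ht
      exact ⟨t, mem_fs.2 ⟨a, ha, (s.Wm_eq t).trans e⟩, rfl⟩
  · rw [yb_zero f s ψ fun u h1 => e ⟨u, h1⟩, mul_zero]
    refine Finset.sum_eq_zero fun t ht => yb_zero f s ψ fun u h1 => ?_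
    obtain ⟨t, rfl⟩ := sw_of (subset_closure (mem_fs.1 ht) : t ∈ Hs D (P1 s c))
    exact e ⟨t⁻¹ * u, by rw [map_mul, map_inv, mul_assoc, h1, inv_mul_cancel_left]⟩

/-! ### the characters above `ψ` -/

variable {r : ℕ} [Fact r.Prime] {P : Subgroup ↥(GF F G)} {ψ : IrrCharacter ↥(GF F s.K)} (hu : Hu1 D r) (hs : s.For r P)
  (h1 : On1 s.E) (hc : Has (s.fr f) ψ u c)

include hu hs in
theorem ord_c {ξ : IrrCharacter ↥(GF F G)} (hr : RatR r (ξ : GF F G → ℂ)) (h0 : classInner (s.rs r P ξ) ψ ≠ 0)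
    (hc : Has (s.fr f) ψ u c) : ¬ r ∣ orderOf c := by
  refine Cf.lab (D := s.E) (s.fr f) (hu.big_GF.sm_rs hs.grp (sm_irr ξ.2 hr) hu.bd_one s.ι_injective hs.range)
    (hu.lt (i := 2) ?_ (by norm_num)) ψ.2 h0 hc
  rw [mul_one, sq]
  exact Nat.mul_le_mul (nb_le_sz1 D) (s.card_le.trans (hu.card_le.trans (pow_one _).le))

include hu in
theorem ord_c' {ξ : IrrCharacter ↥(GF F G)} (hr : RatR r (ξ : GF F G → ℂ)) (hc : Has f ξ w c) : ¬ r ∣ orderOf c :=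
  Cf.lab f (sm_irr ξ.2 hr) (hu.lt ((one_mul _).trans_le hu.card_le) (by norm_num)) ξ.2
    (by rw [classInner_irr_self ξ.2]; exact one_ne_zero) hc

include hu hs in
/-- **the top stratum** -/
theorem top (f : Fr D) (hT : Lab.Tight r s.ι P (ψ : GF F s.K → ℂ)) : ∃ T : Finset (IrrCharacter ↥(GF F s.K)), ψ ∈ T ∧
    (∀ φ ∈ T, φ.1 1 = ψ.1 1) ∧ ∀ ξ : IrrCharacter ↥(GF F G), RatR r ξ.1 → classInner (s.rs r P ξ) ψ ≠ 0 →
      ∃ a : ℤ, classInner (s.rs r P ξ) ψ = a ∧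
        ∀ u c, classInner ξ.1 (RW f (s.sw u * s.w) c) = a * ∑ φ ∈ T, classInner φ.1 (RW (s.fr f) u c) := by
  have := finite_irr (G := GF F s.K)
  have O : Lab.BoxOrb := Lab.boxOrb
  have h2 : ψ ∈ (Set.toFinite (Lab.Orb s.ι P ψ.1)).toFinset :=
    (Set.Finite.mem_toFinset _).2 ⟨1, one_mem _, fun y y' h1 => by rw [s.ι_injective (h1.trans (by simp) : s.ι y' = s.ι y)]⟩
  refine ⟨_, h2, fun φ hφ => ?_, fun ξ hr h0 => ?_⟩
  · obtain ⟨g, -, hg⟩ := (Set.Finite.mem_toFinset _).1 hφ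
    exact hg 1 1 (by rw [map_one, mul_one, mul_inv_cancel])
  obtain ⟨a, ha⟩ := O.orb hu.prime hu.big_GF hu.bd_one hs.grp s.ι_injective hs.range (sm_irr ξ.2 hr) hT h0
  have h3 : s.rs r P ξ = (a : ℂ) • ∑ φ ∈ (Set.toFinite (Lab.Orb s.ι P ψ.1)).toFinset, φ.1 := funext fun y =>
    (ha y).trans (by rw [finsum_mem_eq_finite_toFinset_sum, Pi.smul_apply, Finset.sum_apply, smul_eq_mul])
  refine ⟨a, ?_, fun u c => ?_⟩
  · rw [h3, classInner_smul_left, classInner_sum_left, Finset.sum_eq_single_of_mem ψ h2 fun φ _ h4 =>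
      classInner_irr_ne φ.2 ψ.2 fun e => h4 (Subtype.ext e), classInner_irr_self ψ.2, mul_one]
  · rw [← Cf.adj f s hu.ne hs (sm_irr ξ.2 hr) hu.bd_one, h3, classInner_smul_left, classInner_sum_left]

include h1 hc in
theorem del {T : Finset (IrrCharacter ↥(GF F s.K))} (h2 : ψ ∈ T) (h3 : ∀ φ ∈ T, φ.1 1 = ψ.1 1) : ∃ n : ℕ, 0 < n ∧
    ∑ u, (∑ φ ∈ T, classInner φ.1 (RW (s.fr f) u c)) * RW (s.fr f) u c 1 = n * (Nat.card (LV.Lab.St s.E c) * ψ.1 1) := by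
  classical
  refine ⟨(T.filter fun φ => ∃ u, Has (s.fr f) φ.1 u c).card, Finset.card_pos.2 ⟨ψ, Finset.mem_filter.2 ⟨h2, u, hc⟩⟩, ?_⟩
  simp only [Finset.sum_mul]
  rw [Finset.sum_comm, ← nsmul_eq_mul, ← Finset.sum_const, Finset.sum_filter]
  refine Finset.sum_congr rfl fun φ hφ => ?_
  split_ifs with h4
  · obtain ⟨u, h4⟩ := h4
    rw [← val_red (s.fr f) fun w c' => h1 _ _ φ.2 _ _ _ _ h4, h3 φ hφ]
  · exact Finset.sum_eq_zero fun u _ => mul_eq_zero_of_left (not_not.1 fun e => h4 ⟨u, e⟩) _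

include hu hs h1 hc in
theorem has_top (hT : Lab.Tight r s.ι P (ψ : GF F s.K → ℂ)) {ξ : IrrCharacter ↥(GF F G)} (hr : RatR r ξ.1)
    (h0 : classInner (s.rs r P ξ) ψ ≠ 0) : ∃ u, Has f ξ.1 (s.sw u * s.w) c := by
  obtain ⟨T, h2, h3, h4⟩ := top hu hs f hT
  obtain ⟨n, h5, h6⟩ := del h1 hc h2 h3
  obtain ⟨a, h7, h8⟩ := h4 ξ hr h0
  obtain ⟨u, -, h9⟩ := Finset.exists_ne_zero_of_sum_ne_zero (h6 ▸ mul_ne_zero (Nat.cast_ne_zero.2 h5.ne')
    (mul_ne_zero (Nat.cast_ne_zero.2 Nat.card_pos.ne') (irr_one_ne ψ.2)))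
  exact ⟨u, (h8 u c).trans_ne (mul_ne_zero (h7 ▸ h0) (left_ne_zero_of_mul h9))⟩

open Classical in
/-- **the sum of the multiplicity functions** -/
theorem sum_eq [Fintype (IrrCharacter ↥(GF F G))] {Γ : Set (IrrCharacter ↥(GF F G))} (h : ∀ ξ : IrrCharacter ↥(GF F G), Has f ξ.1 w c → ξ ∈ Γ) :
    ∑ ξ ∈ Finset.univ.filter fun ξ => ξ ∈ Γ ∧ classInner (s.rs r P ξ.1) ψ ≠ 0,
      classInner (s.rs r P ξ.1) ψ * classInner ξ.1 (RW f w c) = classInner (s.rs r P (RW f w c)) ψ := by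
  rw [expand, Finset.sum_filter_of_ne fun ξ _ e => ⟨h ξ (right_ne_zero_of_mul e), left_ne_zero_of_mul e⟩]

include hu hs h1 hc in
theorem ind0 (hr : ¬ r ∣ orderOf c') (hn : ¬ Cj (rts D) c c') (w : D.W) : classInner (s.rs r P (RW f w c')) ψ = 0 := by
  rw [ind_eq hu hs ψ.2 hr, Finset.sum_eq_zero fun v _ => not_not.1 fun e => ?_, mul_zero]
  obtain ⟨u', -, e⟩ := yb_ne e
  exact hn ((cj_sub (h1 _ _ ψ.2 _ _ _ _ hc e)).trans (cj_symm (cj_rel (rel_ac v c'))))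

include hu hs h1 hc in
theorem ind2 [Fintype (Hs D (P2 s c))] (h : St D j B) (hz : Cz p (rts D)) (hz' : Cz p (rts s.E)) (C : Cfg s c) (hr : ¬ r ∣ orderOf c)
    (w : D.W) : classInner (s.rs r P (RW f w c)) ψ = ∑ b : Hs D (P2 s c), yb f s ψ c (b * w * (D.Fw b)⁻¹) := by
  have := Fintype.ofFinite s.sw.range
  rw [ind_eq hu hs ψ.2 hr, sum_prod (A := s.sw.range) (B := Hs D (P2 s c)) ?_ 1 fun v e => ?_,
    Finset.sum_congr rfl fun (a : s.sw.range) _ => Finset.sum_congr rfl fun (b : Hs D (P2 s c)) _ =>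
      show yb f s ψ (ac D (a * b * 1) c) (a * b * 1 * w * (D.Fw (a * b * 1))⁻¹) = yb f s ψ c (b * w * (D.Fw b)⁻¹) from ?_,
    Finset.sum_const, Finset.card_univ, ← Nat.card_eq_fintype_card, ← Nat.card_congr (MonoidHom.ofInjective s.sw_injective).toEquiv,
    nsmul_eq_mul, inv_mul_cancel_left₀ (Nat.cast_ne_zero.2 Nat.card_pos.ne')]
  · obtain ⟨_, a, rfl⟩ := a
    refine (yb_conj h hs.qs (v := a) ?_ ?_).symm
    · show _ * _ = _
      rw [mul_one, map_mul]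
      group
    · rw [mul_one, ← ac_eq, ac_eq.2 (Rel.trans (rel2 b.2) (rel_ac (s.sw a) c))]
  · rintro _ ⟨a, rfl⟩ h2
    exact hs_disj e1 e2 C.ho _ (mem1 hz' hc.fo (rel2 h2)) h2
  · obtain ⟨u', -, e⟩ := yb_ne e
    obtain ⟨a, ha⟩ := cj_iff.1 (h1 _ _ ψ.2 _ _ _ _ hc e)
    obtain ⟨x, hx, b, hb, h2⟩ := dec C hz hc.fo ((rel_ac v c).trans (s.rel_iff.1 ha).symm)
    obtain ⟨x, rfl⟩ := sw_of hx
    exact ⟨_, ⟨a * x, rfl⟩, b, hb, by rw [map_mul, mul_one, mul_assoc, ← h2, mul_inv_cancel_left]⟩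

end Cfsg.Agent.BZ.RT.At
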