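import Cfsg.Agent.HZ.L.X.Bas

/-!
# BZ / RT (S4853) : the atom, the pure part (helper42)

* `indep` : the eigen-parts of a vanishing sum vanish;  `per` : the maximum principle;  `ext` : the extreme eigen-parts;
* `sum_prod`, `avg` : sums over products of subgroups;  `ratio` : the quotient of the degrees;  `det_fac` : determinants.
-/

set_option autoImplicit false
set_option linter.unusedSectionVars false

namespace Cfsg.Agent.BZ.RT.At

open Subgroup

theorem indep {ι V : Type*} [AddCommGroup V] [Module ℂ V] (T : Module.End ℂ V) (S : Finset ι) (κ : ι → ℂ) (y : ι → V)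
    (h : ∀ i ∈ S, T (y i) = κ i • y i) (h0 : ∑ i ∈ S, y i = 0) (k : ℂ) : ∑ i ∈ S with κ i = k, y i = 0 := by
  by_cases hk : k ∈ S.image κ
  · refine (iSupIndep_iff_finsetSum_eq_zero_imp_eq_zero _).1 T.eigenspaces_iSupIndep (S.image κ)
      (fun k => ∑ i ∈ S with κ i = k, y i) (fun k _ => sum_mem fun i hi => ?_) ?_ k hk
    · rw [Module.End.mem_eigenspace_iff, h i (Finset.mem_filter.1 hi).1, (Finset.mem_filter.1 hi).2]
    · rw [Finset.sum_fiberwise_of_maps_to fun i hi => Finset.mem_image_of_mem κ hi, h0]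
  · exact Finset.sum_eq_zero fun i hi =>
      absurd (Finset.mem_image.2 ⟨i, (Finset.mem_filter.1 hi).1, (Finset.mem_filter.1 hi).2⟩) hk

section Grp

variable {W : Type} [Group W] [Fintype W]

/-- the sum of the left translations by the elements of `R` -/
noncomputable def cs (R : Finset W) : Module.End ℂ (W → ℂ) := ∑ t ∈ R, LinearMap.funLeft ℂ ℂ (t * ·)

theorem cs_apply (R : Finset W) (y : W → ℂ) (w : W) : cs R y w = ∑ t ∈ R, y (t * w) := by
  rw [cs, LinearMap.sum_apply, Finset.sum_apply]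
  rfl

theorem cs_comm {R₁ R₂ : Finset W} (hc : ∀ a ∈ R₁, ∀ b ∈ R₂, a * b = b * a) (y : W → ℂ) : cs R₁ (cs R₂ y) = cs R₂ (cs R₁ y) :=
  funext fun w => by
    simp only [cs_apply]
    rw [Finset.sum_comm]
    exact Finset.sum_congr rfl fun b hb => Finset.sum_congr rfl fun a ha => by rw [← mul_assoc, ← hc a ha b hb, mul_assoc]

theorem per_re (R : Finset W) (g : W → ℝ) (h : ∀ w, ∑ t ∈ R, g (t * w) = R.card * g w) {t : W} (ht : t ∈ R) (w : W) :
    g (t * w) = g w := by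
  have h1 : ∀ t, ∑ w, g (t * w) ^ 2 = ∑ w, g w ^ 2 := fun t => Equiv.sum_comp (Equiv.mulLeft t) fun w => g w ^ 2
  have h2 : ∀ t, ∑ w, (g (t * w) - g w) ^ 2 = 2 * ∑ w, g w ^ 2 - 2 * ∑ w, g (t * w) * g w := fun t => by
    simp only [sub_sq, Finset.sum_add_distrib, Finset.sum_sub_distrib, h1, mul_assoc, ← Finset.mul_sum]
    ring
  have h3 : ∑ t ∈ R, ∑ w, g (t * w) * g w = R.card * ∑ w, g w ^ 2 := by
    rw [Finset.sum_comm, Finset.mul_sum]
    exact Finset.sum_congr rfl fun w _ => by rw [← Finset.sum_mul, h, sq, mul_assoc]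
  have h4 : ∑ t ∈ R, ∑ w, (g (t * w) - g w) ^ 2 = 0 := by
    simp only [h2, Finset.sum_sub_distrib, Finset.sum_const, ← Finset.mul_sum, h3, nsmul_eq_mul]
    ring
  have h5 := (Finset.sum_eq_zero_iff_of_nonneg fun t _ => Finset.sum_nonneg fun w _ => sq_nonneg _).1 h4 t ht
  exact sub_eq_zero.1 (pow_eq_zero_iff two_ne_zero |>.1
    ((Finset.sum_eq_zero_iff_of_nonneg fun w _ => sq_nonneg _).1 h5 w (Finset.mem_univ w)))

/-- the maximum principle -/
theorem per (R : Finset W) (g : W → ℂ) (h : ∀ w, ∑ t ∈ R, g (t * w) = R.card * g w) {x : W} (hx : x ∈ closure (R : Set W)) :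
    ∀ w, g (x * w) = g w := by
  induction hx using closure_induction with
  | mem t ht =>
    exact fun w => Complex.ext
      (per_re R (fun w => (g w).re) (fun w => by rw [← Complex.re_sum, h, Complex.mul_re, Complex.natCast_re, Complex.natCast_im, zero_mul, sub_zero]) ht w)
      (per_re R (fun w => (g w).im) (fun w => by rw [← Complex.im_sum, h, Complex.mul_im, Complex.natCast_re, Complex.natCast_im, zero_mul, add_zero]) ht w)
  | one => exact fun w => by rw [one_mul]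
  | mul x y _ _ h1 h2 => exact fun w => by rw [mul_assoc, h1, h2]
  | inv x _ h1 => exact fun w => by rw [← h1, mul_inv_cancel_left]

/-- **the extreme eigen-parts** -/
theorem ext {ι : Type*} {R₁ R₂ : Finset W} (hc : ∀ a ∈ R₁, ∀ b ∈ R₂, a * b = b * a) (ε : W →* ℂ) {e : ℂ} (he : e * e = 1)
    (hε : ∀ t ∈ R₂, ε t = e) {H : Subgroup W} [Fintype H] (hH : H = closure (R₂ : Set W)) (S : Finset ι) (κ : ι → ℂ)
    (y : ι → W → ℂ) (h : ∀ i ∈ S, cs R₁ (y i) + cs R₂ (y i) = κ i • y i) {κ₀ : ℂ}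
    (h0 : cs R₁ (∑ i ∈ S, y i) = κ₀ • ∑ i ∈ S, y i) (w : W) :
    (Nat.card H : ℂ) * (∑ i ∈ S with κ i = κ₀ + e * R₂.card, y i) w = ∑ x : H, ε x * (∑ i ∈ S, y i) (x * w) := by
  have h1 : ∀ k, cs R₂ (∑ i ∈ S with κ i = k, y i) = (k - κ₀) • ∑ i ∈ S with κ i = k, y i := fun k => by
    have h2 := indep (cs R₁ + cs R₂) S κ (fun i => cs R₁ (y i) - κ₀ • y i) (fun i hi => by
      rw [map_sub, map_smul, LinearMap.add_apply, LinearMap.add_apply, h i hi, ← cs_comm hc, ← map_add, h i hi, map_smul,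
        smul_sub, smul_comm]) (by rw [Finset.sum_sub_distrib, ← map_sum, ← Finset.smul_sum, h0, sub_self]) k
    rw [Finset.sum_sub_distrib, ← Finset.smul_sum, sub_eq_zero] at h2
    rw [sub_smul, ← h2, map_sum, eq_sub_iff_add_eq', ← Finset.sum_add_distrib, Finset.smul_sum]
    exact Finset.sum_congr rfl fun i hi => by rw [h i (Finset.mem_filter.1 hi).1, (Finset.mem_filter.1 hi).2]
  have h2 : ∀ z : W → ℂ, ∑ x : H, ε x * cs R₂ z (x * w) = e * R₂.card * ∑ x : H, ε x * z (x * w) := fun z => by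
    simp only [cs_apply, Finset.mul_sum]
    rw [Finset.sum_comm, ← Finset.mul_sum, mul_right_comm, mul_comm, ← nsmul_eq_mul, ← Finset.sum_const]
    refine Finset.sum_congr rfl fun t ht => ?_
    rw [← Equiv.sum_comp (Equiv.mulLeft (⟨t, hH ▸ subset_closure ht⟩ : H)) fun x => ε x * z (x * w), Finset.mul_sum]
    refine Finset.sum_congr rfl fun x _ => ?_
    show _ = e * (ε (t * x) * z (t * x * w))
    rw [map_mul, hε t ht, mul_assoc t]
    linear_combination (-ε x * z (t * (x * w))) * he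
  rw [← Finset.sum_fiberwise_of_maps_to (s := S) (t := insert (κ₀ + e * R₂.card) (S.image κ)) (g := κ)
    (fun i hi => Finset.mem_insert_of_mem (Finset.mem_image_of_mem κ hi)) y]
  conv_rhs => simp only [Finset.sum_apply (g := fun k => ∑ i ∈ S with κ i = k, y i), Finset.mul_sum]
  rw [Finset.sum_comm, Finset.sum_eq_single_of_mem _ (Finset.mem_insert_self _ _) fun k _ hk => ?_]
  · generalize ∑ i ∈ S with κ i = κ₀ + e * R₂.card, y i = z, h1 (κ₀ + e * R₂.card) = h3 at *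
    rw [Nat.card_eq_fintype_card, ← nsmul_eq_mul, ← Finset.card_univ, ← Finset.sum_const]
    refine Finset.sum_congr rfl fun x _ => ?_
    have h4 := per R₂ (fun w => ε w * z w) (fun w => by
      have h4 := congrFun h3 w
      rw [cs_apply, Pi.smul_apply, smul_eq_mul] at h4
      rw [Finset.sum_congr rfl fun t ht => by rw [map_mul, hε t ht], ← Finset.mul_sum, h4]
      linear_combination (ε w * R₂.card * z w) * he) (hH.le x.2) w
    refine mul_left_cancel₀ (a := ε w) (fun h5 => ?_) (by rw [← h4, map_mul]; ring)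
    have h6 := map_mul ε w w⁻¹
    rw [mul_inv_cancel, map_one, h5, zero_mul] at h6
    exact one_ne_zero h6
  · have h3 := h2 (∑ i ∈ S with κ i = k, y i)
    simp only [h1, Pi.smul_apply, smul_eq_mul, mul_left_comm _ (k - κ₀), ← Finset.mul_sum] at h3
    exact (mul_eq_mul_right_iff.1 h3).resolve_left fun h4 => hk (by rw [← h4, add_sub_cancel])

theorem sum_prod {A B : Subgroup W} [Fintype A] [Fintype B] (hd : ∀ x ∈ A, x ∈ B → x = 1) (w₀ : W) {g : W → ℂ}
    (h : ∀ w, g w ≠ 0 → ∃ a ∈ A, ∃ b ∈ B, w = a * b * w₀) : ∑ w, g w = ∑ a : A, ∑ b : B, g (a * b * w₀) := by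
  rw [← Fintype.sum_prod_type']
  refine (Fintype.sum_of_injective (fun x : A × B => (x.1 : W) * x.2 * w₀) (fun x y e => ?_) _ _ (fun w hw => ?_) fun _ => rfl).symm
  · have e1 : (x.1 : W) * x.2 = y.1 * y.2 := mul_right_cancel e
    have e2 : ((y.1⁻¹ * x.1 : A) : W) = (y.2 * x.2⁻¹ : B) := by
      rw [coe_mul, coe_mul, coe_inv, coe_inv, inv_mul_eq_iff_eq_mul, ← mul_assoc, ← e1, mul_inv_cancel_right]
    have e3 := hd _ (y.1⁻¹ * x.1).2 (e2 ▸ (y.2 * x.2⁻¹).2)
    exact Prod.ext (inv_mul_eq_one.1 (Subtype.ext e3)).symm (mul_inv_eq_one.1 (Subtype.ext (e2.symm.trans e3))).symm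
  · by_contra h0
    obtain ⟨a, ha, b, hb, rfl⟩ := h w h0
    exact hw ⟨(⟨a, ha⟩, ⟨b, hb⟩), rfl⟩

open Classical in
/-- the average of an induced function -/
theorem avg {A B : Subgroup W} [Fintype B] (hc : ∀ a ∈ A, ∀ b ∈ B, a * b = b * a) (hd : ∀ x ∈ A, x ∈ B → x = 1) {φ : W → W}
    (hφ : ∀ x ∈ B, φ x ∈ B) (ε : W →* ℂ) (hε : ∀ x, ε (φ x) = ε x) (hε' : ∀ x, ε x * ε x = 1) {y : W → ℂ}
    (h1 : ∀ x, x ∉ A → y x = 0) {a b : W} (ha : a ∈ A) (hb : b ∈ B) :
    ∑ z : B, ε z * ∑ v : B, y (v * (z * (a * b)) * (φ v)⁻¹) = Nat.card B * (ε b * y a) := by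
  simp only [Finset.mul_sum]
  rw [Finset.sum_comm, Nat.card_eq_fintype_card, ← nsmul_eq_mul, ← Finset.card_univ, ← Finset.sum_const]
  refine Finset.sum_congr rfl fun v _ => ?_
  have h2 : ∀ z : B, v * (z * (a * b)) * (φ v)⁻¹ = a * (v * z * b * (φ v)⁻¹) := fun z => by
    rw [← mul_assoc (v : W), ← mul_assoc _ a, ← hc a ha _ (mul_mem v.2 z.2)]
    group
  rw [Finset.sum_eq_single_of_mem (v⁻¹ * ⟨φ v, hφ _ v.2⟩ * (⟨b, hb⟩ : B)⁻¹) (Finset.mem_univ _) fun z _ hz => ?_]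
  · rw [h2]
    simp only [coe_mul, coe_inv, map_mul, hε]
    have h3 : ∀ x, ε x⁻¹ = ε x := fun x => by
      rw [← one_mul (ε x⁻¹), ← hε' x, mul_assoc, ← map_mul, mul_inv_cancel, map_one, mul_one]
    rw [h3, h3, hε', one_mul]
    congr 2
    group
  · rw [h2, h1 _ fun h3 => hz ?_, mul_zero]
    have h4 := hd _ ((mul_mem_cancel_left ha).1 h3) (mul_mem (mul_mem (mul_mem v.2 z.2) hb) (inv_mem (hφ _ v.2)))
    refine Subtype.ext ?_
    show (z : W) = (v : W)⁻¹ * φ v * b⁻¹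
    rw [← mul_inv_eq_one.1 h4]
    group

end Grp

/-- the quotient of the degrees -/
theorem ratio {g h : ℝ} (hg : |g| < h) {Q i j : ℕ} (hQ : 1 < Q) {a b d d' u u' : ℂ} (h1 : d ^ 2 = a ^ 2 * g ^ 2)
    (h2 : d' ^ 2 = a ^ 2 * h ^ 2) (h3 : u ^ 2 = b ^ 2 * h ^ 2) (h4 : u' ^ 2 = b ^ 2 * g ^ 2) (h5 : u ^ 2 = (Q : ℂ) ^ i * d ^ 2)
    (h6 : u' ^ 2 = (Q : ℂ) ^ j * d' ^ 2) (h0 : d ≠ 0) : ∃ J, 0 < J ∧ J ≤ i ∧ d' ^ 4 = (Q : ℂ) ^ J * d ^ 4 := by
  have h7 : a ^ 2 ≠ 0 := fun e => h0 (pow_eq_zero_iff two_ne_zero |>.1 (by rw [h1, e, zero_mul]))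
  have h8 : (Q : ℂ) ^ j * h ^ 4 = (Q : ℂ) ^ i * g ^ 4 := mul_left_cancel₀ h7 (by
    linear_combination (-(Q : ℂ) ^ j * h ^ 2) * h2 - (h : ℂ) ^ 2 * h6 + (h : ℂ) ^ 2 * h4 - (g : ℂ) ^ 2 * h3 + (g : ℂ) ^ 2 * h5 +
      (Q : ℂ) ^ i * g ^ 2 * h1)
  have h9 : (Q : ℝ) ^ j * h ^ 4 = (Q : ℝ) ^ i * g ^ 4 := by exact_mod_cast h8
  have h10 : g ^ 4 < h ^ 4 := by
    rw [← (show Even 4 by decide).pow_abs g]
    exact pow_lt_pow_left₀ hg (abs_nonneg g) four_ne_zero
  have h11 : (1 : ℝ) < Q := Nat.one_lt_cast.2 hQ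
  have h12 : j < i := by
    by_contra h12
    have h13 := pow_le_pow_right₀ h11.le (not_lt.1 h12)
    have h14 : (0 : ℝ) < Q ^ i := by positivity
    have h15 : 0 ≤ h ^ 4 := by positivity
    nlinarith
  obtain ⟨J, rfl⟩ := Nat.exists_eq_add_of_lt h12
  refine ⟨J + 1, J.succ_pos, by omega, ?_⟩
  rw [add_assoc, pow_add, mul_assoc] at h8
  have h13 := mul_left_cancel₀ (pow_ne_zero j (Nat.cast_ne_zero.2 (by omega))) h8
  linear_combination (d' ^ 2 + a ^ 2 * h ^ 2) * h2 - (Q : ℂ) ^ (J + 1) * (d ^ 2 + a ^ 2 * g ^ 2) * h1 + a ^ 4 * h13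

open Matrix in
/-- determinants of products -/
theorem det_fac {R : Type} [Fintype R] [DecidableEq R] {A X X' : Matrix R R ℤ} {d : ℕ} {t : ℤ} (hA : A ^ d = t • 1) (ht : t ≠ 1)
    (h : ∀ i : ℕ, (X - 1) * A ^ i * (X' - 1) = 0) :
    (X * X' * A - 1).det * (A - 1).det = (X * A - 1).det * (X' * A - 1).det := by
  set M := ∑ i ∈ Finset.range d, A ^ i with hM
  have h1 : M * (A - 1) = (t - 1) • 1 := by rw [geom_sum_mul, hA, sub_smul, one_smul]
  have h2 : (X - 1) * (A * M) * (X' - 1) = 0 := by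
    simp only [hM, Finset.mul_sum, Finset.sum_mul, ← pow_succ', h, Finset.sum_const_zero]
  have h3 := h 0
  rw [pow_zero, mul_one] at h3
  have h4 : ∀ Z : Matrix R R ℤ, M * (Z * A - 1) = (t - 1) • 1 + M * (Z - 1) * A := fun Z => by rw [← h1]; noncomm_ring
  have h5 : M * (X * A - 1) * (M * (X' * A - 1)) = M * (A - 1) * (M * (X * X' * A - 1)) := by
    have h6 : M * (X - 1) * A * (M * (X' - 1) * A) = 0 := by
      rw [show M * (X - 1) * A * (M * (X' - 1) * A) = M * ((X - 1) * (A * M) * (X' - 1)) * A by noncomm_ring, h2, mul_zero, zero_mul]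
    have h7 : X * X' - 1 = X - 1 + (X' - 1) := by rw [← add_zero (X - 1 + _), ← h3]; noncomm_ring
    rw [h4, h4, h4 (X * X'), h1, h7, add_mul, mul_add, mul_add, h6]
    simp only [smul_mul_assoc, mul_smul_comm, one_mul, mul_one, mul_add, add_mul, smul_add, add_zero]
    abel
  have h6 : M.det ≠ 0 := fun e => by
    have h6 := congrArg det h1
    rw [det_mul, e, zero_mul, det_smul, det_one, mul_one] at h6
    exact pow_ne_zero _ (sub_ne_zero.2 ht) h6.symm
  have h7 := congrArg det h5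
  simp only [det_mul] at h7
  exact mul_left_cancel₀ (mul_ne_zero h6 h6) (by linear_combination -h7)

end Cfsg.Agent.BZ.RT.At
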