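import Cfsg.Agent.BZ.RT.AtP

/-!
# BZ / RT (S4853) : extreme eigen-parts for a product (helper42)

* `cs_bound` : the eigenvalues of `cs R`;  `qs` : a product of linear factors;  `ext2` : the first factor has several eigenvalues.
-/

set_option autoImplicit false
set_option linter.unusedSectionVars false

namespace Cfsg.Agent.BZ.RT.At

open Subgroup

variable {W : Type} [Group W] [Fintype W]

theorem cs_bound (R : Finset W) {y : W → ℂ} {k : ℂ} (h : cs R y = k • y) (hk : (R.card : ℝ) < ‖k‖) : y = 0 := by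
  obtain ⟨w, -, hw⟩ := Finset.exists_max_image Finset.univ (fun w => ‖y w‖) ⟨1, Finset.mem_univ _⟩
  have h1 : ‖k‖ * ‖y w‖ ≤ R.card * ‖y w‖ := by
    rw [← norm_mul, ← smul_eq_mul, ← Pi.smul_apply, ← h, cs_apply, ← nsmul_eq_mul, ← Finset.sum_const]
    exact norm_sum_le_of_le _ fun t _ => hw _ (Finset.mem_univ _)
  have h2 : ‖y w‖ ≤ 0 := not_lt.1 fun e => (mul_lt_mul_of_pos_right hk e).not_ge h1
  exact funext fun v => norm_le_zero_iff.1 ((hw v (Finset.mem_univ _)).trans h2)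

/-- the product of the operators `cs R - κ` -/
noncomputable def qs (R : Finset W) (L : List ℂ) (y : W → ℂ) : W → ℂ := L.foldr (fun κ z => cs R z - κ • z) y

theorem qs_nil (R : Finset W) (y : W → ℂ) : qs R [] y = y := rfl

theorem qs_cons (R : Finset W) (κ : ℂ) (L : List ℂ) (y : W → ℂ) : qs R (κ :: L) y = cs R (qs R L y) - κ • qs R L y := rfl

theorem qs_map (R : Finset W) (L : List ℂ) (T : Module.End ℂ (W → ℂ)) (h : ∀ y, T (cs R y) = cs R (T y)) (y : W → ℂ) :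
    T (qs R L y) = qs R L (T y) := by
  induction L with
  | nil => rfl
  | cons κ L ih => rw [qs_cons, qs_cons, map_sub, map_smul, h, ih]

theorem qs_sum {ι : Type*} (R : Finset W) (L : List ℂ) (S : Finset ι) (y : ι → W → ℂ) :
    qs R L (∑ i ∈ S, y i) = ∑ i ∈ S, qs R L (y i) := by
  induction L with
  | nil => rfl
  | cons κ L ih => simp only [qs_cons, ih, map_sum, Finset.smul_sum, Finset.sum_sub_distrib]

theorem qs_eig (R : Finset W) (L : List ℂ) {y : W → ℂ} {k : ℂ} (h : cs R y = k • y) : qs R L y = (L.map (k - ·)).prod • y := by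
  induction L with
  | nil => exact (one_smul _ _).symm
  | cons κ L ih => rw [qs_cons, ih, map_smul, h, List.map_cons, List.prod_cons, smul_smul, smul_smul, ← sub_smul, sub_mul, mul_comm k]

theorem qs_smul (R : Finset W) (L : List ℂ) (a : ℂ) (y : W → ℂ) : qs R L (a • y) = a • qs R L y :=
  (qs_map R L (a • LinearMap.id) (fun y => (map_smul (cs R) a y).symm) y).symm

theorem qs_inj {R₁ R₂ : Finset W} (hc : ∀ a ∈ R₁, ∀ b ∈ R₂, a * b = b * a) {k : ℂ} {L : List ℂ}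
    (hL : ∀ κ ∈ L, (R₂.card : ℝ) < ‖k - κ‖) {y : W → ℂ} (h : cs R₁ y + cs R₂ y = k • y) (h0 : qs R₁ L y = 0) : y = 0 := by
  induction L with
  | nil => exact h0
  | cons κ L ih =>
    refine ih (fun κ' e => hL κ' (List.mem_cons_of_mem _ e)) (cs_bound R₂ ?_ (hL κ List.mem_cons_self))
    have h1 := qs_map R₁ L (cs R₁ + cs R₂) (fun y => by rw [LinearMap.add_apply, LinearMap.add_apply, map_add, cs_comm hc]) y
    rw [LinearMap.add_apply, LinearMap.add_apply, h, qs_smul, sub_eq_zero.1 ((qs_cons _ _ _ _).symm.trans h0)] at h1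
    rw [sub_smul, ← h1, add_sub_cancel_left]

/-- **the extreme eigen-parts**; `κ₀` and the members of `L` are the eigenvalues of the first factor -/
theorem ext2 {ι : Type*} {R₁ R₂ : Finset W} (hc : ∀ a ∈ R₁, ∀ b ∈ R₂, a * b = b * a) (ε : W →* ℂ) {e : ℂ} (he : e * e = 1)
    (hε : ∀ t ∈ R₂, ε t = e) {H : Subgroup W} [Fintype H] (hH : H = closure (R₂ : Set W)) (S : Finset ι) (κ : ι → ℂ)
    (y : ι → W → ℂ) (h : ∀ i ∈ S, cs R₁ (y i) + cs R₂ (y i) = κ i • y i) {κ₀ : ℂ} {L : List ℂ}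
    (hL : ∀ k ∈ L, (R₂.card : ℝ) < ‖κ₀ + e * R₂.card - k‖) (h0 : qs R₁ (κ₀ :: L) (∑ i ∈ S, y i) = 0) (w : W) :
    (Nat.card H : ℂ) * ((L.map (κ₀ - ·)).prod * (∑ i ∈ S with κ i = κ₀ + e * R₂.card, y i) w) =
      ∑ x : H, ε x * qs R₁ L (∑ i ∈ S, y i) (x * w) := by
  have h1 : ∀ (L : List ℂ) i, i ∈ S → cs R₁ (qs R₁ L (y i)) + cs R₂ (qs R₁ L (y i)) = κ i • qs R₁ L (y i) := fun L i hi => by
    have h1 := qs_map R₁ L (cs R₁ + cs R₂) (fun y => by rw [LinearMap.add_apply, LinearMap.add_apply, map_add, cs_comm hc]) (y i)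
    rwa [LinearMap.add_apply, LinearMap.add_apply, h i hi, qs_smul] at h1
  have h2 := ext hc ε he hε hH S κ (fun i => qs R₁ L (y i)) (h1 L) (κ₀ := κ₀) (by
    rw [← qs_sum]
    exact sub_eq_zero.1 h0) w
  have h3 := indep (cs R₁ + cs R₂) S κ (fun i => qs R₁ (κ₀ :: L) (y i)) (h1 _) (by rw [← qs_sum, h0]) (κ₀ + e * R₂.card)
  have h4 : cs R₁ (∑ i ∈ S with κ i = κ₀ + e * R₂.card, y i) + cs R₂ (∑ i ∈ S with κ i = κ₀ + e * R₂.card, y i) =
      (κ₀ + e * R₂.card) • ∑ i ∈ S with κ i = κ₀ + e * R₂.card, y i := by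
    rw [map_sum, map_sum, ← Finset.sum_add_distrib, Finset.smul_sum]
    exact Finset.sum_congr rfl fun i hi => by rw [h i (Finset.mem_filter.1 hi).1, (Finset.mem_filter.1 hi).2]
  rw [← qs_sum] at h3
  rw [← qs_sum, ← qs_sum] at h2
  generalize ∑ i ∈ S with κ i = κ₀ + e * R₂.card, y i = z at h2 h3 h4 ⊢
  have h5 := qs_inj hc hL (y := cs R₁ z - κ₀ • z) (by
    rw [map_sub, map_sub, map_smul, map_smul, ← cs_comm hc, sub_add_sub_comm, ← map_add, ← smul_add, h4, map_smul, smul_sub,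
      smul_comm κ₀]) ((qs_map R₁ L (cs R₁ - κ₀ • LinearMap.id) (fun y => by
        rw [LinearMap.sub_apply, LinearMap.sub_apply, map_sub]
        exact congrArg _ (map_smul (cs R₁) κ₀ y).symm) z).symm.trans h3)
  rw [← h2, qs_eig R₁ L (sub_eq_zero.1 h5), Pi.smul_apply, smul_eq_mul]

end Cfsg.Agent.BZ.RT.At
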