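import Cfsg.Agent.BZ.RT.AtG
import Cfsg.Agent.BZ.RT.AtQ

/-!
# BZ / RT (S4853) : a core times a toral factor (helper42)

* `ind1` : the induced function as a sum over the stabiliser;  `J1`, `ind3` : the function of the first factor;
* `prodG` : the second factor is not empty;  `coreG` : the second factor is empty.
-/

set_option autoImplicit false
set_option linter.unusedSectionVars false
set_option maxHeartbeats 400000

namespace Cfsg.Agent.BZ.RT.At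

open Cfsg Cfsg.Agent.DL Cfsg.Agent.DL.PP Matrix Cfsg.Agent.KZ.Lie Cfsg.Agent.HZ.Gen Cfsg.Agent.HZ.L Cfsg.Agent.OM.On
  Cfsg.Agent.Characters.Core Subgroup Cfsg.Agent.DL.Uni Cfsg.Agent.OddOrderCharacters.VChar
open Cfsg.Agent.HZ.L.X (Zc Qv)
open Cfsg.Agent.LV.Lab (ac rel_ac ac_eq)

theorem sum_prod' {W : Type} [Group W] [Fintype W] (A B : Subgroup W) [Fintype A] [Fintype B] {g : W → ℂ}
    (h : ∀ w, g w ≠ 0 → ∃ a ∈ A, ∃ b ∈ B, w = a * b) : (Nat.card ↥(A ⊓ B) : ℂ) * ∑ w, g w = ∑ a : A, ∑ b : B, g (a * b) := by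
  rw [← Fintype.sum_prod_type' fun (a : A) (b : B) => g (a * b), sum_fib (fun x : A × B => (x.1 : W) * x.2) g, Finset.mul_sum]
  refine Finset.sum_congr rfl fun w _ => ?_
  by_cases e : g w = 0
  · rw [e, mul_zero, mul_zero]
  obtain ⟨a, ha, b, hb, rfl⟩ := h w e
  refine congrArg (fun n : ℕ => (n : ℂ) * _) (Nat.card_congr ⟨fun x => ⟨(⟨a * x, A.mul_mem ha x.2.1⟩, ⟨(x : W)⁻¹ * b,
    B.mul_mem (B.inv_mem x.2.2) hb⟩), by rw [mul_assoc, mul_inv_cancel_left]⟩,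
    fun x => ⟨a⁻¹ * x.1.1, A.mul_mem (A.inv_mem ha) x.1.1.2, ?_⟩,
    fun x => Subtype.ext (inv_mul_cancel_left _ _), fun x => Subtype.ext (Prod.ext (Subtype.ext (mul_inv_cancel_left _ _))
      (Subtype.ext ?_))⟩)
  · have e : (x.1.1 : W) * x.1.2 = a * b := x.2
    rw [show a⁻¹ * x.1.1 = b * (x.1.2 : W)⁻¹ by rw [eq_mul_inv_iff_mul_eq, mul_assoc, e, inv_mul_cancel_left]]
    exact B.mul_mem hb (B.inv_mem x.1.2.2)
  · have e : (x.1.1 : W) * x.1.2 = a * b := x.2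
    show (a⁻¹ * x.1.1)⁻¹ * b = x.1.2
    rw [inv_mul_eq_iff_eq_mul, mul_assoc, e, inv_mul_cancel_left]

theorem qs_supp {W : Type} [Group W] [Fintype W] {R : Finset W} {H : Subgroup W} (hR : ∀ t ∈ R, t ∈ H) (w : W) {y : W → ℂ}
    (h : ∀ x, x ∉ H → y (x * w) = 0) (L : List ℂ) : ∀ x, x ∉ H → qs R L y (x * w) = 0 := by
  induction L with
  | nil => exact h
  | cons κ L ih =>
    intro x hx
    rw [qs_cons, Pi.sub_apply, Pi.smul_apply, ih x hx, smul_zero, sub_zero, cs_apply]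
    exact Finset.sum_eq_zero fun t ht => by
      rw [← mul_assoc]
      exact ih _ fun e => hx ((mul_mem_cancel_left (hR t ht)).1 e)

variable {p : ℕ} [Fact p.Prime] {k : Type} [Field k] [CharP k p] [IsAlgClosed k] {Y : Type} [Group Y] {N : Type}
  [Fintype N] [DecidableEq N] {ρ : Y →* GL N k} {F : MulAut Y} {G : Subgroup Y} {D : Datum p ρ F G}
  {j : ℕ} {B A : Mat D.R} {c : Lbl D} {s : Sb D} {u : s.E.W} {Ψ₁ Ψ₂ : RS D.R} {x : D.W}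

section Dc

variable (C : Dec (Zc (rts D) c) Ψ₁ Ψ₂ A)
include C

theorem d1 : Ψ₁ ⊆ Zc (rts D) c := C.union ▸ Set.subset_union_left

theorem d2 : Ψ₂ ⊆ Zc (rts D) c := C.union ▸ Set.subset_union_right

theorem f1 : Ψ₁ ⊆ rts D := fun _ h => (d1 C h).1

theorem f2 : Ψ₂ ⊆ rts D := fun _ h => (d2 C h).1

theorem fo : ∀ a ∈ Ψ₁, ∀ b ∈ Ψ₂, a.1 ⬝ᵥ b.2 = 0 := fun a ha b hb => (C.orth a ha b hb).1

theorem r1 (hx : x ∈ Hs D Ψ₁) : Rel D x c c := tl_of_cor (fun _ ha => (d1 C ha).2) ((mem_Hs (f1 C)).1 hx)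

theorem r2 (hx : x ∈ Hs D Ψ₂) : Rel D x c c := tl_of_cor (fun _ ha => (d2 C ha).2) ((mem_Hs (f2 C)).1 hx)

theorem dec2 (hz : Cz p (rts D)) (hc : Fo p c) (h : Rel D x c c) : ∃ a ∈ Hs D Ψ₁, ∃ b ∈ Hs D Ψ₂, x = a * b := by
  have h1 := hs_comm (f1 C) (f2 C) (fo C)
  let H : Subgroup D.W :=
    { carrier := {x | ∃ a ∈ Hs D Ψ₁, ∃ b ∈ Hs D Ψ₂, x = a * b}
      one_mem' := ⟨1, one_mem _, 1, one_mem _, (mul_one _).symm⟩
      mul_mem' := by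
        rintro _ _ ⟨a, ha, b, hb, rfl⟩ ⟨a', ha', b', hb', rfl⟩
        exact ⟨_, mul_mem ha ha', _, mul_mem hb hb', by rw [mul_assoc, ← mul_assoc b, ← h1 a' ha' b hb]; simp only [mul_assoc]⟩
      inv_mem' := by
        rintro _ ⟨a, ha, b, hb, rfl⟩
        exact ⟨_, inv_mem ha, _, inv_mem hb, by rw [h1 a ha b hb, _root_.mul_inv_rev]⟩ }
  refine X.stab_le hz hc (H := H) (fun a ha h2 => ?_) h
  rcases C.union.le (show (D.wt a, D.cor a) ∈ Zc (rts D) c from ⟨rt_mem ha, h2⟩) with h3 | h3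
  · exact ⟨_, subset_closure ⟨_, h3, (rfm_eq ha).symm⟩, 1, one_mem _, (mul_one _).symm⟩
  · exact ⟨1, one_mem _, _, subset_closure ⟨_, h3, (rfm_eq ha).symm⟩, (one_mul _).symm⟩

theorem cs_add2 [Fintype D.W] (z : D.W → ℂ) : cs (fs D (Zc (rts D) c)) z = cs (fs D Ψ₁) z + cs (fs D Ψ₂) z := by
  classical
  funext w
  rw [Pi.add_apply, cs_apply, cs_apply, cs_apply, ← Finset.sum_union (Finset.disjoint_left.2 fun t h1 h2 => ?_)]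
  · refine Finset.sum_congr (Finset.ext fun t => ?_) fun _ _ => rfl
    rw [Finset.mem_union, mem_fs, mem_fs, mem_fs]
    exact ⟨fun ⟨a, ha, e⟩ => (C.union.le ha).imp (fun h => ⟨a, h, e⟩) fun h => ⟨a, h, e⟩,
      fun h => h.elim (fun ⟨a, ha, e⟩ => ⟨a, d1 C ha, e⟩) fun ⟨a, ha, e⟩ => ⟨a, d2 C ha, e⟩⟩
  · have h3 := sg_rs (f1 C) (mem_fs.1 h1)
    rw [hs_disj (f1 C) (f2 C) (fo C) t (subset_closure (mem_fs.1 h1)) (subset_closure (mem_fs.1 h2)), map_one] at h3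
    omega

end Dc

theorem hs_mono (h : Ψ₁ ⊆ Ψ₂) : Hs D Ψ₁ ≤ Hs D Ψ₂ := closure_mono fun _ ⟨a, ha, e⟩ => ⟨a, h ha, e⟩

variable [Fintype D.W] [Fintype ↥(GF F G)] {f : Fr D} [Fintype ↥(GF F s.K)]
  [Fintype s.E.W] {r : ℕ} [Fact r.Prime] {P : Subgroup ↥(GF F G)} {ψ : IrrCharacter ↥(GF F s.K)}
  {Γ : Set (IrrCharacter ↥(GF F G))}
  (h : St D j B) (hz : Cz p (rts D)) (hz' : Cz p (rts s.E)) (hu : Hu1 D r) (hs : s.For r P) (h1 : On1 s.E) (hΓ : Cls f r Γ)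
  (hT : Lab.Tight r s.ι P (ψ : GF F s.K → ℂ)) (h0 : ∃ ξ ∈ Γ, classInner (s.rs r P ξ.1) ψ ≠ 0) (hc : Has (s.fr f) ψ u c)

include hz' hc in
theorem top_mem' {u' : s.E.W} (e : Fx s.E u' c) : ∃ x ∈ Hs D (P1 s c), s.sw u' * s.w = x * (s.sw u * s.w) := by
  obtain ⟨d, i, L⟩ := exists_lvl s.E
  exact ⟨_, mem1 hz' hc.fo (s.rel_iff.1 (hc.fx.div e L)), by rw [map_mul, map_inv, mul_assoc, inv_mul_cancel_left]⟩

include h hu hs h1 hc in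
/-- **the induced function as a sum over the stabiliser** -/
theorem ind1 [Fintype (LV.Lab.St D c)] (hr : ¬ r ∣ orderOf c) (w : D.W) : classInner (s.rs r P (RW f w c)) ψ =
    (Nat.card ↥(s.sw.range ⊓ LV.Lab.St D c) : ℂ)⁻¹ * ∑ b : LV.Lab.St D c, yb f s ψ c (b * w * (D.Fw b)⁻¹) := by
  have := Fintype.ofFinite s.sw.range
  rw [ind_eq hu hs ψ.2 hr, eq_inv_mul_iff_mul_eq₀ (Nat.cast_ne_zero.2 Nat.card_pos.ne'), mul_left_comm,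
    sum_prod' s.sw.range (LV.Lab.St D c) fun v e => ?_,
    Finset.sum_congr rfl fun (a : s.sw.range) _ => Finset.sum_congr rfl fun (b : LV.Lab.St D c) _ =>
      show yb f s ψ (ac D (a * b) c) (a * b * w * (D.Fw (a * b))⁻¹) = yb f s ψ c (b * w * (D.Fw b)⁻¹) from ?_,
    Finset.sum_const, Finset.card_univ, ← Nat.card_eq_fintype_card, ← Nat.card_congr (MonoidHom.ofInjective s.sw_injective).toEquiv,
    nsmul_eq_mul, inv_mul_cancel_left₀ (Nat.cast_ne_zero.2 Nat.card_pos.ne')]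
  · obtain ⟨_, a, rfl⟩ := a
    refine (yb_conj h hs.qs (v := a) ?_ ?_).symm
    · show _ * _ = _
      rw [map_mul]
      group
    · rw [← ac_eq, ac_eq.2 (Rel.trans b.2 (rel_ac (s.sw a) c))]
  · obtain ⟨u', -, e⟩ := yb_ne e
    obtain ⟨a, ha⟩ := cj_iff.1 (h1 _ _ ψ.2 _ _ _ _ hc e)
    exact ⟨_, ⟨a, rfl⟩, _, (rel_ac v c).trans (s.rel_iff.1 ha).symm, (mul_inv_cancel_left _ _).symm⟩

/-- the function which is induced to the first factor -/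
noncomputable def J1 (f : Fr D) (s : Sb D) [Fintype ↥(GF F s.K)] (c : Lbl D) (Ψ₁ : RS D.R) (ψ : IrrCharacter ↥(GF F s.K))
    [Fintype (Hs D Ψ₁)] (w : D.W) : ℂ :=
  (Nat.card (Hs D (P1 s c)) : ℂ)⁻¹ * ∑ v : Hs D Ψ₁, yb f s ψ c (v * w * (D.Fw v)⁻¹)

variable [Fintype (Hs D Ψ₁)] [Fintype (Hs D Ψ₂)] (C : Dec (Zc (rts D) c) Ψ₁ Ψ₂ (D.Wm (s.sw u * s.w) * B)) (hb : P1 s c ⊆ Ψ₁)

include h hz hz' hu hs h1 hc C in
theorem ind3 (hr : ¬ r ∣ orderOf c) (w : D.W) :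
    classInner (s.rs r P (RW f w c)) ψ = ∑ b : Hs D Ψ₂, J1 f s c Ψ₁ ψ (b * w * (D.Fw b)⁻¹) := by
  classical
  have k1 : s.sw.range ⊓ LV.Lab.St D c = Hs D (P1 s c) := Subgroup.ext fun x =>
    ⟨fun ⟨⟨a, e⟩, e'⟩ => e ▸ mem1 hz' hc.fo (e.symm ▸ e'), fun e => ⟨sw_of e, rel1 e⟩⟩
  have k2 := sum_prod (hs_disj (f1 C) (f2 C) (fo C)) 1
    (g := fun b => if b ∈ LV.Lab.St D c then yb f s ψ c (b * w * (D.Fw b)⁻¹) else 0) fun b e => by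
      obtain ⟨x, hx, y, hy, e'⟩ := dec2 C hz hc.fo (x := b) (by_contra fun e' => e (if_neg e'))
      exact ⟨x, hx, y, hy, e'.trans (mul_one _).symm⟩
  rw [← Finset.sum_filter, Finset.sum_subtype (p := (· ∈ LV.Lab.St D c)) _ (fun x => by simp), Finset.sum_comm] at k2
  rw [ind1 h hu hs h1 hc hr, k1, k2, Finset.mul_sum]
  refine Finset.sum_congr rfl fun b _ => congrArg _ (Finset.sum_congr rfl fun a _ => ?_)
  rw [mul_one, if_pos (show (a : D.W) * b ∈ LV.Lab.St D c from (r2 C b.2).trans (r1 C a.2)), map_mul]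
  congr 1
  group

include h hz' hc C hb in
theorem J1_supp (hx : x ∉ Hs D Ψ₁) : J1 f s c Ψ₁ ψ (x * (s.sw u * s.w)) = 0 :=
  mul_eq_zero_of_right _ (Finset.sum_eq_zero fun v _ => by_contra fun e => by
    obtain ⟨u', k1, k2⟩ := yb_ne e
    obtain ⟨y, hy, k3⟩ := top_mem' hz' hc k2.fx
    refine hx ?_
    rw [show x = (v : D.W)⁻¹ * y * (s.sw u * s.w * D.Fw v * (s.sw u * s.w)⁻¹) by
      rw [mul_assoc _ y, ← mul_assoc y, ← mul_assoc y, ← k3, k1]; group]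
    exact mul_mem (mul_mem (inv_mem v.2) (hs_mono hb hy)) (hs_tw h (f1 C) C.nm₁ v.2))

include h hz hz' hu hs h1 hΓ hT h0 hc C hb in
/-- the member which belongs to a sign character of the second factor -/
theorem one2 (ε : D.W →* ℂ) {e : ℂ} (he : e * e = 1) (hε : ∀ t ∈ Rs D Ψ₂, ε t = e) (hF : ∀ x, ε (D.Fw x) = ε x)
    (h2 : ∀ x, ε x * ε x = 1) {κ₀ : ℂ} {L : List ℂ} (hL : ∀ k ∈ L, ((fs D Ψ₂).card : ℝ) < ‖κ₀ + e * (fs D Ψ₂).card - k‖)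
    (h3 : (L.map (κ₀ - ·)).prod ≠ 0) (h4 : qs (fs D Ψ₁) (κ₀ :: L) (J1 f s c Ψ₁ ψ) = 0)
    (h5 : ∀ u', Fx s.E u' c → qs (fs D Ψ₁) L (J1 f s c Ψ₁ ψ) (s.sw u' * s.w) =
      (L.map (κ₀ - ·)).prod * classInner ψ.1 (RW (s.fr f) u' c)) :
    ∃ ξ ∈ Γ, ∃ a : ℤ, a ^ 2 = 1 ∧ classInner (s.rs r P ξ.1) ψ = a ∧ (∀ w c', Has f ξ.1 w c' → Cj (rts D) c c') ∧
      ∀ x ∈ Hs D Ψ₁, ∀ y ∈ Hs D Ψ₂, a * classInner ξ.1 (RW f (x * y * (s.sw u * s.w)) c) =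
        ε y * (((L.map (κ₀ - ·)).prod)⁻¹ * qs (fs D Ψ₁) L (J1 f s c Ψ₁ ψ) (x * (s.sw u * s.w))) := by
  obtain ⟨K, z, μ, Yb, n, -, -, -, k1, -, -, -, k2⟩ := exists_dec h.qs hu hs h1 hΓ hT h0 hc
  obtain ⟨ξ₀, k3, k4⟩ := id h0
  have k5 := hs_comm (f1 C) (f2 C) (fo C)
  let T : Module.End ℂ (D.W → ℂ) := ∑ b : Hs D Ψ₂, LinearMap.funLeft ℂ ℂ fun w => b * w * (D.Fw b)⁻¹
  have k6 : ∀ y w, T y w = ∑ b : Hs D Ψ₂, y (b * w * (D.Fw b)⁻¹) := fun y w => by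
    rw [LinearMap.sum_apply, Finset.sum_apply]
    rfl
  have k7 : ∀ L, qs (fs D Ψ₁) L (∑ k ∈ K, z k) = T (qs (fs D Ψ₁) L (J1 f s c Ψ₁ ψ)) := fun L => by
    rw [qs_map _ L T fun y => funext fun w => ?_]
    · exact congrArg _ (funext fun w => by
        rw [Finset.sum_apply, k2, k6, ind3 h hz hz' hu hs h1 hc C (ord_c hu hs (hΓ.rat _ k3) k4 hc)])
    · simp only [k6, cs_apply]
      rw [Finset.sum_comm]
      refine Finset.sum_congr rfl fun t ht => Finset.sum_congr rfl fun b _ => ?_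
      rw [← mul_assoc (b : D.W), ← k5 t (subset_closure (mem_fs.1 ht)) b b.2, mul_assoc t, mul_assoc t]
  have k8 := ext2 (R₁ := fs D Ψ₁) (R₂ := fs D Ψ₂) (fun a ha b hb => k5 a (subset_closure (mem_fs.1 ha)) b (subset_closure (mem_fs.1 hb)))
    ε he (fun t ht => hε t (mem_fs.1 ht)) hs_fs K id z (fun i hi => (cs_add2 C _).symm.trans (k1 i hi).1) hL (by rw [k7, h4, map_zero])
  set k₀ := κ₀ + e * (fs D Ψ₂).card
  have k9 : ∀ x ∈ Hs D Ψ₁, ∀ y ∈ Hs D Ψ₂, (∑ k ∈ K with id k = k₀, z k) (x * y * (s.sw u * s.w)) =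
      ε y * (((L.map (κ₀ - ·)).prod)⁻¹ * qs (fs D Ψ₁) L (J1 f s c Ψ₁ ψ) (x * (s.sw u * s.w))) := fun x hx y hy => by
    rw [mul_left_comm, eq_inv_mul_iff_mul_eq₀ h3]
    refine mul_left_cancel₀ (Nat.cast_ne_zero.2 (Nat.card_pos (α := Hs D Ψ₂)).ne') ((k8 _).trans ?_)
    rw [← avg (φ := fun v => s.sw u * s.w * D.Fw v * (s.sw u * s.w)⁻¹)
      (y := fun x => qs (fs D Ψ₁) L (J1 f s c Ψ₁ ψ) (x * (s.sw u * s.w))) k5 (hs_disj (f1 C) (f2 C) (fo C))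
      (fun v hv => hs_tw h (f2 C) C.nm₂ hv) ε (fun v => by
        rw [map_mul, map_mul, hF, mul_right_comm, ← map_mul, mul_inv_cancel, map_one, one_mul]) h2
      (qs_supp (fun t ht => subset_closure (mem_fs.1 ht)) _ (fun x => J1_supp h hz' hc C hb) L) hx hy]
    refine Finset.sum_congr rfl fun b _ => ?_
    rw [k7, k6]
    refine congrArg _ (Finset.sum_congr rfl fun v _ => congrArg _ ?_)
    group
  obtain ⟨ξ, k10, a, k11, k12, k13, k14⟩ := oneG h.qs hu hs h1 hΓ hT h0 hc (K := insert k₀ K) (z := fun k => ∑ i ∈ K with id i = k, z i)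
    (fun k _ => by
      rw [map_sum, Finset.smul_sum]
      exact Finset.sum_congr rfl fun i hi => by rw [(k1 i (Finset.mem_filter.1 hi).1).1, ← (Finset.mem_filter.1 hi).2, id])
    (fun w => by
      rw [← k2, ← Finset.sum_apply, Finset.sum_fiberwise_of_maps_to (g := id) (s := K) (t := insert k₀ K)
        (fun i hi => Finset.mem_insert_of_mem hi) z, Finset.sum_apply])
    (Finset.mem_insert_self _ _) fun u' e' => by
      obtain ⟨x, hx, k10⟩ := top_mem' hz' hc e'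
      have k11 := k9 x (hs_mono hb hx) 1 (one_mem _)
      rwa [mul_one, map_one, one_mul, ← k10, h5 u' e', inv_mul_cancel_left₀ h3] at k11
  exact ⟨ξ, k10, a, k11, k12, k13, fun x hx y hy => (k14 _).trans (k9 x hx y hy)⟩

include h hz hc C in
/-- the degree and the sum over the unipotent elements -/
theorem deg2 (X : D.W → ℂ) : ∃ α β : ℂ, ∀ (ξ : GF F G → ℂ) (a : ℤ) (ε : D.W → ℂ), a ^ 2 = 1 →
    (∀ w c', Has f ξ w c' → Cj (rts D) c c') → (∀ x ∈ Hs D Ψ₁, ∀ y ∈ Hs D Ψ₂,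
      a * classInner ξ (RW f (x * y * (s.sw u * s.w)) c) = ε y * X (x * (s.sw u * s.w))) →
    ξ 1 ^ 2 = α ^ 2 * (∑ y : Hs D Ψ₂, ε y * sg D y * (ordT D (y * (s.sw u * s.w)) : ℂ)⁻¹) ^ 2 ∧
      OM.Cas.usum (GF F G) {v | IsUni p v} ξ ^ 2 = β ^ 2 * (∑ y : Hs D Ψ₂, ε y * (ordT D (y * (s.sw u * s.w)) : ℂ)⁻¹) ^ 2 := by
  obtain ⟨d, i, L⟩ := exists_lvl D
  have k1 := s.fx_iff.1 hc.fx
  have k0 := hc.fo
  generalize s.sw u * s.w = w at k1 C ⊢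
  have k4 : ∀ w, (ordT D w : ℂ) ≠ 0 := fun w => Nat.cast_ne_zero.2 (ordT_ne w)
  have k5 : ∀ (x : Hs D Ψ₁) (y : Hs D Ψ₂), (ordT D (x * y * w) : ℂ)⁻¹ =
      ordT D w * (ordT D (x * w) : ℂ)⁻¹ * (ordT D (y * w) : ℂ)⁻¹ := fun x y => by
    have k5 : (ordT D (x * y * w) : ℂ) * ordT D w = ordT D (x * w) * ordT D (y * w) := by
      exact_mod_cast ord_fac h (f1 C) (f2 C) (fo C) C.nm₂ x.2 y.2
    have := k4 (x * y * w)
    have := k4 (x * w)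
    have := k4 (y * w)
    field_simp
    linear_combination -k5
  refine ⟨(Nat.card (LV.Lab.St D c) : ℂ)⁻¹ * pc' p (GF F G) * ∑ x : Hs D Ψ₁, X (x * w) * (sg D x * sg D w) *
      (ordT D w * (ordT D (x * w) : ℂ)⁻¹), (Nat.card (LV.Lab.St D c) : ℂ)⁻¹ * Nat.card (GF F G) *
      ∑ x : Hs D Ψ₁, X (x * w) * (ordT D w * (ordT D (x * w) : ℂ)⁻¹), fun ξ a ε k7 k8 k9 => ?_⟩
  have k3 : ∀ g : D.W → ℂ, ∑ w', g w' * (a * classInner ξ (RW f w' c)) =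
      ∑ x : Hs D Ψ₁, ∑ y : Hs D Ψ₂, g (x * y * w) * (ε y * X (x * w)) := fun g => by
    rw [sum_prod (hs_disj (f1 C) (f2 C) (fo C)) w fun w' e => ?_]
    · exact Finset.sum_congr rfl fun x _ => Finset.sum_congr rfl fun y _ => by rw [k9 x x.2 y y.2]
    · obtain ⟨x, hx, y, hy, e'⟩ := dec2 C hz k0 (k1.div (Has.fx (right_ne_zero_of_mul (right_ne_zero_of_mul e))) L)
      exact ⟨x, hx, y, hy, by rw [← e', inv_mul_cancel_right]⟩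
  obtain ⟨k10, k11⟩ := degG h.qs k7 k8 fun _ => rfl
  simp only [mul_right_comm _ (a * _ : ℂ), mul_comm (a * _ : ℂ), k3] at k10 k11
  rw [k10, k11, mul_pow _ (∑ x : Hs D Ψ₁, _), mul_pow _ (∑ x : Hs D Ψ₁, _), mul_assoc (_ ^ 2), mul_assoc (_ ^ 2), ← mul_pow (∑ x : Hs D Ψ₁, _),
    ← mul_pow (∑ x : Hs D Ψ₁, _), Finset.sum_mul_sum, Finset.sum_mul_sum]
  refine ⟨congrArg (fun z : ℂ => _ * z ^ 2) ?_, congrArg (fun z : ℂ => _ * z ^ 2) ?_⟩ <;>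
    refine Finset.sum_congr rfl fun x _ => Finset.sum_congr rfl fun y _ => ?_
  · rw [k5, sg_mul, sg_mul]
    ring
  · rw [k5]
    ring

include h hz hz' hu hs h1 hΓ hT h0 hc C hb in
/-- **a core times a toral factor** -/
theorem prodG (hn : Ψ₂.Nonempty) {κ₀ : ℂ} {L : List ℂ} (hL : ∀ k ∈ L, (2 * (fs D Ψ₂).card : ℝ) < ‖κ₀ - k‖)
    (h4 : qs (fs D Ψ₁) (κ₀ :: L) (J1 f s c Ψ₁ ψ) = 0) (h5 : ∀ u', Fx s.E u' c → qs (fs D Ψ₁) L (J1 f s c Ψ₁ ψ) (s.sw u' * s.w) =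
      (L.map (κ₀ - ·)).prod * classInner ψ.1 (RW (s.fr f) u' c)) :
    ∃ ξ ∈ Γ, ∃ ξ' ∈ Γ, ∃ (a a' : ℤ) (J : ℕ), a ^ 2 = 1 ∧ a' ^ 2 = 1 ∧ classInner (s.rs r P ξ.1) ψ = a ∧
      classInner (s.rs r P ξ'.1) ψ = a' ∧ 0 < J ∧ (p ^ j) ^ J ≤ Nat.card ↥(GF F G) ^ 2 ∧
      ξ'.1 1 ^ 4 = ((p ^ j : ℕ) : ℂ) ^ J * ξ.1 1 ^ 4 := by
  have k0 : ∀ e : ℂ, ‖e‖ = 1 → ∀ k ∈ L, ((fs D Ψ₂).card : ℝ) < ‖κ₀ + e * (fs D Ψ₂).card - k‖ := fun e he k hk => by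
    have k0 := norm_sub_le (κ₀ + e * (fs D Ψ₂).card - k) (e * (fs D Ψ₂).card)
    rw [sub_right_comm, add_sub_cancel_right, norm_mul, he, one_mul, Complex.norm_natCast] at k0
    linarith [hL k hk]
  have h3 : (L.map (κ₀ - ·)).prod ≠ 0 := List.prod_ne_zero fun e => by
    obtain ⟨k, hk, e⟩ := List.mem_map.1 e
    have := hL k hk
    rw [e, norm_zero] at this
    exact this.not_ge (mul_nonneg zero_le_two (Nat.cast_nonneg _))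
  obtain ⟨α, β, k1⟩ := deg2 h hz hc C fun w => ((L.map (κ₀ - ·)).prod)⁻¹ * qs (fs D Ψ₁) L (J1 f s c Ψ₁ ψ) w
  obtain ⟨ξ, k2, a, k3, k4, k5, k6⟩ := one2 h hz hz' hu hs h1 hΓ hT h0 hc C hb 1 (one_mul 1) (fun _ _ => rfl) (fun _ => rfl)
    (fun _ => one_mul 1) (k0 1 norm_one) h3 h4 h5
  obtain ⟨ξ', k2', a', k3', k4', k5', k6'⟩ := one2 h hz hz' hu hs h1 hΓ hT h0 hc C hb ((Int.castRingHom ℂ).toMonoidHom.comp (sgZ D))
    (e := -1) (by norm_num) (fun t ht => (congrArg (Int.cast : ℤ → ℂ) (sg_rs (f2 C) ht)).trans (by simp)) (sg_Fw D) (sg_mul_self D)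
    (k0 (-1) (by simp)) h3 h4 h5
  obtain ⟨k7, k8⟩ := k1 ξ.1 a _ k3 k5 k6
  obtain ⟨k7', k8'⟩ := k1 ξ'.1 a' (sg D) k3' k5' k6'
  obtain ⟨i, k9⟩ := eigT h ξ.2
  obtain ⟨i', k9'⟩ := eigT h ξ'.2
  simp only [MonoidHom.one_apply, one_mul, sg_mul_self] at k7 k8 k7'
  obtain ⟨t, ht⟩ := hn
  obtain ⟨b, hb, rfl⟩ := f2 C ht
  have k10 : D.rf b ∈ Rs D Ψ₂ := ⟨_, ht, (rfm_eq hb).symm⟩
  have k11 : ∀ w, (0 : ℝ) < (ordT D w : ℝ)⁻¹ := fun w => inv_pos.2 (Nat.cast_pos.2 (Nat.pos_of_ne_zero (ordT_ne w)))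
  have k12 : ∀ w, ((sgZ D w : ℤ) : ℝ) ≤ 1 ∧ -((sgZ D w : ℤ) : ℝ) ≤ 1 := fun w => by rcases sgZ_sign D w with e | e <;> simp [e]
  obtain ⟨J, k13, k14, k15⟩ := ratio (g := ∑ y : Hs D Ψ₂, (sgZ D y : ℤ) * (ordT D (y * (s.sw u * s.w)) : ℝ)⁻¹)
    (h := ∑ y : Hs D Ψ₂, (ordT D (y * (s.sw u * s.w)) : ℝ)⁻¹) (abs_lt.2 ⟨neg_lt.1 (by
      rw [← Finset.sum_neg_distrib]
      refine Finset.sum_lt_sum (fun y _ => ?_) ⟨1, Finset.mem_univ _, ?_⟩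
      · rw [← neg_mul]
        exact mul_le_of_le_one_left (k11 _).le (k12 _).2
      · rw [OneMemClass.coe_one, map_one, Int.cast_one, one_mul]
        exact neg_lt_self (k11 _)), Finset.sum_lt_sum (fun y _ => mul_le_of_le_one_left (k11 _).le (k12 _).1)
      ⟨⟨_, subset_closure k10⟩, Finset.mem_univ _, by
        rw [sg_rs (f2 C) k10, Int.cast_neg, Int.cast_one, neg_one_mul]
        exact neg_lt_self (k11 _)⟩⟩) (Nat.one_lt_pow h.pos.ne' (Fact.out : p.Prime).one_lt) (a := α) (b := β)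
    (by rw [k7]; push_cast; rfl) (by rw [k7']; push_cast; rfl) (by rw [k8]; push_cast; rfl) (by rw [k8']; push_cast; rfl)
    k9 k9' (irr_one_ne ξ.2)
  exact ⟨ξ, k2, ξ', k2', a, a', J, k3, k3', k4, k4', k13,
    (Nat.pow_le_pow_right (pow_pos (Fact.out : p.Prime).pos j) k14).trans (le_sq ξ.2 k9), k15⟩

omit [Fintype (Hs D Ψ₁)] [Fintype (Hs D Ψ₂)] in
include h hz hz' hu hs h1 hc in
/-- the induced function, one factor -/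
theorem ind4 [Fintype (Hs D (Zc (rts D) c))] (hr : ¬ r ∣ orderOf c) (w : D.W) :
    classInner (s.rs r P (RW f w c)) ψ = J1 f s c (Zc (rts D) c) ψ w := by
  have k1 : s.sw.range ⊓ LV.Lab.St D c = Hs D (P1 s c) := Subgroup.ext fun x =>
    ⟨fun ⟨⟨a, e⟩, e'⟩ => e ▸ mem1 hz' hc.fo (e.symm ▸ e'), fun e => ⟨sw_of e, rel1 e⟩⟩
  have k2 : LV.Lab.St D c = Hs D (Zc (rts D) c) := Subgroup.ext fun x => (X.stab_WW hz hc.fo).trans (mem_Hs (X.Zc_sub _ _)).symm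
  have := Fintype.ofFinite (LV.Lab.St D c)
  rw [ind1 h hu hs h1 hc hr, k1]
  exact congrArg _ (Fintype.sum_equiv (MulEquiv.subgroupCongr k2).toEquiv _ _ fun _ => rfl)

omit [Fintype (Hs D Ψ₁)] [Fintype (Hs D Ψ₂)] in
include h hz hz' hu hs h1 hΓ hT h0 hc in
/-- **a core** : `J1 = ∑ z k`, two parts of mass one differ by the sign character -/
theorem coreG [Fintype (Hs D (Zc (rts D) c))] {K : Finset ℂ} {z : ℂ → D.W → ℂ}
    (h2 : ∀ k ∈ K, cs (fs D (Zc (rts D) c)) (z k) = k • z k) (h3 : ∀ w, ∑ k ∈ K, z k w = J1 f s c (Zc (rts D) c) ψ w)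
    {k₁ k₂ : ℂ} (h4 : k₁ ∈ K) (h4' : k₂ ∈ K) (h5 : ∀ u', Fx s.E u' c → z k₁ (s.sw u' * s.w) = classInner ψ.1 (RW (s.fr f) u' c))
    (h5' : ∀ u', Fx s.E u' c → z k₂ (s.sw u' * s.w) = classInner ψ.1 (RW (s.fr f) u' c)) {ε : ℂ} (h6 : ε * ε = 1)
    (h7 : ∀ w, z k₂ w = ε * sg D w * z k₁ w)
    (h8 : (∑ w, sg D w * z k₁ w * (ordT D w : ℂ)⁻¹) ^ 4 ≠ (∑ w, z k₁ w * (ordT D w : ℂ)⁻¹) ^ 4) :
    ∃ ξ ∈ Γ, ∃ ξ' ∈ Γ, ∃ (a a' : ℤ) (J : ℕ), a ^ 2 = 1 ∧ a' ^ 2 = 1 ∧ classInner (s.rs r P ξ.1) ψ = a ∧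
      classInner (s.rs r P ξ'.1) ψ = a' ∧ 0 < J ∧ (p ^ j) ^ J ≤ Nat.card ↥(GF F G) ^ 2 ∧
      ξ'.1 1 ^ 4 = ((p ^ j : ℕ) : ℂ) ^ J * ξ.1 1 ^ 4 := by
  obtain ⟨ξ₀, k3, k4⟩ := id h0
  exact pairG hu hs h1 hΓ hT h0 hc h h2 (fun w => (h3 w).trans
    (ind4 h hz hz' hu hs h1 hc (ord_c hu hs (hΓ.rat _ k3) k4 hc) w).symm) h4 h4' h5 h5' h6 h7 h8

end Cfsg.Agent.BZ.RT.At
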