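import Cfsg.Agent.BZ.RT.AtR
import Cfsg.Agent.BZ.RT.At1

/-!
# BZ / RT (S4853) : complements for the cores (helper42)

* `coreS` : `coreG` with squares;  `J1_del` : the signed sum of the induced function is not zero;
* `pair_of` : from the conclusion of the atom to `Pair`.
-/

set_option autoImplicit false
set_option linter.unusedSectionVars false
set_option maxHeartbeats 400000

namespace Cfsg.Agent.BZ.RT.At

open Cfsg Cfsg.Agent.DL Cfsg.Agent.DL.PP Matrix Cfsg.Agent.KZ.Lie Cfsg.Agent.HZ.Gen Cfsg.Agent.HZ.L Cfsg.Agent.OM.On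
  Cfsg.Agent.Characters.Core Subgroup Cfsg.Agent.DL.Uni Cfsg.Agent.OddOrderCharacters.VChar
open Cfsg.Agent.HZ.L.X (Zc Qv)
open Cfsg.Agent.LV.Lab (tc_self')

variable {p : ℕ} [Fact p.Prime] {k : Type} [Field k] [CharP k p] [IsAlgClosed k] {Y : Type} [Group Y] {N : Type}
  [Fintype N] [DecidableEq N] {ρ : Y →* GL N k} {F : MulAut Y} {G : Subgroup Y} {D : Datum p ρ F G}
  {j : ℕ} {B : Mat D.R} {c : Lbl D} {s : Sb D} {u : s.E.W} {Ψ₁ : RS D.R}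

theorem ord_tc {v w w' : D.W} (h : Tc D v w w') : ordT D w' = ordT D w := by
  have h1 : D.Wm v * (D.Wm w * D.Mx - 1) = (D.Wm w' * D.Mx - 1) * D.Wm v := by
    rw [mul_sub, sub_mul, mul_one, one_mul, mul_assoc (D.Wm w'), D.Mx_Wm, ← mul_assoc, ← mul_assoc, ← D.Wm_mul,
      ← D.Wm_mul, show w' * D.Fw v = v * w from h]
  have h2 := congrArg (fun A => A.det.natAbs) h1
  simp only [det_mul, Int.natAbs_mul, natAbs_det_Wm, one_mul, mul_one] at h2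
  exact h2.symm

variable [Fintype D.W] [Fintype ↥(GF F G)] {f : Fr D} [Fintype ↥(GF F s.K)]
  [Fintype s.E.W] {r : ℕ} [Fact r.Prime] {P : Subgroup ↥(GF F G)} {ψ : IrrCharacter ↥(GF F s.K)}
  {Γ : Set (IrrCharacter ↥(GF F G))}
  (h : St D j B) (hz : Cz p (rts D)) (hz' : Cz p (rts s.E)) (hu : Hu1 D r) (hs : s.For r P) (h1 : On1 s.E) (hΓ : Cls f r Γ)
  (hT : Lab.Tight r s.ι P (ψ : GF F s.K → ℂ)) (h0 : ∃ ξ ∈ Γ, classInner (s.rs r P ξ.1) ψ ≠ 0) (hc : Has (s.fr f) ψ u c)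

include hs h1 hc in
/-- the signed sum of the multiplicities -/
theorem yb_del : ∑ w, sg D w * yb f s ψ c w * (ordT D w : ℂ)⁻¹ ≠ 0 := fun e => by
  have k1 := val_red (D := s.E) (s.fr f) fun w c' => h1 _ _ ψ.2 _ _ _ _ hc
  refine mul_ne_zero (Nat.cast_ne_zero.2 Nat.card_pos.ne') (irr_one_ne ψ.2) (k1.trans ?_)
  rw [← mul_zero (sg D s.w * pc' p (GF F s.K)), ← e, Finset.mul_sum]
  refine Fintype.sum_of_injective (fun u => s.sw u * s.w) (fun _ _ e => s.sw_injective (mul_right_cancel e)) _ _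
    (fun w hw => by rw [yb_zero f s ψ fun u e => hw ⟨u, e⟩, mul_zero, zero_mul, mul_zero]) fun u' => ?_
  by_cases e : Fx s.E u' c
  · have k2 : sg s.E u' = sg D (s.sw u') := congrArg (fun A : Mat D.R => (A.det : ℂ)) (s.Wm_eq u')
    have k3 : ordT s.E u' = ordT D (s.sw u' * s.w) := congrArg (fun A : Mat D.R => (A - 1).det.natAbs) (s.WM_eq u')
    rw [yb_sw, (eq_mul_inv_iff_mul_eq₀ (Nat.cast_ne_zero.2 (ordT_ne u'))).2 (RW_deg (s.fr f) hs.qs e), k2, k3, sg_mul]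
    linear_combination (-classInner ψ.1 (RW (s.fr f) u' c) * sg D (s.sw u') * pc' p (GF F s.K) * (ordT D (s.sw u' * s.w) : ℂ)⁻¹) *
      sg_mul_self D s.w
  · rw [yb_sw, RW_zero _ e, classInner_zero_right, zero_mul, mul_zero, zero_mul, mul_zero]

include hs h1 hc in
/-- **the signed sum of the induced function** -/
theorem J1_del [Fintype (Hs D Ψ₁)] : ∑ w, sg D w * J1 f s c Ψ₁ ψ w * (ordT D w : ℂ)⁻¹ ≠ 0 := by
  have k1 : ∀ v : Hs D Ψ₁, ∑ w, sg D w * yb f s ψ c (v * w * (D.Fw v)⁻¹) * (ordT D w : ℂ)⁻¹ =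
      ∑ w, sg D w * yb f s ψ c w * (ordT D w : ℂ)⁻¹ := fun v =>
    Fintype.sum_equiv ((Equiv.mulLeft (v : D.W)).trans (Equiv.mulRight (D.Fw v)⁻¹)) _ _ fun w => by
      rw [← sg_tc D (tc_self' (v : D.W) w), ← ord_tc (tc_self' (v : D.W) w)]
      rfl
  rw [Finset.sum_congr rfl fun w _ => show sg D w * J1 f s c Ψ₁ ψ w * (ordT D w : ℂ)⁻¹ = (Nat.card (Hs D (P1 s c)) : ℂ)⁻¹ *
      ∑ v : Hs D Ψ₁, sg D w * yb f s ψ c (v * w * (D.Fw v)⁻¹) * (ordT D w : ℂ)⁻¹ by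
    rw [← Finset.sum_mul, ← Finset.mul_sum, ← mul_assoc, mul_left_comm]
    rfl, ← Finset.mul_sum, Finset.sum_comm, Finset.sum_congr rfl fun v _ => k1 v, Finset.sum_const, nsmul_eq_mul]
  exact mul_ne_zero (inv_ne_zero (Nat.cast_ne_zero.2 Nat.card_pos.ne'))
    (mul_ne_zero (Nat.cast_ne_zero.2 (Finset.card_pos.2 Finset.univ_nonempty).ne') (yb_del hs h1 hc))

include h hz hz' hu hs h1 hΓ hT h0 hc in
/-- **a core**, with squares -/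
theorem coreS [Fintype (Hs D (Zc (rts D) c))] {K : Finset ℂ} {z : ℂ → D.W → ℂ}
    (h2 : ∀ k ∈ K, cs (fs D (Zc (rts D) c)) (z k) = k • z k) (h3 : ∀ w, ∑ k ∈ K, z k w = J1 f s c (Zc (rts D) c) ψ w)
    {k₁ k₂ : ℂ} (h4 : k₁ ∈ K) (h4' : k₂ ∈ K) (h5 : ∀ u', Fx s.E u' c → z k₁ (s.sw u' * s.w) = classInner ψ.1 (RW (s.fr f) u' c))
    (h5' : ∀ u', Fx s.E u' c → z k₂ (s.sw u' * s.w) = classInner ψ.1 (RW (s.fr f) u' c)) {ε : ℂ} (h6 : ε * ε = 1)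
    (h7 : ∀ w, z k₂ w = ε * sg D w * z k₁ w)
    (h8 : (∑ w, sg D w * z k₁ w * (ordT D w : ℂ)⁻¹) ^ 2 ≠ (∑ w, z k₁ w * (ordT D w : ℂ)⁻¹) ^ 2) :
    ∃ ξ ∈ Γ, ∃ ξ' ∈ Γ, ∃ (a a' : ℤ) (J : ℕ), a ^ 2 = 1 ∧ a' ^ 2 = 1 ∧ classInner (s.rs r P ξ.1) ψ = a ∧
      classInner (s.rs r P ξ'.1) ψ = a' ∧ 0 < J ∧ (p ^ j) ^ J ≤ Nat.card ↥(GF F G) ^ 2 ∧
      ξ'.1 1 ^ 4 = ((p ^ j : ℕ) : ℂ) ^ J * ξ.1 1 ^ 4 := by
  refine coreG h hz hz' hu hs h1 hΓ hT h0 hc h2 h3 h4 h4' h5 h5' h6 h7 fun e => ?_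
  obtain ⟨ξ₀, k3, k4⟩ := id h0
  have k1 := fun w => (h3 w).trans (ind4 h hz hz' hu hs h1 hc (ord_c hu hs (hΓ.rat _ k3) k4 hc) w).symm
  obtain ⟨ξ, -, a, k3, -, k5, k6⟩ := oneG h.qs hu hs h1 hΓ hT h0 hc h2 k1 h4 h5
  obtain ⟨ξ', -, a', k3', -, k5', k6'⟩ := oneG h.qs hu hs h1 hΓ hT h0 hc h2 k1 h4' h5'
  have k7 := (degG h.qs k3 k5 k6).1
  have k7' := (degG h.qs k3' k5' k6').1
  rw [Finset.sum_congr rfl fun w _ => show sg D w * z k₂ w * (ordT D w : ℂ)⁻¹ = ε * (z k₁ w * (ordT D w : ℂ)⁻¹) by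
    rw [h7]; linear_combination ε * z k₁ w * (ordT D w : ℂ)⁻¹ * sg_mul_self D w, ← Finset.mul_sum, mul_pow ε, sq ε, h6, one_mul] at k7'
  have k8 : ξ.1 1 ^ 2 + ξ'.1 1 ^ 2 = 0 := by
    rw [k7, k7', ← mul_add, (mul_eq_zero.1 ((sq_sub_sq _ _).symm.trans (by linear_combination e))).resolve_right (sub_ne_zero.2 h8),
      mul_zero]
  have k9 := irr_one_ne ξ.2
  rw [H418.CC.charDegree_eq (isIrr_isCharacter ξ.2)] at k8 k9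
  rw [H418.CC.charDegree_eq (isIrr_isCharacter ξ'.2), ← Nat.cast_pow, ← Nat.cast_pow, ← Nat.cast_add, Nat.cast_eq_zero] at k8
  exact pow_ne_zero 2 (Nat.cast_ne_zero.1 k9) (Nat.eq_zero_of_add_eq_zero_right k8)

omit [Fintype D.W] [Fintype ↥(GF F G)] [Fintype ↥(GF F s.K)] [Fintype s.E.W] [Fact r.Prime] in
/-- **from the atom to the pair** -/
theorem pair_of [Fintype ↥(GF F G)] [Fintype ↥(GF F s.K)] {l m n n' : ℕ} {M : Ideal AlgInt} {α : MulAut ↥(GF F G)}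
    {𝔅 : Set (IrrCharacter ↥(GF F G))} {P : Subgroup ↥(GF F G)} {β : MulAut ↥(GF F s.K)} {lam : Vec D.R}
    {b : Set (IrrCharacter ↥(GF F s.K))} (S : Sit j B l r m n n' M α 𝔅 P s β lam b) {ψ : IrrCharacter ↥(GF F s.K)} (hψ : ψ ∈ b)
    (f : Fr D) (h : ∀ [Fact r.Prime] [Fintype D.W] [Fintype s.E.W] (Γ : Set (IrrCharacter ↥(GF F G))), Cz p (rts s.E) → Cls f r Γ →
      Lab.Tight r s.ι P (ψ : GF F s.K → ℂ) → (∃ ξ ∈ Γ, classInner (s.rs r P ξ.1) ψ ≠ 0) →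
      ∃ ξ ∈ Γ, ∃ ξ' ∈ Γ, ∃ (a a' : ℤ) (J : ℕ), a ^ 2 = 1 ∧ a' ^ 2 = 1 ∧ classInner (s.rs r P ξ.1) ψ = a ∧
        classInner (s.rs r P ξ'.1) ψ = a' ∧ 0 < J ∧ (p ^ j) ^ J ≤ Nat.card ↥(GF F G) ^ 2 ∧
        ξ'.1 1 ^ 4 = ((p ^ j : ℕ) : ℂ) ^ J * ξ.1 1 ^ 4) : Pair l (p ^ j) r 𝔅 P s ψ := by
  have : Fact r.Prime := ⟨S.tp.hu.prime⟩
  have := Fintype.ofFinite D.W
  have := @Fintype.ofFinite s.E.W (Finite.of_injective _ s.sw_injective)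
  have C := S.cls f
  obtain ⟨h3, ξ₀, h4, h5, -⟩ := L.boxOs.all S.fr S.hM S.top ψ hψ
  obtain ⟨ξ, a1, ξ', a2, a, a', J, a3, a4, a5, a6, a7⟩ := h _ (S.tp.rt ▸ X.Adm.cz lam S.cq.cz) C h3 ⟨ξ₀, S.top.sB ξ₀ h4, h5⟩
  have k1 : ∀ x : ℤ, x ^ 2 = 1 → ¬ (l : ℤ) ∣ x := fun x e e' =>
    S.cq.lp.one_lt.ne' (Nat.dvd_one.1 (Int.natCast_dvd_natCast.1 (e ▸ e'.pow two_ne_zero : (l : ℤ) ∣ 1)))
  have k2 : ∀ x : ℤ, x ^ 2 = 1 → (x : ℂ) ≠ 0 := fun x e => Int.cast_ne_zero.2 (by rintro rfl; exact absurd e (by norm_num))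
  exact ⟨ξ, S.tp.all ξ (C.rat ξ a1) ψ hψ (a5 ▸ k2 a a3), ξ', S.tp.all ξ' (C.rat ξ' a2) ψ hψ (a6 ▸ k2 a' a4), a, a', J, k1 a a3,
    k1 a' a4, a5, a6, a7⟩

end Cfsg.Agent.BZ.RT.At
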