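import Cfsg.Agent.BZ.RT.Rows

/-!
# BZ / RT (S4853) : the rows from the targets, the triality groups at the prime two as a row (helper17, after helper73)

`BT2`, `rowsT_of2`.
-/

set_option autoImplicit false
set_option linter.unusedSectionVars false
set_option maxHeartbeats 400000

namespace Cfsg.Agent.BZ.RT

open Cfsg Cfsg.Lie Subgroup Cfsg.Agent.KM Cfsg.Agent.KZ.DatX Cfsg.Agent.Nodes.RGDChev Cfsg.Agent.BZ.Cl Cfsg.Agent.KM.Sc

open Rw

/-- **the list of the targets** -/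
structure BT2 : Prop where
  cl : ∀ l, BoxBT TC l
  g2 : ∀ l, l = 2 ∨ l = 3 → BoxBT (TY hpG2) l
  f4 : ∀ l, l = 2 ∨ l = 3 → BoxBT (TY hpF4) l
  d4 : BoxBT TD 3
  d2 : ∀ (r : ℕ) [Fact r.Prime] (F : Type) [Field F] [Fintype F] [CharP F r], 2 ≠ r → ∀ {q : ℕ}, IsPrimePow q →
    Fintype.card F = q ^ 3 → RowT 2 ↥(twistedD4 F q)
  e6 : ∀ l, l = 2 ∨ l = 3 ∨ l = 5 → BoxBT (TX hpE6) l
  e7 : ∀ l, l = 2 ∨ l = 3 ∨ l = 5 ∨ l = 7 → BoxBT (TX hpE7) l
  e8 : ∀ l, l = 2 ∨ l = 3 ∨ l = 5 ∨ l = 7 → BoxBT (TX hpE8) l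

/-- **the rows from the targets** -/
theorem rowsT_of2 (b : BT2) (x : XR) : LT where
  psp := by
    rintro l hl S _ _ _ - ⟨F, _, _, m, h1, hm, h2, ⟨i⟩⟩
    obtain ⟨r, e, hr, _, h3, he, hF, h4⟩ := char_of F h1
    refine RowT.of_equiv i ?_
    by_cases h : m = 3 ∧ Fintype.card F = 2
    · obtain ⟨rfl, h⟩ := h
      by_cases h5 : l = 3
      · exact h5 ▸ x.s62 F h
      · exact row_small (X := XT) (small_S6 h hl.out (h4 2 1 Nat.prime_two h ▸ h3) h5)
    · exact ((has_psp r F hm h2 h).rowB (b.cl l) h3).rowT (S2092.result hF m hm (hF ▸ h2) (hF ▸ h)) (no_cov (not_dvd_sub hr.out he 2))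
  oodd := by
    rintro l hl S _ _ _ hn ⟨F, _, _, m, h1, hm, h2, ⟨i⟩⟩
    obtain ⟨r, e, hr, _, h3, he, hF, h4⟩ := char_of F h1
    have h5 : r ≠ 2 := by
      rintro rfl
      rw [hF, Nat.odd_pow_iff he.ne'] at h2
      exact absurd h2 (by decide)
    have h6 := (has_odd r F h5 hm i.symm.isSimpleGroup (BD.noncomm_of i hn)).rowB (b.cl l) h3
    refine RowT.of_equiv i ?_
    by_cases h : m = 3 ∧ Fintype.card F = 3
    · obtain ⟨rfl, h⟩ := h
      obtain rfl := h4 3 1 Nat.prime_three h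
      by_cases h7 : l = 2
      · subst h7
        refine h6.rowT (S2095.result h) fun n k1 k2 K _ _ σ M B D H hn => x.o73 F h K σ M B D H ?_
        have k3 := k2.trans Group.exponent_dvd_nat_card
        have k4 := H.zp
        rw [BD.card_cyc] at k3
        have k5 := Nat.le_of_dvd (by norm_num) k3
        have k6 := Nat.pos_of_dvd_of_pos k3 (by norm_num)
        omega
      · exact row_small (X := XT) (BD.small_O7 h hl.out h7 h3)
    · exact h6.rowT (S2094.result rfl h2 m hm h)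
        (no_cov (by rw [BD.card_cyc, Nat.prime_dvd_prime_iff_eq hr.out Nat.prime_two]; exact h5))
  oplus := by
    rintro l hl S _ _ _ hn ⟨F, _, _, m, h1, hm, ⟨i⟩⟩
    obtain ⟨r, e, hr, _, h3, he, hF, h4⟩ := char_of F h1
    refine RowT.of_equiv i ?_
    by_cases h : m = 4 ∧ Fintype.card F = 2
    · obtain ⟨rfl, h⟩ := h
      by_cases h5 : l = 3
      · exact h5 ▸ x.o82 F h
      · exact row_small (X := XT) (BD.small_O8 h hl.out (h4 2 1 Nat.prime_two h ▸ h3) h5)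
    · obtain ⟨A, _, hA, k1, -⟩ := BD.mult_plus hr.out (hF ▸ dvd_pow_self r he.ne') hm h
      exact ((has_plus r F hm h i.symm.isSimpleGroup (BD.noncomm_of i hn)).rowB (b.cl l) h3).rowT hA (no_cov k1)
  ominus := by
    rintro l hl S _ _ _ hn ⟨F, _, _, m, a, c, h1, hm, hab, ⟨i⟩⟩
    obtain ⟨r, e, hr, _, h3, he, hF, -⟩ := char_of F h1
    exact RowT.of_equiv i (((has_minus r F hm hab i.symm.isSimpleGroup (BD.noncomm_of i hn)).rowB (b.cl l) h3).rowT
      (S2099.result rfl m hm a c hab)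
      (no_cov (by rw [BD.card_cyc]; exact BD.not_dvd_add hr.out (hF ▸ dvd_pow_self r he.ne') (by omega) 4)))
  g2 := by
    intro l hl S _ _ _ _ hC
    by_cases h : l = 2 ∨ l = 3
    swap
    · exact Ex.Rows.row_ab (X := XT) (Ex.boxAb.g2 l S hl.out (five h) hC)
    obtain ⟨F, _, _, h1, h2, ⟨i⟩⟩ := hC
    obtain ⟨r, e, hr, _, h3, he, hF, h4⟩ := char_of F h1
    refine RowT.of_equiv i ?_
    obtain h5 | h5 | h5 : Fintype.card F = 3 ∨ Fintype.card F = 4 ∨ 5 ≤ Fintype.card F := by omega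
    · exact h.resolve_right (h4 3 1 Nat.prime_three h5 ▸ h3) ▸ x.g23 F h5
    · exact h.resolve_left (h4 2 2 Nat.prime_two h5 ▸ h3) ▸ x.g24 F h5
    · exact ((has_g2 he hF h2).rowB (b.g2 l h) h3).rowT (S2100.result h5) (no_cov (by rw [BD.card_cyc]; exact hr.out.not_dvd_one))
  f4 := by
    intro l hl S _ _ _ _ hC
    by_cases h : l = 2 ∨ l = 3
    swap
    · exact Ex.Rows.row_ab (X := XT) (Ex.boxAb.f4 l S hl.out (five h) hC)
    obtain ⟨F, _, _, h1, ⟨i⟩⟩ := hC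
    obtain ⟨r, e, hr, _, h3, he, hF, h4⟩ := char_of F h1
    refine RowT.of_equiv i ?_
    have := Fintype.one_lt_card (α := F)
    obtain h5 | h5 : Fintype.card F = 2 ∨ 3 ≤ Fintype.card F := by omega
    · exact h.resolve_left (h4 2 1 Nat.prime_two h5 ▸ h3) ▸ x.f42 F h5
    · exact ((has_f4 he hF).rowB (b.f4 l h) h3).rowT (S2103.result h5) (no_cov (by rw [BD.card_cyc]; exact hr.out.not_dvd_one))
  e6 := by
    rintro l hl S _ _ _ - ⟨F, _, _, h1, ⟨i⟩⟩
    obtain ⟨r, e, hr, _, h3, he, hF, -⟩ := char_of F h1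
    refine RowT.of_equiv i ?_
    by_cases h : l = 2 ∨ l = 3 ∨ l = 5
    · exact ((has_e6 he hF).rowB (b.e6 l h) h3).rowT (S2105.result hF) (no_cov (not_dvd_sub hr.out he 3))
    · exact Ex.Rows.row_ab (X := XT) (Ex.boxAb.e6 l F hl.out (five (by omega)) h1 (by omega))
  e7 := by
    rintro l hl S _ _ _ - ⟨F, _, _, h1, ⟨i⟩⟩
    obtain ⟨r, e, hr, _, h3, he, hF, -⟩ := char_of F h1
    refine RowT.of_equiv i ?_
    by_cases h : l = 2 ∨ l = 3 ∨ l = 5 ∨ l = 7
    · exact ((has_e7 he hF).rowB (b.e7 l h) h3).rowT (S2106.result hF) (no_cov (not_dvd_sub hr.out he 2))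
    · exact Ex.Rows.row_ab (X := XT) (Ex.boxAb.e7 l F hl.out (five (by omega)) h1 (by omega))
  e8 := by
    rintro l hl S _ _ _ - ⟨F, _, _, h1, ⟨i⟩⟩
    obtain ⟨r, e, hr, _, h3, he, hF, -⟩ := char_of F h1
    refine RowT.of_equiv i ?_
    by_cases h : l = 2 ∨ l = 3 ∨ l = 5 ∨ l = 7
    · exact ((has_e8 he hF).rowB (b.e8 l h) h3).rowT S2107.result (no_cov (by rw [BD.card_cyc]; exact hr.out.not_dvd_one))
    · have h5 := five (l := l) (by omega)
      have h6 : l ≠ 6 := fun e => absurd (e ▸ hl.out) (by norm_num)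
      exact Ex.Rows.row_ab (X := XT) (Ex.boxAb.e8 l F hl.out (by omega) h1 (by omega))
  te6 := by
    rintro l hl S _ _ _ - ⟨F, _, _, q, h1, hq, hF, ⟨i⟩⟩
    refine RowT.of_equiv i ?_
    by_cases h : l = 2 ∨ l = 3 ∨ l = 5
    swap
    · exact Ex.Rows.row_ab (X := XT) (Ex.boxAb.te6 l F q hl.out (five (by omega)) h1 hq hF (by omega))
    by_cases h2 : q = 2
    · subst h2
      by_cases h5 : l = 3
      · exact h5 ▸ x.e62 F hF
      · obtain ⟨r, e, hr, _, h3, -, -, h4⟩ := char_of F h1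
        exact row_small (X := XT) (small_2E6 hF hl.out (h4 2 2 Nat.prime_two hF ▸ h3) h5)
    obtain ⟨r, e, hr, _, h3, he, rfl⟩ := Nt.exists_char' F h1 hq two_ne_zero hF
    exact ((has_te6 he hF).rowB (b.e6 l h) h3).rowT (S2108.result hq hF h2) (no_cov (not_dvd_add hr.out he 3))
  td4 := by
    intro l hl S _ _ _ _ hC
    by_cases h : l = 2 ∨ l = 3
    swap
    · exact Ex.Rows.row_ab (X := XT) (Ex.boxAb.td4 l S hl.out (five h) hC)
    obtain ⟨F, _, _, q, h1, hq, hF, ⟨i⟩⟩ := hC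
    obtain ⟨r, e, hr, _, h3, he, rfl⟩ := Nt.exists_char' F h1 hq three_ne_zero hF
    rcases h with rfl | rfl
    · exact RowT.of_equiv i (b.d2 r F h3 hq hF)
    · exact RowT.of_equiv i (((has_td4 he hF).rowB b.d4 h3).rowT (S2110.result hq hF)
        (no_cov (by rw [BD.card_cyc]; exact hr.out.not_dvd_one)))

end Cfsg.Agent.BZ.RT
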