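import Cfsg.Agent.BZ.RT.C5D
import Cfsg.Agent.OM.On.E6.Ax

/-!
# BZ / RT : the standard bases of the exceptional types (helper88)
-/

set_option autoImplicit false
set_option linter.unusedSectionVars false
set_option maxRecDepth 100000

namespace Cfsg.Agent.BZ.RT.C5

open Cfsg Cfsg.Lie Matrix Cfsg.Agent.DL Cfsg.Agent.HZ.L Cfsg.Agent.BZ.TA Cfsg.Agent.BZ.TA.Cl Cfsg.Agent.OM.Cu Cfsg.Agent.OM
  Cfsg.Agent.KZ.DatX Cfsg.Agent.Nodes.RGDChev Cfsg.Agent.ChevalleyStructure.CoxeterGeomTypes Cfsg.Agent.Tits.Roots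

namespace Fr88

/-- the finite check: `ν` numbers the simple roots, `Q` is the matrix of their coroots, `m` gives the coordinates of the coroots -/
def Ck (C : ChevalleyDatum) (n : ℕ) (B : Fin n → Fin n → ℤ) (ν : Fin n → Fin n) (c : ℕ → ℕ → ℤ) (Q : Fin n → Fin n → ℤ)
    (m : (Fin n → ℤ) → Fin n → ℤ) : Prop :=
  (∀ i, ∃ s : Fin C.nroots, ∀ j, vec C n s j = sr (ν i) j) ∧ (∀ i j, U.cv B (sr (ν i)) j = Q i j) ∧ (∀ i j, Q i (ν j) = c i j) ∧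
    ∀ t : Fin C.nroots, (∀ j, ∑ i, Q i j * m (vec C n t) i = U.cv B (vec C n t) j) ∧
      ((∀ i, 0 ≤ m (vec C n t) i) ∨ ∀ i, m (vec C n t) i ≤ 0)

theorem ckE6 : Ck chevE6 6 (cartanOf chevE6 6) ![0, 2, 3, 4, 5, 1] (cT 2 6) (fun i => cartanOf chevE6 6 (![0, 2, 3, 4, 5, 1] i))
    fun a i => a (![0, 2, 3, 4, 5, 1] i) := by
  unfold Ck
  decide +kernel

theorem ckE7 : Ck chevE7 7 (cartanOf chevE7 7) ![0, 2, 3, 4, 5, 6, 1] (cT 2 7)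
    (fun i => cartanOf chevE7 7 (![0, 2, 3, 4, 5, 6, 1] i)) fun a i => a (![0, 2, 3, 4, 5, 6, 1] i) := by
  unfold Ck
  decide +kernel

theorem ckE8 : Ck chevE8 8 (cartanOf chevE8 8) ![0, 2, 3, 4, 5, 6, 7, 1] (cT 2 8)
    (fun i => cartanOf chevE8 8 (![0, 2, 3, 4, 5, 6, 7, 1] i)) fun a i => a (![0, 2, 3, 4, 5, 6, 7, 1] i) := by
  unfold Ck
  decide +kernel

theorem ckD4 : Ck chevD4 4 (cartanOf chevD4 4) id (cT 1 4) (cartanOf chevD4 4) id := by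
  unfold Ck
  decide +kernel

theorem ckG2 : Ck chevG2 2 U.BG2 ![1, 0] (c2 (-1) (-3)) (fun i => U.cv U.BG2 (sr (![1, 0] i)))
    fun a i => a (![1, 0] i) * U.BG2 (![1, 0] i) (![1, 0] i) / H92.NE.bl U.BG2 a a := by
  unfold Ck
  decide +kernel

theorem ckF4 : Ck chevF4 4 U.BF4 ![3, 2, 1, 0] (cF (-1) (-2)) (fun i => U.cv U.BF4 (sr (![3, 2, 1, 0] i)))
    fun a i => a (![3, 2, 1, 0] i) * U.BF4 (![3, 2, 1, 0] i) (![3, 2, 1, 0] i) / H92.NE.bl U.BF4 a a := by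
  unfold Ck
  decide +kernel

end Fr88

variable {p : ℕ} [Fact p.Prime] {k : Type} [Field k] [CharP k p] [IsAlgClosed k] {Y : Type} [Group Y] {N : Type}
  [Fintype N] [DecidableEq N] {ρ : Y →* GL N k} {F : MulAut Y} {G : Subgroup Y} (D : Datum p ρ F G)

open Cu.BaseA in
theorem Fr88.sb {C : ChevalleyDatum} {n : ℕ} {B : Fin n → Fin n → ℤ} {ν : Fin n → Fin n} {c : ℕ → ℕ → ℤ} {Q : Fin n → Fin n → ℤ}
    {m : (Fin n → ℤ) → Fin n → ℤ} {d : Fin n → ℤ} (H : Fr88.Ck C n B ν c Q m) (car : Car (cm n c) d)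
    (h : Iso (rts D) (U.Ph C n B)) : Sb D n c := by
  obtain ⟨h1, h2, h3, h4⟩ := H
  have h5 : Cf (fun i => ((sr (ν i), U.cv B (sr (ν i))) : Vec (Fin n) × Vec (Fin n))) = cm n c :=
    Matrix.ext fun i j => (KM.Ex.sr_dot _ _).trans ((h2 i _).trans (h3 i j))
  unfold Sb
  rw [← h5] at car ⊢
  refine On.E6.tr_iso D h car (fun i => ?_) ?_
  · obtain ⟨s, hs⟩ := h1 i
    exact ⟨s, by rw [U.pr, funext hs]⟩
  · rintro _ ⟨t, rfl⟩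
    refine ⟨m (vec C n t), funext fun j => Eq.trans ?_ ((h4 t).1 j), (h4 t).2⟩
    simp only [← h2]
    rfl

/-- **[Fr]** -/
theorem boxFr : BoxFr D :=
  ⟨Fr88.sb D Fr88.ckE6 Eng.carE6, Fr88.sb D Fr88.ckE7 Eng.carE7, Fr88.sb D Fr88.ckE8 Eng.carE8, Fr88.sb D Fr88.ckG2 Eng.carG2,
    Fr88.sb D Fr88.ckF4 Eng.carF4, Fr88.sb D Fr88.ckD4 Eng.carD4⟩

end Cfsg.Agent.BZ.RT.C5
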