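import Cfsg.Agent.BZ.RT.C5S

/-!
# BZ / RT / C5 : the glue (helper2)
-/

set_option autoImplicit false
set_option linter.unusedSectionVars false

namespace Cfsg.Agent.BZ.RT.C5

open Cfsg Matrix Polynomial Cfsg.Agent.DL Cfsg.Agent.DL.PP Cfsg.Agent.KZ.Lie Cfsg.Agent.HZ.L Cfsg.Agent.BZ.TA Cfsg.Agent.BZ.TA.Cl
  Cfsg.Agent.OM.Cu Cfsg.Agent.BZ.RT.Z2 Cfsg.Agent.OM
open Cfsg.Agent.HZ.L.X (Zc Cen)

section Comb

variable {R I : Type} [Fintype R] [DecidableEq R] [Fintype I] [DecidableEq I] {P : Matrix R I ℤ} {Φ : RS I} {Ψ ΨL : RS R} {A : Mat R}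
  {q : ℤ} {c s : Lb R} {l d e : ℕ} {V : Submonoid (Mat R)}

theorem not_dvd (h : Pq q l d e) (h2 : l ≠ 2) : ¬ l ∣ d := by
  have := Fact.mk h.lp
  have h1 := ZMod.orderOf_dvd_card_sub_one (a := (q : ZMod l)) fun k => h.nd ((ZMod.intCast_zmod_eq_zero_iff_dvd q l).1 k)
  rw [h.oe, ← h.odd h2] at h1
  have h3 := h.lp.two_le
  exact fun k => absurd (Nat.le_of_dvd (by omega) (k.trans h1)) (by omega)

theorem nm_rf (h : ∀ b ∈ Ψ, Nm (rfm b) Ψ) (c : Lb R) : ∀ b ∈ Zc Ψ c, Nm (rfm b) (Zc Ψ c) := fun b hb a ha => by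
  obtain ⟨x, h1, h2, h3⟩ := h b hb.1 a ha.1
  exact ⟨x, ⟨h1, by rw [← h2, rfm_mulVec, chr_sub, chr_zsmul, ha.2, hb.2, _root_.one_zpow, inv_one, mul_one]⟩, h2, h3⟩

/-- the image of a monoid -/
def dnV (P : Matrix R I ℤ) (V : Submonoid (Mat R)) : Submonoid (Mat I) where
  carrier := {u | ∃ v ∈ V, v * P = P * u}
  mul_mem' := fun ⟨_, a, b⟩ ⟨_, a', b'⟩ => ⟨_, mul_mem a a', Tr.mul b b'⟩
  one_mem' := ⟨1, one_mem _, by rw [Matrix.one_mul, Matrix.mul_one]⟩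

theorem nm_eps (ng : ∀ a ∈ Ψ, -a ∈ Ψ) (h : Nm A Ψ) (ε : ℤˣ) : Nm ((ε : ℤ) • A) Ψ := by
  rcases Int.units_eq_one_or ε with rfl | rfl
  · rwa [Units.val_one, one_smul]
  · rw [Units.val_neg, Units.val_one, neg_one_smul]
    exact Nm.neg ng h

/-- **the pure statement** -/
theorem pure (hA : BoxA) (hL : BoxLd) {n : ℕ} {C : Mat (Fin n)} {P₀ : Matrix R (Fin n) ℤ} (O : Ok C l) (T₀ : Tr P₀ (Rc C) Ψ)
    (h : Cb Ψ q l d A ΨL V c s) : Zc ΨL c = ∅ := by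
  classical
  obtain ⟨D, hC⟩ := O.car
  have H := boxRs C D hC
  obtain ⟨e, hq⟩ := h.pq
  obtain ⟨m, m1, m2⟩ := h.fin
  obtain ⟨f, f1, f2⟩ := h.k1
  have hd := not_dvd hq O.two
  have d0 : 0 < d := Nat.pos_of_ne_zero fun e => hd (e ▸ dvd_zero l)
  obtain ⟨lam, rfl, l1⟩ := hL Ψ ΨL A d m (tr_fin T₀ H.fin) (let ⟨_, e⟩ := h.lev; e ▸ lev_sub _ _) d0 m1 m2 h.ell fun a ha k =>
    let ⟨y, y1, _, y2⟩ := h.out _ (Complex.isPrimitiveRoot_exp d d0.ne') a ha k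
    ⟨_, y, Complex.isPrimitiveRoot_exp d d0.ne', y1, y2⟩
  obtain ⟨P, μ, T, x3, x4⟩ := ad hC T₀ lam
  obtain ⟨X, x1⟩ := Gl.exists_B H T h.nm
  have x2 := Rl.zero H T (l1 ▸ x4.poly H T x1 h.nm (cyclotomic d ℤ))
  have x5 : ∀ a ∈ Rc C, ∀ b ∈ Ψ, P *ᵥ a.2 = b.2 → (b ∈ lev Ψ lam ↔ a ∈ lev (Rc C) μ) := fun a ha b hb k =>
    (and_iff_right hb).trans (Iff.trans (by rw [x4 a ha b hb k, mul_eq_zero, or_iff_right (RsP.det_ne hC)]) (and_iff_right ha).symm)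
  have T1 := tr_res T (fun _ k => k.1 : lev (Rc C) μ ⊆ _) (nm_lev (nm_rc H) μ)
  rw [im_eq T (fun _ k => k.1) x5, show {b | b ∈ Ψ ∧ b ∈ lev Ψ lam} = lev Ψ lam from Set.ext fun _ => and_iff_right_of_imp fun k => k.1]
    at T1
  have n1 := T.nm_dn x1 h.nm
  have n2 := T1.nm_dn x1 h.nmL
  have vw : dnV P V ≤ Wc C := fun u ⟨v, v1, v2⟩ =>
    let ⟨_, a, b⟩ := T.ww_dn (h.vw v1)
    T.cancel (b.symm.trans v2) ▸ H.ww ▸ a
  have vn : ∀ u ∈ dnV P V, Nm u (lev (Rc C) μ) := fun u ⟨v, v1, v2⟩ => T1.nm_dn v2 (h.vn v v1).1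
  obtain ⟨g, g1, g2, g3, g4⟩ := exists_fix hC O hq.lp x3 vw (fun u hu => let ⟨v, a, b⟩ := T1.ww_up hu; ⟨v, h.wv a, b⟩) vn
    (fun u ⟨v, v1, v2⟩ => (h.vl v v1).imp fun i k =>
      let ⟨_, a, b⟩ := T1.ww_dn k
      T.cancel (b.symm.trans (tr_pow v2 _)) ▸ a) (by
      obtain ⟨v, v1, v2⟩ := h.ne
      obtain ⟨u, -, u2⟩ := T.ww_dn (h.vw v1)
      refine ⟨u, ⟨v, v1, u2⟩, fun k => v2 ?_⟩
      obtain ⟨v', a, b⟩ := T1.ww_up k
      exact T.eq_of H (WW_mono (lev_sub _ _) a) (h.vw v1) (b.trans u2.symm) ▸ a)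
  obtain ⟨r1, r2⟩ := rank hC x3 hq.lp hd n1 n2 x2 (vw g1) (vn g g1) (by
    obtain ⟨v, v1, v2⟩ := g1
    obtain ⟨u, u1, u2⟩ := (h.vn v v1).2
    obtain ⟨u', a, b⟩ := T1.ww_dn u1
    exact ⟨u', a, T.cancel ((Tr.mul v2 x1).symm.trans (u2 ▸ Tr.mul (Tr.mul b x1) v2))⟩) g2 g3 g4
  rw [Fintype.card_fin] at r1 r2
  have T2 := (ParT.tr_lev hC x3).comp T1
  by_cases h1 : d.totient = 1
  swap
  · have h2 := Nat.mul_le_mul_right (l - 1) (show 2 ≤ d.totient by have := Nat.totient_pos.2 d0; omega)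
    have h3 := O.rk
    have h4 := Fintype.card_eq_zero_iff.1 (show Fintype.card {i // Jz C μ i} = 0 by omega)
    refine Set.eq_empty_of_forall_notMem fun b hb => ?_
    obtain ⟨a, ha, -⟩ := T1.dn b hb.1
    exact BaseA.ne_zero H ha.1 (funext fun i => (ParT.zero_iff hC x3 ha.1).1 ha.2 i fun k => h4.elim ⟨i, k⟩)
  obtain ⟨ε, e1, e2⟩ : ∃ ε : ℤˣ, IsPrimitiveRoot ((ε : ℤ) : ℂ) d ∧ ((ε : ℤ) • X) *ᵥ μ = μ := by
    rcases Nat.totient_eq_one_iff.1 h1 with rfl | rfl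
    · refine ⟨1, by simp, ?_⟩
      rw [cyclotomic_one, map_sub, aeval_X, map_one, sub_mulVec, one_mulVec, sub_eq_zero] at x2
      rwa [Units.val_one, one_smul]
    · refine ⟨-1, by simpa using IsPrimitiveRoot.neg_one 0 (by decide), ?_⟩
      rw [cyclotomic_two, map_add, aeval_X, map_one, add_mulVec, one_mulVec, add_eq_zero_iff_neg_eq] at x2
      rwa [Units.val_neg, Units.val_one, neg_one_smul, neg_mulVec]
  obtain ⟨u, u1, σ, -, s2⟩ := adj hC x3 (nm_eps (Ψ := lev (Rc C) μ) (fun a ha => ⟨H.neg a ha.1, by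
    rw [Prod.fst_neg, neg_dotProduct, ha.2, neg_zero]⟩) n2 ε)
  obtain ⟨π, p1, p2⟩ := dia hC x3 (Nm.mul (H.nm u (H.ww ▸ WW_mono (lev_sub _ _) u1)) (nm_eps H.neg n1 ε))
    (by rw [← mulVec_mulVec, e2, Ad.fix (fun _ ha => ha.2) u1]) s2
  have hJ : ∀ i, i ∈ Finset.univ.filter (Jz C μ) ↔ Jz C μ i := fun i => by simp
  rw [h1, one_mul, Fintype.card_subtype, add_comm] at r1
  rw [Fintype.card_subtype] at r2
  rcases O.fin _ r1 with ⟨k0, x, t, k1, k2, k3⟩ | ⟨⟨ν, k1⟩, k2⟩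
  · obtain ⟨y, y1, y2⟩ := r2 k0 x
    have k4 : (2 : ℤ) ∣ l * ∑ j ∈ t, C x j := by
      rw [Finset.mul_sum, ← Finset.sum_congr rfl fun j hj => y2 j ((hJ j).1 (k1 hj)), Finset.sum_comm]
      refine Finset.dvd_sum fun i _ => ?_
      rw [← Finset.sum_mul]
      by_cases hi : Jz C μ i
      exacts [(k2 i ((hJ i).2 hi)).mul_right _, by rw [y1 i hi, mul_zero]; exact dvd_zero _]
    exact (k3 ((Int.prime_two.dvd_or_dvd k4).resolve_left fun k => O.two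
      ((Nat.prime_dvd_prime_iff_eq Nat.prime_two hq.lp).1 (Int.natCast_dvd_natCast.1 k)).symm)).elim
  obtain rfl : σ = 1 := Equiv.ext fun j => Subtype.ext ((p2 j).symm.trans (k2 π p1
    (fun j hj => (hJ _).2 ((p2 ⟨j, (hJ j).1 hj⟩).symm ▸ (σ _).2)) j ((hJ j).2 j.2)))
  have hC' := ParT.car_res (Jz C μ) hC
  obtain ⟨u', a1, a2, -⟩ := WW_inv (fun a ha => H.two a ha.1) u1
  obtain ⟨w, w1, w2⟩ := (ParT.tr_lev hC x3).ww_dn a1
  refine hA _ _ _ _ _ A w ε (fun i => ν i) d f hC' T2 (fun i j k => Subtype.ext ((k1 i ((hJ i).2 i.2) j ((hJ j).2 j.2)).2 k))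
    (fun i j => (k1 i ((hJ i).2 i.2) j ((hJ j).2 j.2)).1) ((boxRs _ _ hC').ww ▸ w1) ?_ h.nmL (fun _ k => k.1)
    (nm_zc m1 m2 h.nmL h.fx) (nm_rf T1.nm c) e1 f1 f2
  have k3 := congrArg (fun Y : Matrix (Fin n) {i // Jz C μ i} ℤ => (ε : ℤ) • (u' * Y)) s2
  simp only [pm_one, Matrix.mul_one, ← Matrix.mul_assoc, a2, Matrix.one_mul, w2, Matrix.smul_mul, Matrix.mul_smul, smul_smul,
    Int.units_coe_mul_self, one_smul] at k3
  rw [← Matrix.mul_assoc, x1, Matrix.mul_assoc, k3, Matrix.mul_assoc, Matrix.mul_smul, Matrix.mul_smul, Matrix.mul_smul]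

end Comb

variable {p : ℕ} [Fact p.Prime] {k : Type} [Field k] [CharP k p] [IsAlgClosed k] {Y : Type} [Group Y] {N : Type}
  [Fintype N] [DecidableEq N] {ρ : Y →* GL N k} {F : MulAut Y} {G : Subgroup Y} (D : Datum p ρ F G)

/-- **the glue** -/
theorem c5_of (hA : BoxA) (hL : BoxLd) (hO : BoxOk) (hF : BoxFr D) : BoxC5 D := by
  intro B l z T hT q d w ΨL V c s h
  have key : Zc ΨL c = ∅ := by
    rcases hT with ⟨hl, k | k | k⟩ | ⟨rfl, k | k | k⟩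
    exacts [(hF.e6 k).elim fun _ t => pure hA hL (hO.e6 l hl) t h, (hF.e7 k).elim fun _ t => pure hA hL (hO.e7 l hl) t h,
      (hF.e8 k).elim fun _ t => pure hA hL (hO.e8 l hl) t h, (hF.g2 k).elim fun _ t => pure hA hL hO.g2 t h,
      (hF.f4 k).elim fun _ t => pure hA hL hO.f4 t h, (hF.d4 k).elim fun _ t => pure hA hL hO.d4 t h]
  refine ⟨1, ⟨⟨0, one_pow _⟩, fun _ => by rw [map_one, map_one], fun _ _ => map_one _, fun _ _ _ => by rw [map_one, map_one]⟩,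
    fun _ => rfl, .inl fun a _ _ b hb => ?_⟩
  rw [mul_one, key] at hb
  exact hb.elim

end Cfsg.Agent.BZ.RT.C5
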