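import Cfsg.Agent.BZ.RT.C5D

/-!
# BZ / RT / C5 : the rank of the moved lattice (helper2)
-/

set_option autoImplicit false
set_option linter.unusedSectionVars false

namespace Cfsg.Agent.BZ.RT.C5

open Polynomial Module

namespace Rk

theorem bez {N : ℕ} (hN : 0 < N) {f : ℤ[X]} (h0 : f ≠ 0) (h8 : f.natDegree < N.totient) :
    ∃ (c : ℤ) (a b : ℤ[X]), c ≠ 0 ∧ C c = a * cyclotomic N ℤ + b * f := by
  have hm := cyclotomic.monic N ℤ
  have : IsDomain (AdjoinRoot (cyclotomic N ℤ)) := AdjoinRoot.isDomain_of_prime (cyclotomic.irreducible hN).prime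
  have : Module.Finite ℤ (AdjoinRoot (cyclotomic N ℤ)) := hm.finite_adjoinRoot
  have h1 : AdjoinRoot.mk (cyclotomic N ℤ) f ≠ 0 :=
    AdjoinRoot.mk_ne_zero_of_natDegree_lt hm h0 (by rwa [natDegree_cyclotomic])
  obtain ⟨c, hc, s, hs⟩ := (Algebra.IsIntegral.isIntegral (R := ℤ) _).isAlgebraic.exists_nonzero_dvd
    (mem_nonZeroDivisors_of_ne_zero h1)
  obtain ⟨b, rfl⟩ := AdjoinRoot.mk_surjective s
  rw [← map_mul, AdjoinRoot.algebraMap_eq, ← AdjoinRoot.mk_C, AdjoinRoot.mk_eq_mk] at hs
  obtain ⟨a, ha⟩ := hs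
  exact ⟨c, a, b, hc, by linear_combination ha⟩

variable {M : Type} [AddCommGroup M] [IsTorsionFree ℤ M]

theorem zero_of {N : ℕ} (hN : 0 < N) {B : End ℤ M} {f : ℤ[X]} (h0 : f ≠ 0) (h8 : f.natDegree < N.totient) {v : M}
    (h1 : aeval B (cyclotomic N ℤ) v = 0) (h2 : aeval B f v = 0) : v = 0 := by
  obtain ⟨c, a, b, hc, h⟩ := bez hN h0 h8
  have h3 := congrArg (fun g => aeval B g v) h
  simp only [map_add, map_mul, LinearMap.add_apply, End.mul_apply, h1, h2, map_zero, add_zero, aeval_C, algebraMap_end_apply] at h3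
  exact (smul_eq_zero.1 h3).resolve_left hc

theorem comm {a b : End ℤ M} (h : Commute a b) (f g : ℤ[X]) : Commute (aeval a f) (aeval b g) := by
  have k : ∀ {a b : End ℤ M}, Commute a b → ∀ f : ℤ[X], Commute (aeval a f) b := fun h f => by
    induction f using Polynomial.induction_on' with
    | add p q hp hq =>
      rw [map_add]
      exact hp.add_left hq
    | monomial n c =>
      rw [aeval_monomial]
      exact (Algebra.commute_algebraMap_left c _).mul_left (h.pow_left n)
  exact (k (k h f).symm g).symm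

theorem pow_fix {a : End ℤ M} {d : ℕ} {y : M} (h : aeval a (cyclotomic d ℤ) y = 0) : (a ^ d) y = y := by
  obtain ⟨g, hg⟩ := cyclotomic.dvd_X_pow_sub_one d ℤ
  have := congrArg (fun g => aeval a g y) hg
  simp only [mul_comm (cyclotomic d ℤ), map_mul, End.mul_apply, h, map_zero, map_sub, map_pow, aeval_X, map_one, LinearMap.sub_apply,
    End.one_apply] at this
  exact sub_eq_zero.1 this

theorem nrm {w : End ℤ M} {l : ℕ} (hl : l.Prime) {y : M} (h : w y = y) : aeval w (cyclotomic l ℤ) y = l • y := by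
  have := Fact.mk hl
  have k : ∀ i : ℕ, (w ^ i) y = y := fun i => by
    induction i with
    | zero => rfl
    | succ i ih => rw [pow_succ, End.mul_apply, h, ih]
  simp only [cyclotomic_prime, map_sum, map_pow, aeval_X, LinearMap.sum_apply, k, Finset.sum_const, Finset.card_range]

/-- a vector which generates a free module over the cyclotomic integers of level `l d` -/
theorem gen {a w : End ℤ M} (hc : Commute a w) {l d : ℕ} (hl : l.Prime) (hd : ¬ l ∣ d) (hw : w ^ l = 1) {μ : M}
    (h1 : aeval a (cyclotomic d ℤ) μ = 0) (h2 : w μ ≠ μ) :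
    ∃ y, y ≠ 0 ∧ aeval (a * w) (cyclotomic (d * l) ℤ) y = 0 ∧ aeval w (cyclotomic l ℤ) y = 0 := by
  have := Fact.mk hl
  have k1 : aeval a (cyclotomic d ℤ) (w μ - μ) = 0 := by
    have := LinearMap.congr_fun (comm hc (cyclotomic d ℤ) X).eq μ
    simp only [aeval_X, End.mul_apply, h1, map_zero] at this
    rw [map_sub, this, h1, sub_zero]
  have k2 : aeval w (cyclotomic l ℤ) (w μ - μ) = 0 := by
    have := congrArg (fun g => aeval w g μ) (cyclotomic_prime_mul_X_sub_one ℤ l)
    simpa only [map_mul, End.mul_apply, map_sub, map_pow, aeval_X, map_one, LinearMap.sub_apply, End.one_apply, hw, sub_self,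
      LinearMap.zero_apply] using this
  have k3 := sub_ne_zero.2 h2
  generalize w μ - μ = y at k1 k2 k3
  refine ⟨aeval (a * w) (cyclotomic d ℤ) y, fun e => k3 ?_, ?_, ?_⟩
  · have k4 := pow_fix e
    rw [hc.mul_pow, (hc.pow_pow d d).eq, End.mul_apply, pow_fix k1] at k4
    obtain ⟨m, -, k5⟩ := Nat.exists_mul_mod_eq_one_of_coprime ((hl.coprime_iff_not_dvd.2 hd).symm) hl.one_lt
    have k6 : ∀ i : ℕ, ((w ^ d) ^ i) y = y := fun i => by
      induction i with
      | zero => rfl
      | succ i ih => rw [pow_succ, End.mul_apply, k4, ih]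
    have k7 := k6 m
    rw [← pow_mul, ← Nat.div_add_mod (d * m) l, k5, pow_add, pow_mul, hw, one_pow, one_mul, pow_one] at k7
    rw [nrm hl k7, ← natCast_zsmul] at k2
    exact (smul_eq_zero.1 k2).resolve_left (Int.natCast_ne_zero.2 hl.ne_zero)
  · rw [← End.mul_apply, ← map_mul, ← cyclotomic_expand_eq_cyclotomic_mul hl hd, expand_aeval, hc.mul_pow, hw, mul_one, ← expand_aeval,
      cyclotomic_expand_eq_cyclotomic_mul hl hd, map_mul, End.mul_apply, k1, map_zero]
  · rw [← End.mul_apply, (comm (hc.symm.mul_right (.refl w)) _ _).eq, End.mul_apply, k2, map_zero]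

/-- the count -/
theorem cnt {N J : Type} [AddCommGroup N] [Module.Finite ℤ N] [IsTorsionFree ℤ N] [Fintype J] {a w : End ℤ M} (hc : Commute a w)
    {l d : ℕ} (hl : l.Prime) (hd : ¬ l ∣ d) (hw : w ^ l = 1) {μ : M} (h1 : aeval a (cyclotomic d ℤ) μ = 0) (h2 : w μ ≠ μ)
    (ι : M →ₗ[ℤ] N) (hι : Function.Injective ι) {v : End ℤ N} (hv : ∀ (g : ℤ[X]) y, aeval v g (ι y) = ι (aeval w g y)) (u : (J → ℤ) →ₗ[ℤ] N)
    (hu : ∀ β, u β = 0 → β = 0) (h3 : ∀ β, v (u β) = u β) : d.totient * (l - 1) + Fintype.card J ≤ finrank ℤ N := by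
  obtain ⟨y, y0, y1, y2⟩ := gen hc hl hd hw h1 h2
  have d0 : 0 < d * l := Nat.mul_pos (Nat.pos_of_ne_zero fun e => hd (e ▸ dvd_zero l)) hl.pos
  let φ : (degreeLT ℤ (d * l).totient × (J → ℤ)) →ₗ[ℤ] N :=
    (ι ∘ₗ LinearMap.applyₗ y ∘ₗ (aeval (a * w)).toLinearMap ∘ₗ (degreeLT ℤ _).subtype).coprod u
  have h4 : Function.Injective φ := (injective_iff_map_eq_zero φ).2 fun ⟨f, β⟩ hf => by
    have k1 : ι (aeval (a * w) f.1 y) + u β = 0 := hf
    have k2 := congrArg (aeval v (cyclotomic l ℤ)) k1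
    rw [map_add, hv, ← End.mul_apply, (comm (hc.symm.mul_right (.refl w)) _ _).eq, End.mul_apply, y2, map_zero, map_zero, zero_add,
      map_zero, nrm hl (h3 β), ← natCast_zsmul] at k2
    have k3 := (smul_eq_zero.1 k2).resolve_left (Int.natCast_ne_zero.2 hl.ne_zero)
    rw [k3, add_zero] at k1
    refine Prod.ext (Subtype.ext (by_contra fun e => y0 ?_)) (hu β k3)
    exact zero_of d0 e ((natDegree_lt_iff_degree_lt e).2 (mem_degreeLT.1 f.2)) y1 (hι (k1.trans (map_zero ι).symm))
  have h5 := LinearMap.finrank_le_finrank_of_injective h4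
  have := Module.Free.of_equiv (degreeLTEquiv ℤ (d * l).totient).symm
  have := Module.Finite.equiv (degreeLTEquiv ℤ (d * l).totient).symm
  rwa [finrank_prod, (degreeLTEquiv ℤ _).finrank_eq, finrank_fin_fun, finrank_fintype_fun_eq_card,
    Nat.totient_mul (hl.coprime_iff_not_dvd.2 hd).symm, Nat.totient_prime hl] at h5

theorem res {N : Type} [AddCommGroup N] {a : End ℤ M} {v : End ℤ N} (ι : M →ₗ[ℤ] N) (h : ∀ y, v (ι y) = ι (a y)) (g : ℤ[X]) (y : M) :
    aeval v g (ι y) = ι (aeval a g y) := by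
  have k : ∀ (i : ℕ) y, (v ^ i) (ι y) = ι ((a ^ i) y) := fun i => by
    induction i with
    | zero => exact fun _ => rfl
    | succ i ih => exact fun y => by rw [pow_succ, pow_succ, End.mul_apply, End.mul_apply, h, ih]
  induction g using Polynomial.induction_on' with
  | add p q hp hq => rw [map_add, map_add, LinearMap.add_apply, LinearMap.add_apply, map_add, hp, hq]
  | monomial n c => simp only [aeval_monomial, End.mul_apply, algebraMap_end_apply, k, map_smul]

open Matrix in
theorem lin {I : Type} [Fintype I] [DecidableEq I] (A : Matrix I I ℤ) (g : ℤ[X]) (y : I → ℤ) :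
    aeval (toLin' A) g y = aeval A g *ᵥ y := by
  rw [← toLin'_apply (aeval A g)]
  exact LinearMap.congr_fun (aeval_algHom_apply (toLinAlgEquiv' (R := ℤ) (n := I)).toAlgHom A g) y

end Rk

open Rk Matrix Cfsg.Agent.HZ.L in
/-- **[Rk]** -/
theorem boxRk : BoxRk := by
  intro I J _ _ _ _ L X v l d μ u hl hd hv h h1 h2 h3 h4 h5
  let M : Submodule ℤ (I → ℤ) :=
    { carrier := {y | Perp L y}
      add_mem' := fun hx hy a ha => by rw [dotProduct_add, hx a ha, hy a ha, add_zero]
      zero_mem' := fun a _ => dotProduct_zero _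
      smul_mem' := fun c _ hx a ha => by rw [dotProduct_smul, hx a ha, smul_zero] }
  let a : End ℤ M := (toLin' X).restrict fun y hy => (h y hy).1
  let w : End ℤ M := (toLin' v).restrict fun y hy => (h y hy).2.1
  have k1 := res (a := a) (v := toLin' X) M.subtype fun _ => rfl
  have k2 := res (a := w) (v := toLin' v) M.subtype fun _ => rfl
  have k3 := cnt (a := a) (w := w) (LinearMap.ext fun y => Subtype.ext (h y.1 y.2).2.2) hl hd (LinearMap.ext fun y => Subtype.ext (by
      have := k2 (Polynomial.X ^ l) y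
      rw [lin, map_pow, map_pow, aeval_X, aeval_X, hv, one_mulVec] at this
      exact this.symm)) (μ := ⟨μ, h1⟩) (Subtype.ext ((k1 _ _).symm.trans ((lin _ _ _).trans h2)))
    (fun e => h3 (congrArg Subtype.val e)) M.subtype M.injective_subtype k2 (toLin' u) h4 fun β => by
      rw [toLin'_apply, toLin'_apply, mulVec_mulVec, h5]
  rwa [finrank_fintype_fun_eq_card] at k3

end Cfsg.Agent.BZ.RT.C5
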