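import Cfsg.Agent.BZ.RT.C5R
import Cfsg.Agent.BZ.RT.Z2G
import Cfsg.Agent.BZ.RT.Z2Par
import Cfsg.Agent.BZ.RT.Z2Ad

/-!
# BZ / RT / C5 : standard parabolic subsystems and their normalisers (helper2)
-/

set_option autoImplicit false
set_option linter.unusedSectionVars false

namespace Cfsg.Agent.BZ.RT.C5

open Cfsg Matrix Polynomial Cfsg.Agent.DL Cfsg.Agent.HZ.L Cfsg.Agent.BZ.TA Cfsg.Agent.BZ.TA.Cl Cfsg.Agent.OM.Cu Cfsg.Agent.BZ.RT.Z2

variable {R I : Type} [Fintype R] [DecidableEq R] [Fintype I] [DecidableEq I] {P : Matrix R I ℤ} {Ψ : RS R} {C X g : Mat I} {A : Mat R}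
  {D : I → ℤ} {μ : Vec I} {lam : Vec R} {L : RS I}

/-- `μ` is the projection of `lam` -/
def Rl (C : Mat I) (P : Matrix R I ℤ) (Ψ : RS R) (μ : Vec I) (lam : Vec R) : Prop :=
  ∀ a ∈ Rc C, ∀ b ∈ Ψ, P *ᵥ a.2 = b.2 → a.1 ⬝ᵥ μ = C.det * (b.1 ⬝ᵥ lam)

theorem ad (h : Car C D) (T : Tr P (Rc C) Ψ) (lam : Vec R) :
    ∃ (P' : Matrix R I ℤ) (μ : Vec I), Tr P' (Rc C) Ψ ∧ Dom C μ ∧ Rl C P' Ψ μ lam := by
  have H := boxRs C D h
  obtain ⟨v, hv⟩ := Ad.exists_dn h T lam
  obtain ⟨u, hu, h2⟩ := Ad.exists_dom H v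
  obtain ⟨u', hu', h3, -⟩ := H.inv u hu
  refine ⟨P * u', u *ᵥ v, (Ad.tr_w H hu').comp T, h2, fun a ha b hb e => ?_⟩
  obtain ⟨a', a1, a2, a3⟩ := H.nm u' hu' a ha
  rw [← a3, ← dotProduct_mulVec, mulVec_mulVec, h3, one_mulVec, hv a' a1 b hb (by rw [← a2, mulVec_mulVec, e])]

theorem Rl.poly (H : Rs C D) (T : Tr P (Rc C) Ψ) (hX : A * P = P * X) (hA : Nm A Ψ) (h : Rl C P Ψ μ lam) (f : ℤ[X]) :
    Rl C P Ψ (aeval X f *ᵥ μ) (aeval A f *ᵥ lam) := by
  have k : ∀ i : ℕ, Rl C P Ψ (X ^ i *ᵥ μ) (A ^ i *ᵥ lam) := fun i => by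
    induction i with
    | zero => rwa [pow_zero, pow_zero, one_mulVec, one_mulVec]
    | succ i ih =>
      intro a ha b hb e
      obtain ⟨a', a1, a2, a3⟩ := TrL.nm_surj H (T.nm_dn hX hA) a ha
      obtain ⟨b', b1, b2, -⟩ := T.up a' a1
      obtain ⟨c, c1, c2, c3⟩ := hA b' b1
      obtain rfl := T.ext c c1 b hb (by rw [← c2, ← b2, mulVec_mulVec, hX, ← mulVec_mulVec, a2, e])
      rw [pow_succ', pow_succ', ← mulVec_mulVec, ← mulVec_mulVec, dotProduct_mulVec, a3, ih a' a1 b' b1 b2, dotProduct_mulVec c.1, c3]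
  induction f using Polynomial.induction_on' with
  | add p q hp hq =>
    intro a ha b hb e
    rw [map_add, map_add, add_mulVec, add_mulVec, dotProduct_add, dotProduct_add, hp a ha b hb e, hq a ha b hb e, mul_add]
  | monomial n c =>
    intro a ha b hb e
    rw [aeval_monomial, aeval_monomial, ← Algebra.smul_def, ← Algebra.smul_def, smul_mulVec, smul_mulVec, dotProduct_smul,
      dotProduct_smul, k n a ha b hb e, smul_eq_mul, smul_eq_mul, mul_left_comm]

theorem Rl.zero (H : Rs C D) (T : Tr P (Rc C) Ψ) (h : Rl C P Ψ μ 0) : μ = 0 := H.top _ fun a ha =>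
  let ⟨b, hb, e, _⟩ := T.up a ha
  (h a ha b hb e).trans (by rw [dotProduct_zero, mul_zero])

theorem perp (H : Rs C D) (h : Nm g (Rc C)) (hL : Nm g L) {y : Vec I} (hy : Perp L y) : Perp L (g *ᵥ y) := fun a ha => by
  obtain ⟨n, h1, h2⟩ := fin_ord H h
  obtain ⟨b, hb, -, e⟩ := Nm.pow hL (n - 1) a ha
  rw [← e, ← dotProduct_mulVec, mulVec_mulVec, ← pow_succ, Nat.sub_add_cancel h1, h2, one_mulVec, hy b hb]

theorem inc_single {J : I → Prop} [DecidablePred J] (j : {i // J i}) : inc J *ᵥ Pi.single j 1 = Pi.single (j : I) 1 := by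
  rw [mulVec_single_one]
  funext i
  simp [inc, one_apply, Pi.single_apply]

theorem inc_out {J : I → Prop} [DecidablePred J] (β : Vec {i // J i}) {i : I} (hi : ¬ J i) : (inc J *ᵥ β) i = 0 :=
  Finset.sum_eq_zero fun x _ => mul_eq_zero_of_left (one_apply_ne fun e => hi ((show i = x from e) ▸ x.2)) _

/-- the base of the Levi subsystem is kept after a correction -/
theorem adj (h : Car C D) (hd : Dom C μ) (hL : Nm g (lev (Rc C) μ)) : ∃ u ∈ WW (lev (Rc C) μ), ∃ π : Equiv.Perm {i // Jz C μ i},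
    (∀ i j, C (π i) (π j) = C i j) ∧ u * g * inc (Jz C μ) = inc (Jz C μ) * pm π := by
  have T := ParT.tr_lev h hd
  have hJ := ParT.car_res (Jz C μ) h
  have H := boxRs _ _ hJ
  obtain ⟨Y, hY⟩ := Gl.exists_B H T hL
  obtain ⟨w, hw, π, h1, rfl⟩ := boxCh boxRs _ _ Y hJ (T.nm_dn hY hL)
  obtain ⟨w', h2, h3, -⟩ := H.inv w hw
  obtain ⟨u, h4, h5⟩ := T.ww_up (H.ww ▸ h2)
  exact ⟨u, h4, π, h1, by rw [Tr.mul h5 hY, ← mul_assoc, h3, one_mul]⟩

/-- diagram automorphisms -/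
theorem dia (h : Car C D) (hd : Dom C μ) (hg : Nm g (Rc C)) (h1 : g *ᵥ μ = μ) {σ : Equiv.Perm {i // Jz C μ i}}
    (h2 : g * inc (Jz C μ) = inc (Jz C μ) * pm σ) : ∃ π : Equiv.Perm I, (∀ i j, C (π i) (π j) = C i j) ∧ ∀ j : {i // Jz C μ i}, π j = σ j := by
  have H := boxRs C D h
  have k : ∀ j : {i // Jz C μ i}, g *ᵥ Pi.single (j : I) 1 = Pi.single (σ j : I) 1 := fun j => by
    rw [← inc_single, mulVec_mulVec, h2, ← mulVec_mulVec, pm_single, inc_single]
  obtain ⟨π, h3, rfl⟩ := Ch.of_pos H hg fun i => by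
    by_cases hi : Jz C μ i
    · exact (k ⟨i, hi⟩).symm ▸ Pi.single_nonneg.2 zero_le_one
    obtain ⟨b, hb, b1, b2⟩ := hg _ (H.mem i)
    refine b1 ▸ (H.pn b hb).resolve_right fun h0 => hi (le_antisymm ?_ (hd i))
    have := ParT.nonneg h hd (H.neg b hb) (neg_nonneg.2 h0)
    rwa [Prod.fst_neg, neg_dotProduct, neg_nonneg, ← h1, dotProduct_mulVec, b2] at this
  refine ⟨π, h3, fun j => by_contra fun e => ?_⟩
  have := congrFun (k j) (π j)
  rw [pm_single, Pi.single_eq_same, Pi.single_eq_of_ne e] at this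
  exact one_ne_zero this

/-- the Weyl group contains no diagram automorphism -/
theorem pm_eq (h : Car C D) {π : Equiv.Perm I} (h1 : ∀ i j, C (π i) (π j) = C i j) (h2 : pm π ∈ Wc C) : pm π = 1 := by
  have H := boxRs C D h
  have k0 : ((fun _ => C.det) ᵥ* adjugate C) ᵥ* C = fun _ => C.det * C.det := by
    rw [vecMul_vecMul, adjugate_mul, vecMul_smul, vecMul_one]
    rfl
  generalize (fun _ => C.det) ᵥ* adjugate C = ν at k0
  have k1 : ∀ i, (sp C i).1 ⬝ᵥ ν = C.det * C.det := fun i => by rw [RsP.sp_dot, k0]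
  have k2 : Dom C ν := fun i => k1 i ▸ mul_self_nonneg _
  have k3 : pm π *ᵥ ν = ν := sub_eq_zero.1 (RsP.top₀ h (funext <| π.surjective.forall.2 fun i => by
    rw [sub_vecMul, k0, Pi.sub_apply, Pi.zero_apply, sub_eq_zero, ← congrFun k0 i, vecMul, vecMul, dotProduct, dotProduct,
      ← Equiv.sum_comp π]
    exact Finset.sum_congr rfl fun j _ => by rw [pm_mulVec, h1]))
  have k4 : lev (Rc C) ν = ∅ := Set.eq_empty_of_forall_notMem fun a ha => BaseA.ne_zero H ha.1 (funext fun i =>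
    (ParT.zero_iff h k2 ha.1).1 ha.2 i fun e => mul_self_ne_zero.2 (RsP.det_ne h) ((k1 i).symm.trans e))
  have k5 := ParT.stab h k2 h2 k3
  rwa [k4, WW, Set.image_empty, Submonoid.closure_empty, Submonoid.mem_bot] at k5

theorem pm_pow (π : Equiv.Perm I) (n : ℕ) : pm (π ^ n) = pm π ^ n := by
  induction n with
  | zero => rw [pow_zero, pow_zero, pm_one]
  | succ n ih => rw [pow_succ, pow_succ, pm_mul, ih]

theorem pm_inj {π : Equiv.Perm I} (h : pm π = 1) : π = 1 := Equiv.ext fun j => by_contra fun e => by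
  have := congrFun (pm_single π j) (π j)
  rw [h, one_mulVec, Pi.single_eq_same, Pi.single_eq_of_ne (show π j ≠ j from e)] at this
  exact zero_ne_one this

theorem tr_pow {S : Type} [Fintype S] [DecidableEq S] {Q : Matrix I S ℤ} {Y : Mat S} (h : g * Q = Q * Y) (n : ℕ) : g ^ n * Q = Q * Y ^ n := by
  induction n with
  | zero => rw [pow_zero, pow_zero, Matrix.one_mul, Matrix.mul_one]
  | succ n ih => rw [pow_succ, pow_succ, Tr.mul ih h]

/-- an element of the parabolic subgroup which keeps the base -/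
theorem one_of (h : Car C D) (hd : Dom C μ) (hg : g ∈ WW (lev (Rc C) μ)) {σ : Equiv.Perm {i // Jz C μ i}}
    (h1 : ∀ i j, C (σ i) (σ j) = C i j) (h2 : g * inc (Jz C μ) = inc (Jz C μ) * pm σ) : g = 1 ∧ σ = 1 := by
  have T := ParT.tr_lev h hd
  have hJ := ParT.car_res (Jz C μ) h
  have H := boxRs _ _ hJ
  obtain ⟨w, hw, e⟩ := T.ww_dn hg
  have k := pm_eq hJ h1 (T.cancel (e.symm.trans h2) ▸ H.ww ▸ hw)
  exact ⟨T.eq_of H hg (one_mem _) (by rw [h2, k, Matrix.mul_one, Matrix.one_mul]), pm_inj k⟩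

theorem fix_of {α : Type} {σ : Equiv.Perm α} {x : α} {a b : ℕ} (h : a.Coprime b) (h1 : (σ ^ a) x = x) (h2 : σ ^ b = 1) : σ x = x := by
  have := Function.IsPeriodicPt.gcd (f := σ) (x := x) (m := a) (n := b) (by rwa [Function.IsPeriodicPt, ← Equiv.Perm.coe_pow])
    (by rw [Function.IsPeriodicPt, ← Equiv.Perm.coe_pow, h2]; rfl)
  rwa [h.gcd_eq_one] at this

/-- no cycles of length `l` -/
theorem cyc {n l i : ℕ} {C g : Mat (Fin n)} (O : Ok C l) (hl : l.Prime) {J : Fin n → Prop} [DecidablePred J] (hg : g ∈ Wc C)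
    {σ : Equiv.Perm {i // J i}} (h1 : ∀ i j, C (σ i) (σ j) = C i j) (h2 : g * inc J = inc J * pm σ) (h3 : σ ^ l ^ i = 1) : σ = 1 := by
  obtain ⟨col, m, mt, hm, c1, c2⟩ := O.cyc
  have ho : Odd l := hl.odd_of_ne_two O.two
  refine Equiv.ext fun j => by_contra fun e => ?_
  have key : ∀ (x : {i // J i}) (c : ℕ), σ x ≠ x → 0 < c → c < l → mt x ≠ mt ((σ ^ c) x) := fun x c hx c0 cl e1 => by
    have k0 : c.Coprime (l ^ i) := ((Nat.coprime_of_lt_prime c0.ne' cl hl).symm).pow_right i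
    have k1 : (σ ^ c) x ≠ x := fun k => hx (fix_of k0 k h3)
    have k2 : ∀ (k : ℕ) a b, C ((σ ^ k) a) ((σ ^ k) b) = C a b := fun k => by
      induction k with
      | zero => exact fun _ _ => rfl
      | succ k ih => exact fun a b => by rw [pow_succ, Equiv.Perm.mul_apply, Equiv.Perm.mul_apply, ih, h1]
    rcases c2 _ _ e1 (fun k => k1 (Subtype.ext k).symm) with k3 | k3
    · have k4 : ∀ k : ℕ, col (((σ ^ c) ^ k) x) = col x ↔ Even k := fun k => by
        induction k with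
        | zero => simp
        | succ k ih =>
          have := c1 (((σ ^ c) ^ k) x) (((σ ^ c) ^ (k + 1)) x) (fun k => k1 (Equiv.injective _ (Subtype.ext k)).symm)
            (by rwa [pow_succ, Equiv.Perm.mul_apply, ← pow_mul, k2])
          rw [Nat.even_add_one, ← ih]
          revert this
          cases col (((σ ^ c) ^ k) x) <;> cases col (((σ ^ c) ^ (k + 1)) x) <;> cases col x <;> simp
      have k5 := (k4 (l ^ i)).1 (by rw [← pow_mul, mul_comm, pow_mul, h3, one_pow]; rfl)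
      exact Nat.not_even_iff_odd.2 ho.pow k5
    · obtain ⟨u, hu⟩ := fix_two (C := C) (v := Pi.single (x : Fin n) 1 + Pi.single ((σ ^ c) x : Fin n) 1)
        (fun i => by simpa [sp] using k3 i) (pow_mem hg c)
      rw [← inc_single, ← inc_single, mulVec_add, mulVec_mulVec, mulVec_mulVec, tr_pow h2, ← pm_pow, ← mulVec_mulVec, ← mulVec_mulVec,
        pm_single, pm_single, inc_single, inc_single, inc_single, add_comm, add_right_comm, add_left_inj] at hu
      have k4 : (σ ^ (c + c)) x = x := by_contra fun k => by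
        have := congrFun hu x
        rw [Pi.add_apply, Pi.single_eq_same, Pi.single_eq_of_ne (fun k' => k (Subtype.ext (by rw [pow_add]; exact k'.symm))),
          Pi.smul_apply, smul_eq_mul] at this
        omega
      exact hx (fix_of (by rw [← two_mul]; exact Nat.Coprime.mul_left (Nat.coprime_two_left.2 ho.pow) k0) k4 h3)
  have k : ∀ a b : Fin (m + 1), a < b → mt ((σ ^ (a : ℕ)) j) ≠ mt ((σ ^ (b : ℕ)) j) := fun a b hab => by
    have := key ((σ ^ (a : ℕ)) j) (b - a) (fun k => e ((σ ^ (a : ℕ)).injective (by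
      rw [← Equiv.Perm.mul_apply, ← pow_succ, pow_succ', Equiv.Perm.mul_apply, k]; rfl))) (Nat.sub_pos_of_lt hab) (by omega)
    rwa [← Equiv.Perm.mul_apply, ← pow_add, Nat.sub_add_cancel hab.le] at this
  obtain ⟨a, b, h4, h5⟩ := Fintype.exists_ne_map_eq_of_card_lt (fun a : Fin (m + 1) => mt ((σ ^ (a : ℕ)) j)) (by simp)
  rcases lt_or_gt_of_ne h4 with h6 | h6
  exacts [k a b h6 h5, k b a h6 h5.symm]

theorem exists_ord {M : Type} [Monoid M] {l : ℕ} (i : ℕ) : ∀ x : M, x ≠ 1 → x ^ l ^ i = 1 → ∃ k, x ^ k ≠ 1 ∧ (x ^ k) ^ l = 1 := by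
  induction i with
  | zero => exact fun x h1 h2 => absurd (by simpa using h2) h1
  | succ i ih =>
    intro x h1 h2
    by_cases e : x ^ l = 1
    · exact ⟨1, by rwa [pow_one], by rwa [pow_one]⟩
    · obtain ⟨k, k1, k2⟩ := ih _ e (by rwa [← pow_mul, ← pow_succ'])
      exact ⟨l * k, by rwa [pow_mul], by rwa [pow_mul]⟩

/-- **an element of order `l` which fixes the Levi subsystem** -/
theorem exists_fix {n l : ℕ} {C : Mat (Fin n)} {D : Fin n → ℤ} {μ : Vec (Fin n)} (h : Car C D) (O : Ok C l) (hl : l.Prime) (hd : Dom C μ)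
    {V : Submonoid (Mat (Fin n))} (vw : V ≤ Wc C) (wv : WW (lev (Rc C) μ) ≤ V) (vn : ∀ v ∈ V, Nm v (lev (Rc C) μ))
    (vl : ∀ v ∈ V, ∃ i : ℕ, v ^ l ^ i ∈ WW (lev (Rc C) μ)) (ne : ∃ v ∈ V, v ∉ WW (lev (Rc C) μ)) :
    ∃ v ∈ V, v ^ l = 1 ∧ v * inc (Jz C μ) = inc (Jz C μ) ∧ v *ᵥ μ ≠ μ := by
  obtain ⟨v, v1, v2⟩ := ne
  obtain ⟨u, u1, σ, s1, s2⟩ := adj h hd (vn v v1)
  have k1 := mul_mem (wv u1) v1
  obtain ⟨i, k2⟩ := vl _ k1
  have k3 : ∀ (k : ℕ) a b, C ((σ ^ k) a) ((σ ^ k) b) = C a b := fun k => by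
    induction k with
    | zero => exact fun _ _ => rfl
    | succ k ih => exact fun a b => by rw [pow_succ, Equiv.Perm.mul_apply, Equiv.Perm.mul_apply, ih, s1]
  obtain ⟨k4, k5⟩ := one_of h hd k2 (k3 _) (by rw [tr_pow s2, pm_pow])
  obtain rfl := cyc O hl (vw k1) s1 s2 k5
  obtain ⟨k, k6, k7⟩ := exists_ord i (u * v) (fun e => by
    obtain ⟨u', a1, a2, -⟩ := WW_inv (fun a ha => (boxRs C D h).two a ha.1) u1
    rw [← one_mul v, ← a2, mul_assoc, e, mul_one] at v2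
    exact v2 a1) k4
  have k8 := tr_pow s2 k
  rw [← pm_pow, one_pow] at k8
  exact ⟨_, pow_mem k1 k, k7, by rw [k8, pm_one, Matrix.mul_one], fun e =>
    k6 (one_of h hd (ParT.stab h hd (vw (pow_mem k1 k)) e) (σ := 1) (fun _ _ => rfl) k8).1⟩

/-- **the rank** -/
theorem rank (h : Car C D) (hd : Dom C μ) {l d : ℕ} (hl : l.Prime) (h0 : ¬ l ∣ d) (hX : Nm X (Rc C)) (hX' : Nm X (lev (Rc C) μ))
    (h1 : aeval X (cyclotomic d ℤ) *ᵥ μ = 0) (hg : g ∈ Wc C) (hg' : Nm g (lev (Rc C) μ))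
    (h2 : ∃ u ∈ WW (lev (Rc C) μ), g * X = u * X * g) (h3 : g ^ l = 1) (h4 : g * inc (Jz C μ) = inc (Jz C μ)) (h5 : g *ᵥ μ ≠ μ) :
    d.totient * (l - 1) + Fintype.card {i // Jz C μ i} ≤ Fintype.card I ∧
      (Fintype.card {i // Jz C μ i} + (l - 1) = Fintype.card I → ∀ x, ∃ y : Vec I, (∀ i, ¬ Jz C μ i → y i = 0) ∧
        ∀ j, Jz C μ j → ∑ i, C i j * y i = l * C x j) := by
  have H := boxRs C D h
  have := Fact.mk hl
  obtain ⟨u, u1, u2⟩ := h2
  have key := fun {J : Type} [Fintype J] [DecidableEq J] (Q : Matrix I J ℤ) => boxRk (lev (Rc C) μ) X g l d μ Q hl h0 h3 (fun y hy =>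
    ⟨perp H hX hX' hy, perp H (H.nm g hg) hg' hy, by
      rw [mulVec_mulVec y g, u2, ← mulVec_mulVec, ← mulVec_mulVec, Ad.fix (perp H hX hX' (perp H (H.nm g hg) hg' hy)) u1]⟩)
    (fun _ ha => ha.2) h1 h5
  have T := ParT.tr_lev h hd
  refine ⟨key _ T.inj h4, fun e x => ⟨(∑ k ∈ Finset.range l, g ^ k) *ᵥ Pi.single x 1, fun i hi => by_contra fun h6 => ?_, fun j hj => ?_⟩⟩
  · have h7 : g *ᵥ ((∑ k ∈ Finset.range l, g ^ k) *ᵥ Pi.single x 1) = (∑ k ∈ Finset.range l, g ^ k) *ᵥ Pi.single x 1 := by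
      have := mul_geom_sum g l
      rw [h3, sub_self, sub_mul, one_mul, sub_eq_zero] at this
      rw [mulVec_mulVec, this]
    generalize (∑ k ∈ Finset.range l, g ^ k) *ᵥ Pi.single x 1 = y at h6 h7
    have h8 := key (fromCols (inc (Jz C μ)) (replicateCol Unit y)) (fun β hβ => by
      rw [fromCols_mulVec] at hβ
      have k1 := congrFun hβ i
      rw [Pi.add_apply, inc_out _ hi, zero_add] at k1
      have k2 : β ∘ Sum.inr = 0 := funext fun _ => by simpa [mulVec, dotProduct, h6] using k1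
      rw [k2, mulVec_zero, add_zero] at hβ
      exact funext fun z => z.casesOn (congrFun (T.inj _ hβ)) (congrFun k2)) (by rw [mul_fromCols, h4, ← replicateCol_mulVec, h7])
    have h9 := Nat.le_mul_of_pos_left (l - 1) (Nat.totient_pos.2 (Nat.pos_of_ne_zero fun e : d = 0 => h0 (e ▸ dvd_zero l)))
    rw [Fintype.card_sum, Fintype.card_unit] at h8
    omega
  · obtain ⟨b, hb, b1, b2⟩ := H.nm g hg _ (H.mem j)
    obtain rfl := H.ext b hb _ (H.mem j) (by
      rw [← b1]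
      exact (congrArg _ (inc_single ⟨j, hj⟩).symm).trans (by rw [mulVec_mulVec, h4, inc_single]; rfl))
    have k : ∀ k : ℕ, (sp C j).1 ᵥ* g ^ k = (sp C j).1 := fun k => by
      induction k with
      | zero => rw [pow_zero, vecMul_one]
      | succ k ih => rw [pow_succ, ← vecMul_vecMul, ih, b2]
    show (sp C j).1 ⬝ᵥ _ = _
    simp only [sum_mulVec, dotProduct_sum, dotProduct_mulVec, k, dotProduct_single, mul_one, Finset.sum_const, Finset.card_range,
      nsmul_eq_mul]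
    rfl

end Cfsg.Agent.BZ.RT.C5
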