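import Cfsg.Agent.BZ.RT.Bt3
import Cfsg.Agent.BZ.RT.Co2.L
import Cfsg.Agent.BZ.RT.Co2.N
import Cfsg.Agent.BZ.RT.Co2.O
import Cfsg.Agent.BZ.RT.Co3.L
import Cfsg.Agent.BZ.RT.Co3.T
import Cfsg.Agent.BZ.RT.Co3.P
import Cfsg.Agent.BZ.RT.Co3.N4
import Cfsg.Agent.BZ.RT.C5M
import Cfsg.Agent.BZ.RT.C5A
import Cfsg.Agent.BZ.RT.C5L
import Cfsg.Agent.BZ.RT.C5T
import Cfsg.Agent.BZ.RT.C5F
import Cfsg.Agent.BZ.RT.Cx.Main

/-!
# BZ / RT (S4853) : the leaves (helper17)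

`tm7`, `tm6`, `c5a`, `l3_of`, `bt2_bc`.
-/

set_option autoImplicit false
set_option linter.unusedSectionVars false
set_option maxHeartbeats 400000

namespace Cfsg.Agent.BZ.RT.B3

open Cfsg Cfsg.Agent.DL Cfsg.Agent.HZ.L Cfsg.Agent.OM

theorem tm7 : Z2.Tm7 := fun D j B h => (Co2.tm7_of Co2.boxN (Co2.boxT _) D j B h).tmK

theorem tm6 : KM.Tor.AllD fun D => Co3.BoxTm6 D := fun D =>
  Co3.tm6_of (fun D => Co3.boxT6_of Co3.boxP6 Co3.boxO6 Co3.boxN4 D) D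

theorem c5a : C5A := fun D => C5.c5_of D C5.boxA C5.boxLd C5.boxOk (C5.boxFr D)

theorem l3_of (H : Cx.Bc) : L3 := fun D j B h =>
  ⟨fun i => ⟨_, Cx.c3e6 D H h i, tm6 D j B h⟩, fun i => ⟨_, Cx.c3e7 D H h i, tm6 D j B h⟩, fun i => ⟨_, Cx.c3e8 D H h i, tm6 D j B h⟩⟩

/-- **the targets** from the boxes for the prime three -/
theorem bt2_bc (H : Cx.Bc) : BT2 := bt2_of tm7 c5a (e3_of (l3_of H))

end Cfsg.Agent.BZ.RT.B3
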