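import Cfsg.Agent.BZ.RT.RowsC
import Cfsg.Agent.BZ.L.K3.Rows
import Cfsg.Agent.S2101
import Cfsg.Agent.S2102
import Cfsg.Agent.S2104

/-!
# BZ / RT (S4853) : the data of the exceptional groups (helper73)

`has_g2`, `has_f4`, `has_e8`, `has_td4`, `has_e6`, `has_e7`, `has_te6`.
-/

set_option autoImplicit false
set_option linter.unusedSectionVars false
set_option maxHeartbeats 400000

namespace Cfsg.Agent.BZ.RT

open Cfsg Cfsg.Lie Subgroup Matrix Cfsg.Agent.KM Cfsg.Agent.BZ.L Cfsg.Agent.DL Cfsg.Agent.KM.Tor Cfsg.Agent.KZ.DatX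
  Cfsg.Agent.Nodes.RGDChev Cfsg.Agent.KM.Sc Cfsg.Agent.Tits.Roots Cfsg.Agent.BZ.K3.Rw
open Cfsg.Agent.TO.X.Cn (Pi1 PM)

namespace Rx

variable {C : ChevalleyDatum} {n : ℕ} {M₀ : CoxeterMatrix (Fin n)} {hp : IsType C n M₀} {r : ℕ} [hr : Fact r.Prime] {e : ℕ}
  {S : Type} [Group S]

theorem zc_bot {k : Type} [Field k] [CharP k r] [IsAlgClosed k] {Mx : Matrix (Fin n) (Fin n) ℤ} (X : XF hp r k Mx) :
    Zc X.D {a | X.D.Rt a} = ⊥ := eq_bot_iff.2 fun z hz => by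
  obtain ⟨c, rfl⟩ := (X.D.mem_T z).1 hz.1
  rw [mem_bot, ← map_one X.D.τ]
  refine congrArg _ (funext fun i => ?_)
  have h := (X.D.χ_τ _ c).symm.trans (hz.2 _ (isRoot_sr X.D.cs X.D.h i))
  exact ((Dat.chr_single i 1 c).trans (zpow_one _)).symm.trans (Units.val_eq_one.1 h)

theorem dm_one {Y : Type} [Group Y] {F : MulAut Y} {G : Subgroup Y} (i : S ≃* GF F G) {A : Type} [CommGroup A] {a : ℕ}
    (hA : HasSchurMultiplier S A) (ha : Nat.card A ∣ r ^ a) : Dm F G r S := fun K _ _ h1 h2 ⟨f⟩ => by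
  let σ := f.toMonoidHom.comp (QuotientGroup.mk' (center K))
  have h3 : σ.ker = center K := by
    rw [← MonoidHom.comap_ker, (MonoidHom.ker_eq_bot_iff _).2 f.injective, MonoidHom.comap_bot, QuotientGroup.ker_mk']
  have h4 : Function.Surjective σ := f.surjective.comp (QuotientGroup.mk'_surjective _)
  have h5 := (H95.StemCover.card_ker_dvd hA h1.1.commutator_eq_top σ h4 h3.le).trans ha
  have h6 : σ.ker = ⊥ := card_eq_one.1 (Nat.eq_one_of_dvd_coprimes ((hr.out.coprime_iff_not_dvd.2 h2).pow_left a) h5 (h3 ▸ dvd_rfl))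
  let j := i.symm.trans (MulEquiv.ofBijective σ ⟨(MonoidHom.ker_eq_bot_iff σ).1 h6, h4⟩).symm
  exact ⟨j.toMonoidHom, j.surjective, ((MonoidHom.ker_eq_bot_iff _).2 j.injective).le.trans bot_le⟩

theorem gd_X {k : Type} [Field k] [CharP k r] [IsAlgClosed k] {B : Matrix (Fin n) (Fin n) ℤ} (X : XF hp r k ((r : ℤ) ^ e • B))
    (he : 0 < e) {o f : ℕ} (ho : 0 < o) (h1 : B ^ o = 1) (h2 : Deg.NT r (C.group k).subtype X.F) (hP : PM C n f) : Gd X.D e f :=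
  ⟨he, cs_X X ho h1, X.D_qs, h2, TO.X.Cn.pi1 X hP, ss_X X⟩

theorem has_Y (h : Nt.HasNT hp r ((r : ℤ) ^ e • 1) 1 S) (he : 0 < e) (hP : PM C n 1) {A : Type} [CommGroup A] {a : ℕ}
    (hA : HasSchurMultiplier S A) (ha : Nat.card A ∣ r ^ a) : HasD (TY hp) r S := by
  obtain ⟨k, _, _, _, X, h1, ⟨s⟩⟩ := h
  exact Rc.hasD (X := X.D) ⟨e, gd_X X he one_pos (one_pow 1) h1 hP, K3.ty2_self X, zc_bot X, by rw [Nat.cast_pow]; rfl⟩ X.D_qs
    (dm_one s.ov.equiv hA ha)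

theorem has_X (hs : SL C n) {B : Matrix (Fin n) (Fin n) ℤ} {Adm : Matrix (Fin n) (Fin n) ℤ → Prop} {z d : ℕ}
    (he : 0 < e) (h : HasSc hp r ((r : ℤ) ^ e • B) Adm z d S) {ε : ℤ} (hε : ε ^ 2 = 1)
    (hB : ∀ (k : Type) [Field k] [CharP k r] [IsAlgClosed k] (X : XF hp r k ((r : ℤ) ^ e • B)), ∃ w, B = ε • X.D.Wm w) :
    HasD (TX hp) r S := by
  obtain ⟨k, _, _, _, X, t, -, Y, _, N, _, _, ρ, F, X', θ, s, ⟨I⟩, -, -⟩ := h
  obtain ⟨w, hw⟩ := hB k X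
  obtain ⟨m, hm, -⟩ := X.D.exists_rp w
  obtain ⟨y, hy, rfl⟩ := I.surj m (X.D.NN_le_G ⟨w, hm⟩)
  obtain ⟨w', h⟩ := I.mem_NN hy ⟨w, hm⟩
  have h3 : X'.Mx = ((r ^ e : ℕ) : ℤ) • ε • X'.Wm w' := mat_ext fun v => I.P_inj (by
    rw [← I.Mx_P, smul_mulVec, smul_mulVec, mulVec_smul, mulVec_smul, ← I.Wm_P h hm, ← smul_mulVec, ← hw, Nat.cast_pow]
    exact smul_mulVec _ _ _)
  obtain ⟨h1, h2⟩ := (RC.B.boxTy hp X hs).2 X' θ z I
  exact Rc.hasD (X := X') ⟨e, ⟨he, cs_w X' hε h3, s.qs, s.nt, s.pi1, h2⟩, h1, ε, w', hε, h3⟩ s.qs (dm_sc s)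

end Rx

open Rx

variable {r e : ℕ} [hr : Fact r.Prime] {F : Type} [Field F] [Fintype F] [CharP F r] (he : 0 < e)
include he

theorem has_g2 (hF : Fintype.card F = r ^ e) (h3 : 3 ≤ Fintype.card F) : HasD (TY hpG2) r ↥(chevG2.group F) := by
  obtain h | h | h : Fintype.card F = 3 ∨ Fintype.card F = 4 ∨ 5 ≤ Fintype.card F := by omega
  · exact has_Y (Nt.has_G2 hF h3) he TO.X.Cn.pm_G2 (a := e) (S2101.result h) (by rw [BD.card_cyc, ← hF, h])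
  · exact has_Y (Nt.has_G2 hF h3) he TO.X.Cn.pm_G2 (a := e) (S2102.result h) (by rw [BD.card_cyc, ← hF, h]; decide)
  · exact has_Y (Nt.has_G2 hF h3) he TO.X.Cn.pm_G2 (a := e) (S2100.result h) (by rw [BD.card_cyc]; exact one_dvd _)

theorem has_f4 (hF : Fintype.card F = r ^ e) : HasD (TY hpF4) r ↥(chevF4.group F) := by
  have := Fintype.one_lt_card (α := F)
  obtain h | h : Fintype.card F = 2 ∨ 3 ≤ Fintype.card F := by omega
  · exact has_Y (Nt.has_F4 hF) he TO.X.Cn.pm_F4 (a := e) (S2104.result h) (by rw [BD.card_cyc, ← hF, h])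
  · exact has_Y (Nt.has_F4 hF) he TO.X.Cn.pm_F4 (a := e) (S2103.result h) (by rw [BD.card_cyc]; exact one_dvd _)

theorem has_e8 (hF : Fintype.card F = r ^ e) : HasD (TX hpE8) r ↥(chevE8.group F) := by
  obtain ⟨k, _, _, _, X, h1, ⟨s⟩⟩ := Nt.has_E8 hF
  exact Rc.hasD (X := X.D) ⟨e, gd_X X he one_pos (one_pow 1) h1 TO.X.Cn.pm_E8, (RC.B.boxTy hpE8 X RC.B.sl_E8).1.1, 1, 1, one_pow 2,
    by rw [X.D.Wm_one, one_smul, Nat.cast_pow]; rfl⟩ X.D_qs (dm_one s.ov.equiv (a := 0) S2107.result (by rw [BD.card_cyc, pow_zero]))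

theorem has_td4 (hF : Fintype.card F = (r ^ e) ^ 3) : HasD TD r ↥(twistedD4 F (r ^ e)) := by
  obtain ⟨k, _, _, _, X, h1, ⟨s⟩⟩ := Nt.has_3D4 hF
  exact Rc.hasD (X := X.D) ⟨e, gd_X X he three_pos Nt.P4_cube h1 TO.X.Cn.pm_D4, K3.ty2_self X,
    (RC.B.boxTy hpD4 X (by decide +kernel)).1.1, zc_bot X, P4, by rw [Nat.cast_pow]; rfl, Nt.P4_cube,
    show P4 ≠ 1 by rw [P4_eq]; decide +kernel⟩ X.D_qs
    (dm_one s.ov.equiv (a := 0) (S2110.result (hr.out.isPrimePow.pow he.ne') hF) (by rw [BD.card_cyc, pow_zero]))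

theorem has_e6 (hF : Fintype.card F = r ^ e) : HasD (TX hpE6) r ↥(chevE6.group F) :=
  has_X RC.B.sl_E6 he (sc_E6 hF) (one_pow 2) fun _ _ _ _ X => ⟨1, by rw [X.D.Wm_one, one_smul]; rfl⟩

theorem has_e7 (hF : Fintype.card F = r ^ e) : HasD (TX hpE7) r ↥(chevE7.group F) :=
  has_X RC.B.sl_E7 he (sc_E7 hF) (one_pow 2) fun _ _ _ _ X => ⟨1, by rw [X.D.Wm_one, one_smul]; rfl⟩

theorem has_te6 (hF : Fintype.card F = (r ^ e) ^ 2) : HasD (TX hpE6) r ↥(twistedE6 F (r ^ e)) :=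
  has_X RC.B.sl_E6 he (sc_2E6 hF) (ε := -1) (by norm_num) fun _ _ _ _ X =>
    let ⟨w, hw⟩ := X.exists_neg_E6
    ⟨w, by rw [hw]; exact ((neg_one_smul ℤ (-P6)).trans (neg_neg _)).symm⟩

end Cfsg.Agent.BZ.RT
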